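import Mathlib.RepresentationTheory.Irreducible
import Mathlib.LinearAlgebra.Trace
import Mathlib.LinearAlgebra.Eigenspace.Basic
import Mathlib.GroupTheory.FiniteAbelian.Duality
import Mathlib.Analysis.Complex.Polynomial.Basic
import Mathlib.RingTheory.RootsOfUnity.AlgebraicallyClosed

/-!
# Eigenspaces of subgroups in complex representations

`Eig ρ A χ` is the space of vectors on which every element `a` of `A` acts as `χ a`; `χ` is only
used on `A`.
-/

set_option autoImplicit false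
set_option linter.unusedSectionVars false

namespace CfsgLib.MinDeg.SubgroupEigen

open scoped Classical

variable {G : Type*} [Group G] {V : Type*} [AddCommGroup V] [Module ℂ V]
variable (ρ : Representation ℂ G V)

/-- the vectors on which `A` acts by `χ` -/
noncomputable def Eig (A : Subgroup G) (χ : G → ℂ) : Submodule ℂ V :=
  ⨅ a ∈ A, Module.End.eigenspace (ρ a) (χ a)

/-- the vectors fixed by `A` -/
noncomputable abbrev Fx (A : Subgroup G) : Submodule ℂ V := Eig ρ A 1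

/-- a character on `A` -/
def IsChr (A : Subgroup G) (χ : G → ℂ) : Prop := χ 1 = 1 ∧ ∀ a ∈ A, ∀ b ∈ A, χ (a * b) = χ a * χ b

/-- a function is not trivial on `A` -/
def Nt (A : Subgroup G) (χ : G → ℂ) : Prop := ∃ a ∈ A, χ a ≠ 1

/-- an element preserves a subspace -/
def Stable (g : G) (W : Submodule ℂ V) : Prop := ∀ x ∈ W, ρ g x ∈ W

/-- a subgroup preserves a subspace -/
def Inv (A : Subgroup G) (W : Submodule ℂ V) : Prop := ∀ g ∈ A, Stable ρ g W

/-- the transport of a function along `g` -/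
def tw (g : G) (χ : G → ℂ) : G → ℂ := fun b => χ (g⁻¹ * b * g)

/-- the sum over a subgroup -/
noncomputable def avg (A : Subgroup G) [Fintype A] : Module.End ℂ V := ∑ a : A, ρ (a : G)

variable {ρ} {A B : Subgroup G} {χ χ' : G → ℂ} {g : G} {W W' U : Submodule ℂ V} {x : V}

theorem mem_Eig : x ∈ Eig ρ A χ ↔ ∀ a ∈ A, ρ a x = χ a • x := by
  simp [Eig, Submodule.mem_iInf]

theorem mem_Fx : x ∈ Fx ρ A ↔ ∀ a ∈ A, ρ a x = x := by
  simp [mem_Eig]

theorem act_mul (g h : G) (x : V) : ρ (g * h) x = ρ g (ρ h x) := by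
  rw [map_mul]; rfl

theorem act_one (x : V) : ρ 1 x = x := by
  rw [map_one]; rfl

theorem act_inv_self (g : G) (x : V) : ρ g⁻¹ (ρ g x) = x := by
  rw [← act_mul, inv_mul_cancel, act_one]

theorem act_self_inv (g : G) (x : V) : ρ g (ρ g⁻¹ x) = x := by
  rw [← act_mul, mul_inv_cancel, act_one]

theorem act_inj (g : G) : Function.Injective (ρ g) :=
  Function.LeftInverse.injective (g := ρ g⁻¹) (act_inv_self g)

theorem Stable.inf (h : Stable ρ g W) (h' : Stable ρ g W') : Stable ρ g (W ⊓ W') :=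
  fun x hx => ⟨h x hx.1, h' x hx.2⟩

theorem Inv.inf (h : Inv ρ A W) (h' : Inv ρ A W') : Inv ρ A (W ⊓ W') :=
  fun g hg => (h g hg).inf (h' g hg)

/-- an element commuting with `A` up to elements fixing the vector keeps the eigenvalues -/
theorem act_mem_Eig (hx : x ∈ Eig ρ A χ) (h : ∀ a ∈ A, ∃ k, a * g = g * (a * k) ∧ ρ k x = x) :
    ρ g x ∈ Eig ρ A χ := by
  refine mem_Eig.2 fun a ha => ?_
  obtain ⟨k, hk, hkx⟩ := h a ha
  rw [← act_mul, hk, act_mul, act_mul, hkx, mem_Eig.1 hx a ha, map_smul]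

theorem map_Eig (h : ∀ b ∈ B, g⁻¹ * b * g ∈ A) (hx : x ∈ Eig ρ A χ) : ρ g x ∈ Eig ρ B (tw g χ) := by
  refine mem_Eig.2 fun b hb => ?_
  have e : b * g = g * (g⁻¹ * b * g) := by group
  rw [← act_mul, e, act_mul, mem_Eig.1 hx _ (h b hb), map_smul]
  rfl

theorem map_Fx (h : ∀ b ∈ B, g⁻¹ * b * g ∈ A) (hx : x ∈ Fx ρ A) : ρ g x ∈ Fx ρ B :=
  map_Eig (χ := (1 : G → ℂ)) h hx

theorem eq_zero_of_ne (hx : x ∈ Eig ρ A χ) (hx' : x ∈ Eig ρ A χ') (h : ∃ a ∈ A, χ a ≠ χ' a) : x = 0 := by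
  obtain ⟨a, ha, hne⟩ := h
  have e : (χ a - χ' a) • x = 0 := by
    rw [sub_smul, ← mem_Eig.1 hx a ha, ← mem_Eig.1 hx' a ha, sub_self]
  exact (smul_eq_zero.1 e).resolve_left (sub_ne_zero.2 hne)

theorem eq_zero_of_nt (hx : x ∈ Eig ρ A χ) (hx' : x ∈ Fx ρ A) (h : Nt A χ) : x = 0 :=
  eq_zero_of_ne hx hx' h

theorem isChr_of_ne (hx : x ∈ Eig ρ A χ) (hx0 : x ≠ 0) : IsChr A χ := by
  have inj := smul_left_injective ℂ hx0
  refine ⟨inj ?_, fun a ha b hb => inj ?_⟩
  · show χ 1 • x = (1 : ℂ) • x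
    rw [← mem_Eig.1 hx 1 (one_mem A), act_one, one_smul]
  · show χ (a * b) • x = (χ a * χ b) • x
    rw [← mem_Eig.1 hx _ (mul_mem ha hb), act_mul, mem_Eig.1 hx b hb, map_smul, mem_Eig.1 hx a ha, smul_smul,
      mul_comm]

theorem IsChr.ne_zero (h : IsChr A χ) {a : G} (ha : a ∈ A) : χ a ≠ 0 := fun e => by
  have := h.2 a ha a⁻¹ (inv_mem ha)
  rw [mul_inv_cancel, h.1, e, zero_mul] at this
  exact one_ne_zero this

theorem exists_scalar [FiniteDimensional ℂ V] (h1 : Module.finrank ℂ W ≤ 1) (hg : Stable ρ g W) (hx : x ∈ W) :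
    ∃ m : ℂ, ρ g x = m • x := by
  by_cases hx0 : x = 0
  · exact ⟨0, by simp [hx0]⟩
  have hle : (ℂ ∙ x) ≤ W := (Submodule.span_singleton_le_iff_mem _ _).2 hx
  have he := Submodule.eq_of_le_of_finrank_le hle (by rw [finrank_span_singleton hx0]; exact h1)
  obtain ⟨m, hm⟩ := Submodule.mem_span_singleton.1 (he.symm ▸ hg x hx)
  exact ⟨m, hm.symm⟩

/-- commutators of scalars act trivially -/
theorem fix_of_scalar {a k : G} (e : a * g = g * (a * k)) (ha : ∃ m : ℂ, ρ a x = m • x)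
    (hg : ∃ m : ℂ, ρ g x = m • x) : ρ k x = x := by
  obtain ⟨m, hm⟩ := ha
  obtain ⟨n, hn⟩ := hg
  refine act_inj (ρ := ρ) a (act_inj (ρ := ρ) g ?_)
  rw [← act_mul a, ← act_mul g, ← e, act_mul, hn, map_smul, hm, map_smul, hn, smul_smul, smul_smul, mul_comm]

theorem le_finrank [FiniteDimensional ℂ V] (g : G) (h : ∀ x ∈ W, ρ g x ∈ W') :
    Module.finrank ℂ W ≤ Module.finrank ℂ W' :=
  LinearMap.finrank_le_finrank_of_injective (f := (ρ g).restrict h)
    fun _ _ e => Subtype.ext (act_inj g (congrArg Subtype.val e))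

theorem exists_ne_zero [FiniteDimensional ℂ V] (h : 0 < Module.finrank ℂ W) : ∃ x ∈ W, x ≠ 0 :=
  (Submodule.ne_bot_iff W).1 fun e => by rw [e, finrank_bot] at h; exact lt_irrefl _ h

theorem finrank_pos [FiniteDimensional ℂ V] (hx : x ∈ W) (hx0 : x ≠ 0) : 0 < Module.finrank ℂ W :=
  Nat.pos_of_ne_zero fun e => hx0 ((Submodule.mem_bot ℂ).1 (Submodule.finrank_eq_zero.1 e ▸ hx))

section sums

variable [Fintype A]

theorem avg_apply (x : V) : avg ρ A x = ∑ a : A, ρ (a : G) x := by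
  simp [avg, LinearMap.sum_apply]

theorem avg_absorb (hg : g ∈ A) (x : V) : avg ρ A (ρ g x) = avg ρ A x := by
  rw [avg_apply, avg_apply]
  exact Fintype.sum_equiv (Equiv.mulRight ⟨g, hg⟩) _ _ fun a => by
    rw [← act_mul]; rfl

theorem act_avg_self (hg : g ∈ A) (x : V) : ρ g (avg ρ A x) = avg ρ A x := by
  rw [avg_apply, map_sum]
  exact Fintype.sum_equiv (Equiv.mulLeft ⟨g, hg⟩) _ _ fun a => by
    rw [← act_mul]; rfl

theorem avg_mem_Fx (x : V) : avg ρ A x ∈ Fx ρ A :=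
  mem_Fx.2 fun _ ha => act_avg_self ha x

theorem avg_of_fixed (hx : x ∈ Fx ρ A) : avg ρ A x = (Nat.card A : ℂ) • x := by
  rw [avg_apply, Finset.sum_congr rfl fun (a : A) _ => mem_Fx.1 hx a a.2, Finset.sum_const, Finset.card_univ,
    Nat.card_eq_fintype_card, Nat.cast_smul_eq_nsmul]

theorem avg_of_nt (hx : x ∈ Eig ρ A χ) (hn : Nt A χ) : avg ρ A x = 0 := by
  obtain ⟨a, ha, hne⟩ := hn
  have h := avg_absorb (ρ := ρ) ha x
  rw [mem_Eig.1 hx a ha, map_smul] at h
  have e : (χ a - 1) • avg ρ A x = 0 := by rw [sub_smul, one_smul, h, sub_self]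
  exact (smul_eq_zero.1 e).resolve_left (sub_ne_zero.2 hne)

/-- conjugation carries one sum to the other -/
theorem act_avg [Fintype B] (h : ∀ a ∈ A, g * a * g⁻¹ ∈ B) (h' : ∀ b ∈ B, g⁻¹ * b * g ∈ A) (x : V) :
    ρ g (avg ρ A x) = avg ρ B (ρ g x) := by
  rw [avg_apply, avg_apply, map_sum]
  refine Fintype.sum_equiv
    { toFun := fun (a : A) => (⟨g * (a : G) * g⁻¹, h a a.2⟩ : B)
      invFun := fun (b : B) => (⟨g⁻¹ * (b : G) * g, h' b b.2⟩ : A)
      left_inv := fun a => Subtype.ext (by group)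
      right_inv := fun b => Subtype.ext (by group) } _ _ fun a => ?_
  rw [← act_mul, ← act_mul]
  exact congrArg (fun k => ρ k x) (by simp [mul_assoc])

theorem act_avg_comm (h : ∀ a ∈ A, a * g = g * a) (x : V) : ρ g (avg ρ A x) = avg ρ A (ρ g x) := by
  refine act_avg (fun a ha => ?_) (fun a ha => ?_) x
  · rwa [← h a ha, mul_inv_cancel_right]
  · rwa [mul_assoc, h a ha, inv_mul_cancel_left]

variable [FiniteDimensional ℂ V]

/-- if every element but one has trace zero, the fixed vectors have index the order -/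
theorem trace_block (hW : Inv ρ A W)
    (h : ∀ a ∈ A, a ≠ 1 → ∃ (g : G) (c : ℂ), c ≠ 1 ∧ Stable ρ g W ∧
      ∀ x ∈ W, ρ g (ρ a x) = c • ρ a (ρ g x)) :
    Module.finrank ℂ W = Nat.card A * Module.finrank ℂ ↥(W ⊓ Fx ρ A) := by
  let R : A → Module.End ℂ W := fun a => (ρ (a : G)).restrict (hW a a.2)
  have hR : ∀ (a : A) (y : W), ((R a y : W) : V) = ρ (a : G) (y : V) := fun a y => rfl
  have htr : ∀ a : A, a ≠ 1 → LinearMap.trace ℂ W (R a) = 0 := by
    intro a ha
    obtain ⟨g, c, hc, hg, hcom⟩ := h a a.2 fun e => ha (Subtype.ext e)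
    have hinj : Function.Injective ((ρ g).restrict hg) := fun y z e =>
      Subtype.ext (act_inj g (congrArg Subtype.val e))
    let e := LinearEquiv.ofInjectiveEndo ((ρ g).restrict hg) hinj
    have he : e.conj (R a) = c • R a := by
      refine LinearMap.ext fun y => ?_
      obtain ⟨z, rfl⟩ := e.surjective y
      rw [LinearEquiv.conj_apply_apply, e.symm_apply_apply, LinearMap.smul_apply]
      exact Subtype.ext (hcom z z.2)
    have h1 := congrArg (LinearMap.trace ℂ W) he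
    rw [LinearMap.trace_conj', map_smul, smul_eq_mul] at h1
    exact (mul_eq_zero.1 (by linear_combination h1 : (1 - c) * LinearMap.trace ℂ W (R a) = 0)).resolve_left
      (sub_ne_zero.2 (Ne.symm hc))
  have hne : (Fintype.card A : ℂ) ≠ 0 := Nat.cast_ne_zero.2 Fintype.card_ne_zero
  have hP : ∀ y : W, ((((Fintype.card A : ℂ)⁻¹ • ∑ a, R a) y : W) : V) =
      (Fintype.card A : ℂ)⁻¹ • avg ρ A (y : V) := fun y => by
    simp [avg_apply, LinearMap.sum_apply, hR]
  have hproj : LinearMap.IsProj ((W ⊓ Fx ρ A).comap W.subtype) ((Fintype.card A : ℂ)⁻¹ • ∑ a, R a) := by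
    refine ⟨fun y => ⟨(((Fintype.card A : ℂ)⁻¹ • ∑ a, R a) y).2, ?_⟩, fun y hy => Subtype.ext ?_⟩
    · show ((((Fintype.card A : ℂ)⁻¹ • ∑ a, R a) y : W) : V) ∈ Fx ρ A
      rw [hP]
      exact Submodule.smul_mem _ _ (avg_mem_Fx _)
    · rw [hP, avg_of_fixed (ρ := ρ) (show (y : V) ∈ Fx ρ A from hy.2), Nat.card_eq_fintype_card, smul_smul, inv_mul_cancel₀ hne, one_smul]
  have h1 := hproj.trace
  rw [map_smul, map_sum, Finset.sum_eq_single (1 : A) (fun a _ ha => htr a ha) (by simp),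
    show R 1 = 1 from LinearMap.ext fun y => Subtype.ext (act_one (y : V)), LinearMap.trace_one,
    LinearEquiv.finrank_eq (Submodule.comapSubtypeEquivOfLe inf_le_left), smul_eq_mul,
    inv_mul_eq_iff_eq_mul₀ hne] at h1
  rw [Nat.card_eq_fintype_card]
  exact_mod_cast h1

/-- distinct characters give independent eigenspaces -/
theorem finrank_sup_eig {ι : Type*} (f : ι → G → ℂ) (T : Finset ι)
    (hne : ∀ i ∈ T, ∀ j ∈ T, i ≠ j → ∃ a ∈ A, f i a ≠ f j a) :
    Module.finrank ℂ ↥(T.sup fun i => W ⊓ Eig ρ A (f i)) = ∑ i ∈ T, Module.finrank ℂ ↥(W ⊓ Eig ρ A (f i)) := by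
  induction T using Finset.induction with
  | empty => simp
  | insert i T hi ih =>
    rw [Finset.sup_insert, Finset.sum_insert hi,
      ← ih fun j hj k hk => hne j (Finset.mem_insert_of_mem hj) k (Finset.mem_insert_of_mem hk)]
    have hdisj : (W ⊓ Eig ρ A (f i)) ⊓ (T.sup fun j => W ⊓ Eig ρ A (f j)) = ⊥ := by
      refine eq_bot_iff.2 fun x hx => ?_
      rw [Submodule.mem_bot]
      by_contra hx0
      have hc := isChr_of_ne hx.1.2 hx0
      let e : Module.End ℂ V := ∑ a : A, (f i (a : G))⁻¹ • ρ (a : G)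
      have he1 : e x = (Fintype.card A : ℂ) • x := by
        simp only [e, LinearMap.sum_apply, LinearMap.smul_apply, mem_Eig.1 hx.1.2 _ (Subtype.coe_prop _), smul_smul]
        rw [Finset.sum_congr rfl fun (a : A) _ => by rw [inv_mul_cancel₀ (hc.ne_zero a.2), one_smul],
          Finset.sum_const, Finset.card_univ, Nat.cast_smul_eq_nsmul]
      have he2 : (T.sup fun j => W ⊓ Eig ρ A (f j)) ≤ LinearMap.ker e := by
        refine Finset.sup_le fun j hj y hy => ?_
        rw [LinearMap.mem_ker]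
        by_cases hy0 : y = 0
        · rw [hy0, map_zero]
        have hc' := isChr_of_ne hy.2 hy0
        obtain ⟨a0, ha0, hne0⟩ := hne i (Finset.mem_insert_self _ _) j (Finset.mem_insert_of_mem hj)
          fun e => hi (e ▸ hj)
        simp only [e, LinearMap.sum_apply, LinearMap.smul_apply, mem_Eig.1 hy.2 _ (Subtype.coe_prop _), smul_smul,
          ← Finset.sum_smul]
        set S := ∑ a : A, (f i (a : G))⁻¹ * f j (a : G) with hS
        have hshift : S = ((f i a0)⁻¹ * f j a0) * S := by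
          rw [Finset.mul_sum]
          refine (Fintype.sum_equiv (Equiv.mulLeft (⟨a0, ha0⟩ : A)) _ _ fun a => ?_).symm
          show _ = (f i (a0 * (a : G)))⁻¹ * f j (a0 * (a : G))
          rw [hc.2 _ ha0 _ a.2, hc'.2 _ ha0 _ a.2, mul_inv]
          ring
        have hr : (f i a0)⁻¹ * f j a0 ≠ 1 := fun h => hne0 (by
          calc f i a0 = f i a0 * ((f i a0)⁻¹ * f j a0) := by rw [h, mul_one]
            _ = f j a0 := by rw [mul_inv_cancel_left₀ (hc.ne_zero ha0)])
        have hS0 : (1 - (f i a0)⁻¹ * f j a0) * S = 0 := by linear_combination hshift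
        rw [(mul_eq_zero.1 hS0).resolve_left (sub_ne_zero.2 (Ne.symm hr)), zero_smul]
      have h0 := LinearMap.mem_ker.1 (he2 hx.2)
      rw [he1, smul_eq_zero] at h0
      exact hx0 (h0.resolve_left (Nat.cast_ne_zero.2 Fintype.card_ne_zero))
    have h := Submodule.finrank_sup_add_finrank_inf_eq (W ⊓ Eig ρ A (f i)) (T.sup fun j => W ⊓ Eig ρ A (f j))
    rw [hdisj, finrank_bot, add_zero] at h
    exact h

/-- the fixed vectors and a family of nontrivial characters -/
theorem decomp_ge {ι : Type*} [Fintype ι] (f : ι → G → ℂ) (hnt : ∀ i, Nt A (f i))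
    (hne : ∀ i j, i ≠ j → ∃ a ∈ A, f i a ≠ f j a) {c : ℕ}
    (h : ∀ i, c ≤ Module.finrank ℂ ↥(W ⊓ Eig ρ A (f i))) :
    Module.finrank ℂ ↥(W ⊓ Fx ρ A) + Fintype.card ι * c ≤ Module.finrank ℂ W := by
  let f' : Option ι → G → ℂ := fun o => o.elim 1 f
  have h1 := finrank_sup_eig (W := W) (ρ := ρ) f' Finset.univ (by
    rintro (_ | i) - (_ | j) - hij
    · exact absurd rfl hij
    · obtain ⟨a, ha, e⟩ := hnt j; exact ⟨a, ha, fun h => e h.symm⟩
    · obtain ⟨a, ha, e⟩ := hnt i; exact ⟨a, ha, e⟩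
    · exact hne i j fun e => hij (congrArg some e))
  have h2 : Module.finrank ℂ ↥(Finset.univ.sup fun o => W ⊓ Eig ρ A (f' o)) ≤ Module.finrank ℂ W :=
    Submodule.finrank_mono (Finset.sup_le fun _ _ => inf_le_left)
  rw [h1, Fintype.sum_option] at h2
  refine le_trans (Nat.add_le_add_left ?_ _) h2
  rw [← smul_eq_mul, ← Finset.card_univ]
  exact Finset.card_nsmul_le_sum _ _ _ fun i _ => h i

/-- a vector of zero average is a sum of nontrivial eigenvectors -/
theorem mem_of_components (hA : ∀ a ∈ A, ∀ b ∈ A, a * b = b * a) (hW : Inv ρ A W) (hx : x ∈ W)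
    (h0 : avg ρ A x = 0) (hU : ∀ χ, Nt A χ → W ⊓ Eig ρ A χ ≤ U) : x ∈ U := by
  letI : CommGroup A :=
    { (inferInstance : Group A) with mul_comm := fun a b => Subtype.ext (hA a a.2 b b.2) }
  obtain ⟨eq⟩ := CommGroup.monoidHom_mulEquiv_of_hasEnoughRootsOfUnity A ℂ
  haveI : Finite (A →* ℂˣ) := Finite.of_equiv A eq.symm.toEquiv
  letI : Fintype (A →* ℂˣ) := Fintype.ofFinite _
  let y : (A →* ℂˣ) → V := fun φ => ∑ a : A, ((φ a⁻¹ : ℂˣ) : ℂ) • ρ (a : G) x
  have hy : ∀ φ, y φ ∈ U := by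
    intro φ
    by_cases hφ : φ = 1
    · have : y φ = 0 := by
        rw [← h0, avg_apply]
        exact Finset.sum_congr rfl fun a _ => by simp [hφ]
      rw [this]; exact U.zero_mem
    let χ : G → ℂ := fun g => if h : g ∈ A then ((φ ⟨g, h⟩ : ℂˣ) : ℂ) else 1
    refine hU χ ?_ ⟨Submodule.sum_mem _ fun a _ => W.smul_mem _ (hW a a.2 x hx), mem_Eig.2 fun b hb => ?_⟩
    · obtain ⟨a, ha⟩ := DFunLike.ne_iff.1 hφ
      refine ⟨a, a.2, fun e => ha (Units.ext ?_)⟩
      simp only [χ, dif_pos a.2] at e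
      exact e
    · simp only [χ, dif_pos hb, y, map_sum, map_smul, Finset.smul_sum, smul_smul, ← act_mul]
      refine Fintype.sum_equiv (Equiv.mulLeft (⟨b, hb⟩ : A)) _ _ fun a => ?_
      show _ = (((φ ⟨b, hb⟩ : ℂˣ) : ℂ) * ((φ (⟨b, hb⟩ * a)⁻¹ : ℂˣ) : ℂ)) • ρ (b * (a : G)) x
      simp [mul_inv_rev, act_mul]
      congr 1
      field_simp
  have hsum : ∑ φ, y φ = (Fintype.card (A →* ℂˣ) : ℂ) • x := by
    simp only [y]
    rw [Finset.sum_comm, Finset.sum_eq_single (1 : A)]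
    · simp [act_one, Nat.cast_smul_eq_nsmul]
    · intro a _ ha
      rw [← Finset.sum_smul]
      obtain ⟨ψ, hψ⟩ := CommGroup.exists_apply_ne_one_of_hasEnoughRootsOfUnity A ℂ (inv_ne_one.2 ha)
      set S := ∑ φ : A →* ℂˣ, ((φ a⁻¹ : ℂˣ) : ℂ) with hS
      have hshift : S = ((ψ a⁻¹ : ℂˣ) : ℂ) * S := by
        rw [Finset.mul_sum]
        exact (Fintype.sum_equiv (Equiv.mulLeft ψ) _ _ fun φ => by simp).symm
      have hS0 : (1 - ((ψ a⁻¹ : ℂˣ) : ℂ)) * S = 0 := by linear_combination hshift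
      rw [(mul_eq_zero.1 hS0).resolve_left (sub_ne_zero.2 fun e => hψ (Units.ext e.symm)), zero_smul]
    · simp
  have hmem : (Fintype.card (A →* ℂˣ) : ℂ) • x ∈ U := hsum ▸ Submodule.sum_mem U fun φ _ => hy φ
  have hn : (Fintype.card (A →* ℂˣ) : ℂ) ≠ 0 := Nat.cast_ne_zero.2 Fintype.card_ne_zero
  simpa [smul_smul, inv_mul_cancel₀ hn] using U.smul_mem (Fintype.card (A →* ℂˣ) : ℂ)⁻¹ hmem

end sums

/-- a vector fixed by generators spans everything in an irreducible representation -/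
theorem no_fixed [FiniteDimensional ℂ V] (hρ : ρ.IsIrreducible) (hk : 2 ≤ Module.finrank ℂ V) {S : Set G}
    (hS : Subgroup.closure S = ⊤) (h : ∀ g ∈ S, ρ g x = x) : x = 0 := by
  by_contra hx
  have hall : ∀ g, ρ g x = x := fun g => by
    have hg : g ∈ Subgroup.closure S := hS ▸ Subgroup.mem_top g
    induction hg using Subgroup.closure_induction with
    | mem g hg => exact h g hg
    | one => exact act_one x
    | mul a b _ _ ha hb => rw [act_mul, hb, ha]
    | inv a _ ha =>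
      conv_lhs => rw [← ha]
      exact act_inv_self a x
  haveI := hρ
  let W : Subrepresentation ρ := ⟨ℂ ∙ x, fun g v hv => by
    obtain ⟨a, rfl⟩ := Submodule.mem_span_singleton.1 hv
    rw [map_smul, hall]
    exact Submodule.smul_mem _ _ (Submodule.mem_span_singleton_self x)⟩
  rcases IsSimpleOrder.eq_bot_or_eq_top W with hW | hW
  · exact hx (Submodule.span_singleton_eq_bot.1 (congrArg Subrepresentation.toSubmodule hW))
  · have h1 : Module.finrank ℂ ↥(ℂ ∙ x) = Module.finrank ℂ V := by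
      rw [show (ℂ ∙ x) = (⊤ : Submodule ℂ V) from congrArg Subrepresentation.toSubmodule hW, finrank_top]
    rw [finrank_span_singleton hx] at h1
    omega

end CfsgLib.MinDeg.SubgroupEigen
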