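import Cfsg.Agent.Lib.MinDeg.LacedLine

/-!
# Representations of small degree of simply laced groups: pure vectors are not cuspidal

The sum of the translates of a pure vector under the opposite fundamental root subgroup is not zero.
-/

set_option autoImplicit false
set_option linter.unusedSectionVars false

namespace CfsgLib.MinDeg.LacedRoot

open Cfsg.Lie CfsgLib.Lie.Chev CfsgLib.Lie.Laced CfsgLib.MinDeg.RootSpace
open scoped MatrixGroups

variable {D : ChevalleyDatum} {C : Full D} {K : Type*} [Field K] [Fintype K]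
variable {V : Type*} [AddCommGroup V] [Module ℂ V] [FiniteDimensional ℂ V]
variable {ρ : Representation ℂ ↥(D.group K) V} {ψ : AddChar K ℂ}

local notation "Eg" => Er C ρ ψ
local notation "Zs" => Z C ρ ψ
local notation "α" => C.G.simp'

/-- `n_r(t)` as an element of the group -/
noncomputable def nR (C : Full D) (r : Fin D.nroots) (t : K) : ↥(D.group K) :=
  ⟨C.G.nE r t, C.G.nE_mem_group r t⟩

theorem nE_simp_perm (i : Fin D.rank) {t : K} (ht : t ≠ 0) :
    C.G.NPerm (nR C (α i) t : GL D.Idx K) (C.G.sP i) := by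
  have e : C.G.nE (α i) t = C.G.hd (α i) (Units.mk0 t ht) * C.G.nU i := by
    rw [← C.G.nE_simp, Units.val_mk0]
  have h := Good.NPerm.mul C.G (C.G.nPerm_H (C.G.hd_mem_H (α i) (Units.mk0 t ht))) (C.G.nPerm_nU (K := K) i)
  rw [one_mul, ← e] at h
  exact h

theorem nE_w_perm (i : Fin D.rank) {s : Fin D.nroots} {π : Equiv.Perm (Fin D.nroots)}
    (h : ∀ t : K, t ≠ 0 → C.G.NPerm (nR C s t : GL D.Idx K) π) {t : K} (ht : t ≠ 0) :
    C.G.NPerm (nR C (C.G.w i s) t : GL D.Idx K) (C.G.sP i * π * C.G.sP i) := by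
  have e2 : (C.G.eta i s : K) * (C.G.eta i s : K) = 1 := by
    rcases C.G.eta_unit i s with e | e <;> rw [e] <;> norm_num
  have h1 := Good.NPerm.mul C.G (Good.NPerm.mul C.G (C.G.nPerm_nU (K := K) i)
    (h ((C.G.eta i s : K) * t) (mul_ne_zero (left_ne_zero_of_mul_eq_one e2) ht)))
    (Good.NPerm.inv C.G (C.G.nPerm_nU (K := K) i))
  show C.G.NPerm (C.G.nE (C.G.w i s) t) _
  simp only [nR] at h1
  rwa [C.G.nU_nE, ← mul_assoc, e2, one_mul, mul_assoc _ (C.G.nU i), mul_inv_cancel, mul_one,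
    C.G.sP_inv] at h1

theorem negr_simp_eq (i : Fin D.rank) : C.G.negr (α i) = C.G.w i (α i) := (C.G.w_simp i).symm

/-- a root element through the opposite one -/
theorem X_opp (r : Fin D.nroots) {t : K} :
    X C (C.G.negr r) t = X C r t⁻¹ * nR C r (-t⁻¹) * X C r t⁻¹ := by
  apply Subtype.ext
  rw [Subgroup.coe_mul, Subgroup.coe_mul, X_coe, X_coe]
  show _ = _ * C.G.nE r (-t⁻¹) * _
  rw [Good.nE, show -(-t⁻¹)⁻¹ = t by rw [inv_neg, inv_inv, neg_neg],
    show C.G.xu r (-t⁻¹) = (C.G.xu r t⁻¹)⁻¹ from (C.G.xu_inv _ _).symm]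
  group

theorem X_mul (r : Fin D.nroots) (s t : K) (x : V) : ρ (X C r s) (ρ (X C r t) x) = ρ (X C r (s + t)) x := by
  rw [← rho_mul, ← gx_add]

theorem sum_absorb (r : Fin D.nroots) (b : K) (x : V) :
    ∑ t : K, ρ (X C r t) (ρ (X C r b) x) = ∑ t : K, ρ (X C r t) x :=
  Fintype.sum_equiv (Equiv.addRight b) _ _ fun t => by rw [X_mul, Equiv.coe_addRight]

theorem sum_mem_zero (r : Fin D.nroots) (x : V) : (∑ t : K, ρ (X C r t) x) ∈ Eg r 0 := by
  refine mem_E_zero.2 fun s => ?_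
  rw [map_sum]
  exact Fintype.sum_equiv (Equiv.addLeft s) _ _ fun t => by rw [← rho_mul, ← gx_add, Equiv.coe_addLeft]

theorem sum_char (hψ : ψ.IsPrimitive) {r : Fin D.nroots} {c : K} (hc : c ≠ 0) {x : V} (hx : x ∈ Eg r c) :
    ∑ t : K, ρ (X C r t) x = 0 := by
  classical
  rw [Finset.sum_congr rfl fun t _ => mem_E.1 hx t, ← Finset.sum_smul]
  have h := AddChar.sum_mulShift c hψ
  rw [if_neg hc] at h
  simp only [mul_comm c, h, Nat.cast_zero, zero_smul]

variable {N : ℕ} {S : LSys C N}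

namespace LSys

variable (S)
include S

theorem rho_adj {i j : Fin D.rank} (h : S.adj i j = true) :
    C.G.rho (C.G.w i (α j)) = C.G.rho (α i) + C.G.rho (α j) := by
  have hc : cart D i (α j) = -1 := by
    rw [← ip_simp (C := C), S.adj_ip i j (S.adj_ne i j h), h, if_pos rfl]
  rw [C.G.rho_w, hc, C.G.rho_simp, C.G.rho_simp]
  module

theorem inv_sum {r : Fin D.nroots} {T : Set (Fin D.nroots)} {x : V}
    (h : ∀ t, ρ (X C r t) x ∈ Zs T) : (∑ t : K, ρ (X C r t) x) ∈ Zs T :=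
  Submodule.sum_mem _ fun t _ => h t

/-- the fundamental root elements and their negatives preserve the vectors fixed by the other positive roots -/
theorem inv_others (i : Fin D.rank) (r : Fin D.nroots) (hr : r = α i ∨ r = C.G.negr (α i)) :
    Inv C ρ r (Zs {v | D.IsPosRoot v.val ∧ v ≠ α i}) := by
  refine inv_Z S.laced fun u hu => ⟨?_, fun z e => ?_⟩
  · rcases hr with rfl | rfl
    · exact pos_ne_negr' (C.G.simp_pos i) hu.1
    · exact fun e => hu.2 (by rw [← C.G.negr_negr u, ← e, C.G.negr_negr])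
  · obtain ⟨j, hj, hpj⟩ := C.G.exists_coord hu.1 hu.2
    have hzj : 0 < C.G.rho z j := by
      rcases hr with rfl | rfl <;>
        simp [e, C.G.rho_negr, C.G.rho_simp, Pi.single_eq_of_ne hj, hpj]
    refine ⟨C.G.isPosRoot_of_coord hzj, fun hz => ?_⟩
    rw [hz, C.G.rho_simp, Pi.single_eq_of_ne hj] at hzj
    omega

end LSys

theorem n_others (i : Fin D.rank) {x : V} (hx : x ∈ Zs {v | D.IsPosRoot v.val ∧ v ≠ α i}) :
    ρ (nG C i) x ∈ Zs {v | D.IsPosRoot v.val ∧ v ≠ α i} := by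
  refine mem_Z.2 fun v hv => n_zero i (mem_Z.1 hx _ ⟨C.G.w_pos hv.1 hv.2, fun e => ?_⟩)
  have h := congrArg (C.G.w i) e
  rw [C.G.w_w, C.G.w_simp] at h
  exact C.G.negr_simp_not_pos i (h ▸ hv.1)

namespace Small

variable (H : Small ρ ψ S)
include H

/-- a pure vector is not cuspidal -/
theorem sum_neg_ne (b : Fin D.rank) {c : K} (hc : c ≠ 0) {y : V} (hy : y ∈ Y C ρ ψ b c) (hy0 : y ≠ 0) :
    ∑ t : K, ρ (X C (C.G.negr (α b)) t) y ≠ 0 := by
  classical
  intro hcusp
  obtain ⟨a, hba⟩ := S.nbr b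
  have hab := S.adj_symm hba
  have hL := S.laced
  have hne := S.adj_ne b a hba
  set cc := C.G.w b (α a) with hcc
  set B := C.G.negr (α b) with hB
  set Cn := C.G.negr cc with hCn
  have hrc : C.G.rho cc = C.G.rho (α b) + C.G.rho (α a) := S.rho_adj hba
  have hwa : C.G.w a (α b) = cc := C.G.rho_injective (by rw [hrc, S.rho_adj hab, add_comm])
  have hwac : C.G.w a cc = α b := by rw [← hwa, C.G.w_w]
  have hwbc : C.G.w b cc = α a := C.G.w_w b (α a)
  have hcpos : D.IsPosRoot cc.val := pos_add (C.G.simp_pos b) (C.G.simp_pos a) hrc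
  have hcb : cc ≠ α b := fun e => by
    have := hg_add hrc; rw [e, hg_simp, hg_simp] at this; omega
  have hca : cc ≠ α a := fun e => by
    have := hg_add hrc; rw [e, hg_simp, hg_simp] at this; omega
  have hab' : α a ≠ α b := fun e => hne (C.G.simp_injective e).symm
  have hipba : ip D (α b) (α a) = -1 := by rw [S.adj_ip b a hne, hba, if_pos rfl]
  have hipbc : ip D (α b) cc = 1 := by
    rw [ip_add (C := C) (α b) hrc, hL.2.1, hipba]; norm_num
  have hipac : ip D (α a) cc = 1 := by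
    rw [ip_add (C := C) (α a) hrc, hL.2.1, hL.1, hipba]; norm_num
  -- the vector
  set r0 := ρ (nG C b) (ρ (nG C a) y) with hr0
  obtain ⟨ε1, hε1, hn1⟩ := n_act (C := C) (ρ := ρ) (ψ := ψ) a (α b)
  obtain ⟨ε2, hε2, hn2⟩ := n_act (C := C) (ρ := ρ) (ψ := ψ) b cc
  rw [hwa] at hn1
  rw [hwbc] at hn2
  set δ := ε2 * (ε1 * c)
  have hδ : δ ≠ 0 := mul_ne_zero hε2 (mul_ne_zero hε1 hc)
  have hra : r0 ∈ Eg (α a) δ := hn2 _ _ (hn1 _ _ hy.1)
  have hy' : ∀ v : Fin D.nroots, D.IsPosRoot v.val → v ≠ α b → y ∈ Eg v 0 := fun v h h' =>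
    mem_Z.1 hy.2 v ⟨h, h'⟩
  have hrB : r0 ∈ Eg B 0 := n_zero b (n_zero a (by
    rw [hB, C.G.w_negr, C.G.w_simp, C.G.negr_negr, hwa]; exact hy' cc hcpos hcb))
  have hrC : r0 ∈ Eg Cn 0 := n_zero b (n_zero a (by
    rw [hCn, C.G.w_negr, hwbc, C.G.w_negr, C.G.w_simp, C.G.negr_negr]; exact hy' _ (C.G.simp_pos a) hab'))
  have hrn : r0 ≠ 0 := fun e => hy0 (rho_inj _ ((rho_inj _ (e.trans (map_zero _).symm)).trans (map_zero _).symm))
  -- the averaging operator
  set P : V → V := fun z => ∑ s : K, ρ (X C Cn s) (∑ t : K, ρ (X C B t) z) with hP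
  have hBC : 0 ≤ ip D B Cn := by
    rw [hB, hCn, ip_negr, hL.1, ip_negr, hL.1, hipbc]; norm_num
  have hcommBC : ∀ (s t : K) (z : V), ρ (X C Cn s) (ρ (X C B t) z) = ρ (X C B t) (ρ (X C Cn s) z) :=
    fun s t z => by rw [← rho_mul, comm0 hL hBC, rho_mul]
  have hPB : ∀ (t : K) z, P (ρ (X C B t) z) = P z := fun t z => by simp only [hP, sum_absorb]
  have hPswap : ∀ z, P z = ∑ t : K, ρ (X C B t) (∑ s : K, ρ (X C Cn s) z) := fun z => by
    simp only [hP, map_sum]
    rw [Finset.sum_comm]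
    simp only [hcommBC]
  have hPC : ∀ (t : K) z, P (ρ (X C Cn t) z) = P z := fun t z => by simp only [hPswap, sum_absorb]
  have hPsmul : ∀ (m : ℂ) z, P (m • z) = m • P z := fun m z => by
    simp only [hP, map_smul, map_sum, Finset.smul_sum]
  have hPsum : ∀ (f : K → V), P (∑ u, f u) = ∑ u, P (f u) := fun f => by
    simp only [hP, map_sum]
    conv_rhs => rw [Finset.sum_comm]
    refine Finset.sum_congr rfl fun s _ => ?_
    rw [Finset.sum_comm]
  -- vanishing away from the origin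
  have hrhoa : C.G.rho (α a) = C.G.rho cc + C.G.rho B := by
    rw [hB, C.G.rho_negr, hrc]; abel
  have hrhoB : C.G.rho B = C.G.rho Cn + C.G.rho (α a) := by
    rw [hCn, hB, C.G.rho_negr, C.G.rho_negr, hrc]; abel
  obtain ⟨e1, -, hcm1⟩ := comm1 (K := K) hL hrhoa
  obtain ⟨e2, -, hcm2⟩ := comm1 (K := K) hL hrhoB
  have hBa : 0 ≤ ip D B (α a) := by rw [hB, hL.1, ip_negr, hL.1, hipba]; norm_num
  have hPa : ∀ (w : K) z, P (ρ (X C (α a) w) z) = ρ (X C (α a) w) (P z) := by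
    intro w z
    simp only [hP, map_sum]
    refine Finset.sum_congr rfl fun s _ => ?_
    refine (Fintype.sum_equiv (Equiv.addRight (e2 * s * w)) _ _ fun t => ?_).symm
    have hg : X C (α a) w * (X C Cn s * X C B t) = X C Cn s * (X C B (t + e2 * s * w) * X C (α a) w) := by
      rw [← mul_assoc, hcm2, mul_assoc, ← gx_add, mul_assoc (X C Cn s), comm0 hL hBa, add_comm]
    simp only [Equiv.coe_addRight, ← rho_mul]
    rw [hg]
  have hCperm : ∀ t : K, t ≠ 0 →
      C.G.NPerm (nR C Cn t : GL D.Idx K) (C.G.sP b * (C.G.sP a * C.G.sP a * C.G.sP a) * C.G.sP b) := by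
    intro t ht
    have e : Cn = C.G.w b (C.G.w a (α a)) := by rw [C.G.w_simp, C.G.w_negr]
    rw [e]
    exact nE_w_perm b (fun t ht => nE_w_perm a (fun t ht => nE_simp_perm a ht) ht) ht
  have hBperm : ∀ t : K, t ≠ 0 →
      C.G.NPerm (nR C B t : GL D.Idx K) (C.G.sP b * C.G.sP b * C.G.sP b) := fun t ht => by
    rw [hB, negr_simp_eq]
    exact nE_w_perm b (fun t ht => nE_simp_perm b ht) ht
  have key1 : ∀ u : K, u ≠ 0 → P (ρ (X C cc u) r0) = 0 := by
    intro u hu
    rw [← C.G.negr_negr cc, ← hCn, X_opp, rho_mul, rho_mul, mem_E_zero.1 hrC, hPC]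
    obtain ⟨ε, hε, he⟩ := mono_act (ρ := ρ) (ψ := ψ) (hCperm (-u⁻¹) (neg_ne_zero.2 (inv_ne_zero hu))) (α a)
    have e : (C.G.sP b * (C.G.sP a * C.G.sP a * C.G.sP a) * C.G.sP b) (α a) = B := by
      simp only [Equiv.Perm.mul_apply, C.G.sP_apply, C.G.w_w]
      rw [← hcc, hwac, C.G.w_simp]
    rw [e] at he
    simp only [hP]
    rw [Finset.sum_eq_zero]
    intro s _
    rw [sum_char H.prim (mul_ne_zero hε hδ) (he _ _ hra), map_zero]
  have key2 : ∀ x u : K, x ≠ 0 → P (ρ (X C (α b) x) (ρ (X C cc u) r0)) = 0 := by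
    intro x u hx
    rw [show α b = C.G.negr B by rw [hB, C.G.negr_negr], X_opp, rho_mul, rho_mul, hPB]
    have h1 : ρ (X C B x⁻¹) (ρ (X C cc u) r0) = ψ (δ * (e1 * u * x⁻¹)) • ρ (X C cc u) r0 := by
      rw [← rho_mul, hcm1, rho_mul, mem_E.1 hra, map_smul, rho_mul, mem_E_zero.1 hrB]
    rw [h1, map_smul, hPsmul]
    set g := nR C B (-x⁻¹)
    have hg := hBperm (-x⁻¹) (neg_ne_zero.2 (inv_ne_zero hx))
    obtain ⟨d, hd⟩ := hg cc
    have e : (C.G.sP b * C.G.sP b * C.G.sP b) cc = α a := by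
      simp only [Equiv.Perm.mul_apply, C.G.sP_apply, C.G.w_w]
      exact hwbc
    rw [e] at hd
    have h2 : g * X C cc u = X C (α a) ((d : K) * u) * g := by
      apply Subtype.ext
      rw [Subgroup.coe_mul, Subgroup.coe_mul, X_coe, X_coe, ← hd, inv_mul_cancel_right]
    rw [← rho_mul g, h2, rho_mul, hPa]
    have h3 : P (ρ g r0) = 0 := by
      rw [hr0, ← rho_mul, ← rho_mul]
      set g' := g * nG C b * nG C a
      have hg' : C.G.NPerm (g' : GL D.Idx K) (C.G.sP b * C.G.sP b * C.G.sP b * C.G.sP b * C.G.sP a) := by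
        rw [show (g' : GL D.Idx K) = (g : GL D.Idx K) * C.G.nU b * C.G.nU a from rfl]
        exact Good.NPerm.mul C.G (Good.NPerm.mul C.G hg (C.G.nPerm_nU b)) (C.G.nPerm_nU a)
      obtain ⟨dB, hdB⟩ := hg' B
      obtain ⟨dC, hdC⟩ := hg' Cn
      have eB : (C.G.sP b * C.G.sP b * C.G.sP b * C.G.sP b * C.G.sP a) B = Cn := by
        simp only [Equiv.Perm.mul_apply, C.G.sP_apply, C.G.w_w]
        rw [hB, C.G.w_negr, hwa]
      have eC : (C.G.sP b * C.G.sP b * C.G.sP b * C.G.sP b * C.G.sP a) Cn = B := by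
        simp only [Equiv.Perm.mul_apply, C.G.sP_apply, C.G.w_w]
        rw [hCn, C.G.w_negr, hwac]
      rw [eB] at hdB
      rw [eC] at hdC
      have hmB : ∀ t, X C Cn ((dB : K) * t) * g' = g' * X C B t := fun t => Subtype.ext (by
        show (X C Cn ((dB : K) * t) : GL D.Idx K) * (g' : GL D.Idx K) = (g' : GL D.Idx K) * (X C B t : GL D.Idx K)
        rw [X_coe, X_coe, ← hdB, inv_mul_cancel_right])
      have hmC : ∀ t, X C B ((dC : K) * t) * g' = g' * X C Cn t := fun t => Subtype.ext (by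
        show (X C B ((dC : K) * t) : GL D.Idx K) * (g' : GL D.Idx K) = (g' : GL D.Idx K) * (X C Cn t : GL D.Idx K)
        rw [X_coe, X_coe, ← hdC, inv_mul_cancel_right])
      have hsB : ∀ z, ∑ s : K, ρ (X C Cn s) (ρ g' z) = ρ g' (∑ t : K, ρ (X C B t) z) := fun z => by
        rw [map_sum]
        refine (Fintype.sum_equiv (Equiv.mulLeft₀ (dB : K) dB.ne_zero) _ _ fun t => ?_).symm
        rw [← rho_mul, ← rho_mul]
        exact congrArg (fun h => ρ h z) (hmB t).symm
      have hsC : ∀ z, ∑ s : K, ρ (X C B s) (ρ g' z) = ρ g' (∑ t : K, ρ (X C Cn t) z) := fun z => by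
        rw [map_sum]
        refine (Fintype.sum_equiv (Equiv.mulLeft₀ (dC : K) dC.ne_zero) _ _ fun t => ?_).symm
        rw [← rho_mul, ← rho_mul]
        exact congrArg (fun h => ρ h z) (hmC t).symm
      rw [hPswap, hsB, hsC, hcusp]
      simp
    rw [h3, map_zero, smul_zero]
  -- the conclusion
  set Sv := ∑ u : K, ρ (X C cc u) r0 with hSv
  set T : Set (Fin D.nroots) := {v | D.IsPosRoot v.val ∧ v ≠ α a ∧ v ≠ α b}
  have hTsum : ∀ r : Fin D.nroots, D.IsPosRoot r.val → ∀ u ∈ T, r ≠ C.G.negr u ∧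
      ∀ z, C.G.rho z = C.G.rho r + C.G.rho u → z ∈ T := by
    intro r hr u hu
    refine ⟨pos_ne_negr' hr hu.1, fun z e => ⟨pos_add hr hu.1 e, ?_, ?_⟩⟩ <;>
    · intro hz
      have := hg_add e
      rw [hz, hg_simp] at this
      have := hg_pos (C := C) hr
      have := hg_pos (C := C) hu.1
      omega
  have hrT : ∀ v ∈ T, v ≠ cc → r0 ∈ Eg v 0 := by
    intro v hv hvc
    have h1 : C.G.w b v ≠ α a := fun e => hvc (by rw [← C.G.w_w b v, e])
    refine n_zero b (n_zero a (hy' _ (C.G.w_pos (C.G.w_pos hv.1 hv.2.2) h1) fun e => ?_))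
    have e' := congrArg (C.G.w a) e
    rw [C.G.w_w, hwa] at e'
    have e'' := congrArg (C.G.w b) e'
    rw [C.G.w_w, hwbc] at e''
    exact hv.2.1 e''
  have hM : Sv ∈ Eg (α a) δ ⊓ Zs T := by
    refine ⟨Submodule.sum_mem _ fun u _ => pres0 hL (by rw [hL.1, hipac]; norm_num) u hra, mem_Z.2 fun v hv => ?_⟩
    by_cases hvc : v = cc
    · exact hvc ▸ sum_mem_zero cc r0
    refine Submodule.sum_mem _ fun u _ => pres hL (hTsum cc hcpos v hv).1 u (hrT v hv hvc) fun z e => ?_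
    refine hrT z ((hTsum cc hcpos v hv).2 z e) fun hz => ?_
    have := hg_add e
    rw [hz] at this
    have := hg_pos (C := C) hv.1
    omega
  have hinvM : Inv C ρ (α b) (Eg (α a) δ ⊓ Zs T) := fun t x hx =>
    ⟨pres hL (pos_ne_negr' (C.G.simp_pos b) (C.G.simp_pos a)) t hx.1 fun z e => mem_Z.1 hx.2 z (by
      have h := hg_add e
      rw [hg_simp, hg_simp] at h
      exact ⟨pos_add (C.G.simp_pos b) (C.G.simp_pos a) e, fun hz => by rw [hz, hg_simp] at h; omega,
        fun hz => by rw [hz, hg_simp] at h; omega⟩),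
      inv_Z hL (hTsum (α b) (C.G.simp_pos b)) t x hx.2⟩
  have hbfix : Sv ∈ Eg (α b) 0 := by
    have hs := sum_proj (C := C) (ρ := ρ) H.prim (α b).val Sv
    rw [Finset.sum_eq_single 0 (fun lam _ hlam => ?_) (fun h => absurd (Finset.mem_univ _) h)] at hs
    · rw [← hs]; exact proj_mem_E _ _ _
    by_contra hp
    set p := proj C ρ ψ (α b).val lam Sv
    have hpM : p ∈ Eg (α a) δ ⊓ Zs T := proj_mem lam hinvM hM
    have hpb : p ∈ Eg (α b) lam := proj_mem_E _ _ _
    let f : Fin D.nroots → K := fun v => if v = α a then δ else if v = α b then lam else 0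
    have hf : ∀ v, D.IsPosRoot v.val → p ∈ Eg v (f v) := fun v hv => by
      simp only [f]
      split_ifs with h h'
      · exact h ▸ hpM.1
      · exact h' ▸ hpb
      · exact mem_Z.1 hpM.2 v ⟨hv, h, h'⟩
    have hpure := H.pure hp hf (i := a) (by simpa [f] using hδ)
    exact hp (eq_zero_of_mem H.prim hlam hpb (mem_Z.1 hpure.2 (α b) ⟨C.G.simp_pos b, hab'.symm⟩))
  have h1 : P (ρ (X C (α b) 1) Sv) = 0 := by
    rw [hSv, map_sum, hPsum, Finset.sum_eq_zero fun u _ => key2 1 u one_ne_zero]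
  rw [mem_E_zero.1 hbfix, hSv, hPsum, Finset.sum_eq_single 0 (fun u _ hu => key1 u hu)
    (fun h => absurd (Finset.mem_univ _) h), show X C cc (0 : K) = 1 from gx_zero C _, map_one, Module.End.one_apply] at h1
  simp only [hP, mem_E_zero.1 hrB, Finset.sum_const, Finset.card_univ, map_nsmul, mem_E_zero.1 hrC] at h1
  rw [← Nat.cast_smul_eq_nsmul ℂ, ← Nat.cast_smul_eq_nsmul ℂ, smul_smul, smul_eq_zero] at h1
  exact hrn (h1.resolve_left (mul_ne_zero (Nat.cast_ne_zero.2 Fintype.card_ne_zero)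
    (Nat.cast_ne_zero.2 Fintype.card_ne_zero)))

end Small

end CfsgLib.MinDeg.LacedRoot
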