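import Cfsg.Agent.Lib.MinDeg.SubgroupEigen
import Cfsg.Agent.Lib.MinDeg.LacedCusp
import Cfsg.Agent.Lib.Lie.Chev.Tw.E6Simple
import Cfsg.Agent.Lib.Lie.Laced.CertE6

/-!
# The root subgroups of ²E₆(q) and their commutator relations

`Xs θ r` is the group of fixed elements supported on the orbit of the root `r`.
-/

set_option autoImplicit false
set_option maxRecDepth 100000
set_option linter.unusedSectionVars false

namespace CfsgLib.MinDeg.TwE6

open Cfsg.Lie CfsgLib.Lie.Chev CfsgLib.Lie.Laced CfsgLib.MinDeg.LacedRoot CfsgLib.MinDeg.RootSpace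
open scoped MatrixGroups

/-- the roots -/
abbrev R := Fin chevE6.nroots

theorem laced : IsLaced chevE6 TE6.C := (certE6 TE6.C).laced

theorem rows : RowsOK chevE6 fastE6 := rowsOK checksE6.rows

theorem pr_lt : ∀ r : R, graphE6.p.get r.val < chevE6.nroots := by decide +kernel

/-- the graph symmetry on roots -/
noncomputable def pr (r : R) : R := ⟨graphE6.p.get r.val, pr_lt r⟩

theorem pr_pr (r : R) : pr (pr r) = r := by
  refine Fin.ext ?_
  show graphE6.p.get (graphE6.p.get r.val) = r.val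
  revert r; decide +kernel

theorem pr_orth (r : R) : pr r = r ∨ ip chevE6 r (pr r) = 0 := by
  have h : ∀ r : R, graphE6.p.get r.val = r.val ∨ intBeq (ipF fastE6 r.val (graphE6.p.get r.val)) 0 = true := by
    decide +kernel
  refine (h r).imp (fun e => Fin.ext e) fun e => ?_
  rw [← ipF_eq rows]
  exact intBeq_spec e

theorem eps_pr (r : R) : graphE6.eps.get (pr r).val = graphE6.eps.get r.val := by
  show graphE6.eps.get (graphE6.p.get r.val) = _
  revert r; decide +kernel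

theorem eps_fixed {r : R} (h : pr r = r) : graphE6.eps.get r.val = false := by
  have key : ∀ r : R, graphE6.p.get r.val = r.val → graphE6.eps.get r.val = false := by decide +kernel
  exact key r (congrArg Fin.val h)

variable {K : Type*} [Field K] (θ : K ≃+* K)

/-- the group of fixed elements -/
abbrev Gp := ↥((TE6.twist θ).Fix)

/-- the inclusion in the Chevalley group -/
noncomputable def toG : Gp θ →* ↥(chevE6.group K) := Subgroup.inclusion (TE6.twist θ).Fix_le

theorem toG_inj : Function.Injective (toG θ) := Subgroup.inclusion_injective _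

/-- the sign of the symmetry -/
noncomputable def sg (r : R) : K := (TE6.twist θ).eps r

/-- a root element of the Chevalley group -/
noncomputable abbrev Xr (r : R) (t : K) : ↥(chevE6.group K) := LacedRoot.X TE6.C r t

theorem twist_p (r : R) : (TE6.twist θ).p r = pr r := Fin.ext rfl

theorem sg_fixed {r : R} (h : pr r = r) : sg θ r = 1 := TE6.eps_one θ (eps_fixed h)

theorem sg_mul (r : R) : sg θ (pr r) * θ (sg θ r) = 1 := by
  show (sgnB (graphE6.eps.get (pr r).val) : K) * θ (sgnB (graphE6.eps.get r.val) : K) = 1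
  rw [eps_pr]
  cases graphE6.eps.get r.val <;> simp [sgnB]

theorem sg_ne (r : R) : sg θ r ≠ 0 := (TE6.twist θ).eps_ne r

theorem phi_X (r : R) (t : K) : (TE6.twist θ).φ (Xr r t) = Xr (pr r) (sg θ r * θ t) := by
  show (TE6.twist θ).φ (gx TE6.C r.val t) = gx TE6.C (pr r).val _
  rw [gx_of_lt TE6.C r.isLt, gx_of_lt TE6.C (pr r).isLt, (TE6.twist θ).φ_xu]
  exact Subtype.ext (by rw [twist_p, TE6.σ_eq]; rfl)

theorem phi_toG (g : Gp θ) : (TE6.twist θ).φ (toG θ g) = toG θ g :=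
  Subtype.ext ((TE6.twist θ).fix_eq g.2 _)

/-- a fixed element of the Chevalley group as an element of the twisted group -/
noncomputable def ofFix (g : ↥(chevE6.group K)) (h : (TE6.twist θ).φ g = g) : Gp θ :=
  ⟨g.1, (TE6.twist θ).mem_Fix.2 ⟨g.2, h⟩⟩

theorem toG_ofFix (g : ↥(chevE6.group K)) (h : (TE6.twist θ).φ g = g) : toG θ (ofFix θ g h) = g := rfl

theorem X_add (r : R) (s t : K) : Xr r (s + t) = Xr r s * Xr r t := gx_add _ _ _ _

theorem X_zero (r : R) : Xr r (0 : K) = 1 := gx_zero _ _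

theorem X_inj {r : R} {s t : K} (h : Xr r s = Xr r t) : s = t := by
  have h' := congrArg Subtype.val h
  rw [X_coe, X_coe] at h'
  exact TE6.C.G.xu_injective r h'

theorem X_eq_zero {r s : R} {t u : K} (h : Xr r t = Xr s u) (hrs : r ≠ s) : t = 0 := by
  by_contra ht
  have h' := congrArg Subtype.val h
  rw [X_coe, X_coe] at h'
  exact hrs (TE6.C.G.xu_eq_xu h' ht)

theorem X_comm {r s : R} (h : 0 ≤ ip chevE6 r s) (t u : K) : Commute (Xr r t) (Xr s u) :=
  (comm0 laced h t u).symm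

theorem X_comm_pr (r : R) (t u : K) : Commute (Xr r t) (Xr (pr r) u) := by
  rcases pr_orth r with e | e
  · rw [e]; show _ * _ = _ * _; rw [← X_add, ← X_add, add_comm]
  · exact X_comm (le_of_eq e.symm) t u

/-- the element of an orbit -/
noncomputable def el (r : R) (t : K) : ↥(chevE6.group K) :=
  if pr r = r then Xr r t else Xr r t * Xr (pr r) (sg θ r * θ t)

theorem el_fix {r : R} (h : pr r = r) (t : K) : el θ r t = Xr r t := if_pos h

theorem el_pair {r : R} (h : pr r ≠ r) (t : K) : el θ r t = Xr r t * (TE6.twist θ).φ (Xr r t) := by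
  rw [el, if_neg h, phi_X]

theorem el_add (r : R) (s t : K) : el θ r (s + t) = el θ r s * el θ r t := by
  unfold el
  split
  · exact X_add r s t
  · rw [map_add, mul_add, X_add, X_add,
      (X_comm_pr r t (sg θ r * θ s)).mul_mul_mul_comm]

theorem el_zero (r : R) : el θ r 0 = 1 := by
  simp [el, X_zero]

/-- the parameters of an orbit -/
abbrev Valid (r : R) (t : K) : Prop := pr r = r → θ t = t

/-- the root subgroup of an orbit -/
noncomputable def Xs (r : R) : Subgroup (Gp θ) where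
  carrier := {g | ∃ t, Valid θ r t ∧ toG θ g = el θ r t}
  one_mem' := ⟨0, fun _ => map_zero θ, by rw [map_one, el_zero]⟩
  mul_mem' := by
    rintro g h ⟨s, hs, es⟩ ⟨t, ht, et⟩
    exact ⟨s + t, fun e => by rw [map_add, hs e, ht e], by rw [map_mul, es, et, el_add]⟩
  inv_mem' := by
    rintro g ⟨s, hs, es⟩
    refine ⟨-s, fun e => by rw [map_neg, hs e], ?_⟩
    rw [map_inv, es, inv_eq_iff_mul_eq_one, ← el_add, add_neg_cancel, el_zero]

theorem mem_Xs {r : R} {g : Gp θ} : g ∈ Xs θ r ↔ ∃ t, Valid θ r t ∧ toG θ g = el θ r t := Iff.rfl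

theorem Xs_comm {r : R} {g h : Gp θ} (hg : g ∈ Xs θ r) (hh : h ∈ Xs θ r) : g * h = h * g := by
  obtain ⟨s, -, es⟩ := hg
  obtain ⟨t, -, et⟩ := hh
  refine toG_inj θ ?_
  rw [map_mul, map_mul, es, et, ← el_add, ← el_add, add_comm]

variable {θ}

theorem phi_el (h2 : ∀ t, θ (θ t) = t) {r : R} {t : K} (ht : Valid θ r t) :
    (TE6.twist θ).φ (el θ r t) = el θ r t := by
  by_cases h : pr r = r
  · rw [el_fix θ h, phi_X, h, sg_fixed θ h, one_mul, ht h]
  · rw [el_pair θ h, map_mul, phi_X, phi_X, pr_pr, map_mul, h2, ← mul_assoc, sg_mul, one_mul]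
    exact (X_comm_pr r t _).eq.symm

/-- the element of a root subgroup -/
noncomputable def xg (h2 : ∀ t, θ (θ t) = t) (r : R) (t : K) (ht : Valid θ r t) : Gp θ :=
  ofFix θ (el θ r t) (phi_el h2 ht)

theorem toG_xg (h2 : ∀ t, θ (θ t) = t) (r : R) (t : K) (ht : Valid θ r t) : toG θ (xg h2 r t ht) = el θ r t :=
  rfl

theorem xg_mem (h2 : ∀ t, θ (θ t) = t) (r : R) (t : K) (ht : Valid θ r t) : xg h2 r t ht ∈ Xs θ r :=
  ⟨t, ht, rfl⟩

theorem valid_of_phi {r : R} (h : pr r = r) {t : K} (e : (TE6.twist θ).φ (Xr r t) = Xr r t) : θ t = t := by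
  rw [phi_X, h, sg_fixed θ h, one_mul] at e
  exact X_inj e

theorem mem_of_single {g : Gp θ} {z : R} (hz : pr z = z) {t : K} (e : toG θ g = Xr z t) : g ∈ Xs θ z :=
  ⟨t, fun _ => valid_of_phi hz (by rw [← e, phi_toG]), e.trans (el_fix θ hz t).symm⟩

/-- a fixed element on an orbit lies in its root subgroup -/
theorem mem_of_pair (h2 : ∀ t, θ (θ t) = t) {g : Gp θ} {z : R} {A B : K}
    (e : toG θ g = Xr z A * Xr (pr z) B) : g ∈ Xs θ z := by
  by_cases hz : pr z = z
  · rw [hz, ← X_add] at e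
    exact mem_of_single hz e
  have hv : Valid θ z A := fun h => absurd h hz
  have hd : toG θ ((xg h2 z A hv)⁻¹ * g) = Xr (pr z) (B - sg θ z * θ A) := by
    rw [map_mul, map_inv, e, xg, toG_ofFix, el, if_neg hz, inv_mul_eq_iff_eq_mul, mul_assoc, ← X_add,
      add_sub_cancel]
  have h0 := phi_toG θ ((xg h2 z A hv)⁻¹ * g)
  rw [hd, phi_X, pr_pr] at h0
  have hδ := X_eq_zero h0 (Ne.symm hz)
  rw [mul_eq_zero, or_iff_right (sg_ne θ _), map_eq_zero, sub_eq_zero] at hδ
  exact ⟨A, hv, by rw [e, hδ, el, if_neg hz]⟩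

theorem Xs_pr (h2 : ∀ t, θ (θ t) = t) (r : R) : Xs θ (pr r) = Xs θ r := by
  have key : ∀ r : R, Xs θ r ≤ Xs θ (pr r) := fun r g ⟨t, ht, e⟩ => by
    by_cases h : pr r = r
    · rw [h]; exact ⟨t, ht, e⟩
    · rw [el, if_neg h, (X_comm_pr r t _).eq] at e
      exact mem_of_pair h2 (z := pr r) (A := sg θ r * θ t) (B := t) (by rw [pr_pr]; exact e)
  refine le_antisymm ?_ (key r)
  have := key (pr r)
  rwa [pr_pr] at this

/-! ### Relations -/

section algebra

variable {M : Type*} [Group M]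

theorem four_comm {a1 a2 g1 g2 k k' : M} (h1 : a1 * g1 = g1 * a1 * k) (h2 : a2 * g2 = g2 * a2 * k')
    (c1 : Commute a1 g2) (c2 : Commute a2 g1) (c3 : Commute k g2) (c4 : Commute k a2) :
    a1 * a2 * (g1 * g2) = g1 * g2 * (a1 * a2 * (k * k')) := by
  calc a1 * a2 * (g1 * g2) = a1 * (a2 * g1) * g2 := by group
    _ = a1 * g1 * (a2 * g2) := by rw [c2.eq]; group
    _ = g1 * a1 * (k * g2) * a2 * k' := by rw [h1, h2]; group
    _ = g1 * (a1 * g2) * (k * a2) * k' := by rw [c3.eq]; group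
    _ = _ := by rw [c1.eq, c4.eq]; group

theorem three_comm {a1 a2 g k1 k2 k3 : M} (h1 : a1 * g = g * a1 * k1) (h2 : a2 * g = g * a2 * k2)
    (h3 : k1 * a2 = a2 * k1 * k3) (c : Commute k3 k2) :
    a1 * a2 * g = g * (a1 * a2 * (k1 * k2 * k3)) := by
  calc a1 * a2 * g = a1 * (a2 * g) := by group
    _ = a1 * g * (a2 * k2) := by rw [h2]; group
    _ = g * a1 * (k1 * a2) * k2 := by rw [h1]; group
    _ = g * a1 * a2 * k1 * (k3 * k2) := by rw [h3]; group
    _ = _ := by rw [c.eq]; group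

end algebra

variable (θ)

/-- `z` is the sum of `r` and `u` -/
def Sum (r u z : R) : Prop := TE6.C.G.rho z = TE6.C.G.rho r + TE6.C.G.rho u

/-- both orbits have two roots and they meet once -/
def RelO (r u z : R) : Prop :=
  pr r ≠ r ∧ pr u ≠ u ∧ Sum r u z ∧ 0 ≤ ip chevE6 r (pr u) ∧ 0 ≤ ip chevE6 (pr r) u ∧
    0 ≤ ip chevE6 z (pr r) ∧ 0 ≤ ip chevE6 z (pr u)

/-- both orbits are fixed roots -/
def RelL (r u z : R) : Prop := pr r = r ∧ pr u = u ∧ pr z = z ∧ Sum r u z

/-- one fixed root and one orbit of two -/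
def RelLS (r u z w : R) : Prop :=
  pr r = r ∧ pr u ≠ u ∧ pr z ≠ z ∧ pr w = w ∧ Sum r u z ∧ Sum (pr u) z w ∧ 0 ≤ ip chevE6 w (pr z)

/-- all roots of the orbits pair nonnegatively -/
def RelN (r u : R) : Prop :=
  0 ≤ ip chevE6 r u ∧ 0 ≤ ip chevE6 r (pr u) ∧ 0 ≤ ip chevE6 (pr r) u ∧ 0 ≤ ip chevE6 (pr r) (pr u)

variable {θ}

theorem comm_N {r u : R} (h : RelN r u) {g a : Gp θ} (hg : g ∈ Xs θ r) (ha : a ∈ Xs θ u) : a * g = g * a := by
  obtain ⟨h1, h2', h3, h4⟩ := h
  obtain ⟨t, -, et⟩ := hg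
  obtain ⟨v, -, ev⟩ := ha
  refine toG_inj θ ?_
  rw [map_mul, map_mul, et, ev]
  show Commute (el θ u v) (el θ r t)
  refine Commute.symm ?_
  unfold el
  split <;> split
  · exact X_comm h1 t v
  · exact (X_comm h1 t v).mul_right (X_comm h2' t _)
  · exact (X_comm h1 t v).mul_left (X_comm h3 _ v)
  · exact ((X_comm h1 t v).mul_right (X_comm h2' t _)).mul_left ((X_comm h3 _ v).mul_right (X_comm h4 _ _))

/-- the commutator of two orbits meeting once -/
theorem comm_O {r u z : R} (h : RelO r u z) :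
    ∃ c : K, c ≠ 0 ∧ ∀ (g a : Gp θ) (t v : K), toG θ g = el θ r t → toG θ a = el θ u v →
      ∃ k : Gp θ, a * g = g * (a * k) ∧
        toG θ k = Xr z (c * t * v) * (TE6.twist θ).φ (Xr z (c * t * v)) := by
  obtain ⟨hr, hu, hs, i1, i2, i3, i4⟩ := h
  obtain ⟨c, hc, hcm⟩ := comm1 (K := K) laced hs
  refine ⟨c, hc, fun g a t v et ev => ⟨a⁻¹ * g⁻¹ * a * g, by group, ?_⟩⟩
  have h1 := hcm t v
  have h2' := congrArg (TE6.twist θ).φ h1
  simp only [map_mul] at h2'
  rw [el_pair θ hr] at et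
  rw [el_pair θ hu] at ev
  have h4 := four_comm (g1 := Xr r t) (a1 := Xr u v) h1 h2'
    (by rw [phi_X]; exact (X_comm (by rw [laced.1]; exact i2) v _))
    (by rw [phi_X]; exact (X_comm i1 t _).symm)
    (by rw [phi_X]; exact X_comm i3 _ _)
    (by rw [phi_X]; exact X_comm i4 _ _)
  rw [map_mul, map_mul, map_mul, map_inv, map_inv, et, ev, mul_assoc, h4]
  group

theorem comm_L {r u z : R} (h : RelL r u z) :
    ∃ c : K, c ≠ 0 ∧ ∀ (g a : Gp θ) (t v : K), toG θ g = el θ r t → toG θ a = el θ u v →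
      ∃ k : Gp θ, a * g = g * (a * k) ∧ toG θ k = Xr z (c * t * v) := by
  obtain ⟨hr, hu, -, hs⟩ := h
  obtain ⟨c, hc, hcm⟩ := comm1 (K := K) laced hs
  refine ⟨c, hc, fun g a t v et ev => ⟨a⁻¹ * g⁻¹ * a * g, by group, ?_⟩⟩
  rw [el_fix θ hr] at et
  rw [el_fix θ hu] at ev
  rw [map_mul, map_mul, map_mul, map_inv, map_inv, et, ev, mul_assoc, hcm]
  group

theorem comm_LS (h2 : ∀ t, θ (θ t) = t) {r u z w : R} (h : RelLS r u z w) {g a : Gp θ} (hg : g ∈ Xs θ r)
    (ha : a ∈ Xs θ u) : ∃ k ∈ Xs θ z ⊔ Xs θ w, a * g = g * (a * k) := by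
  obtain ⟨hr, hu, hz, hw, hs, hs', i1⟩ := h
  obtain ⟨t, ht, et⟩ := hg
  obtain ⟨v, -, ev⟩ := ha
  obtain ⟨c, -, hcm⟩ := comm1 (K := K) laced hs
  obtain ⟨d, -, hdm⟩ := comm1 (K := K) laced hs'
  rw [el_fix θ hr] at et
  rw [el_pair θ hu] at ev
  refine ⟨a⁻¹ * g⁻¹ * a * g, ?_, by group⟩
  have hfix : (TE6.twist θ).φ (Xr r t) = Xr r t := by rw [phi_X, hr, sg_fixed θ hr, one_mul, ht hr]
  have h1 := hcm t v
  have h2' := congrArg (TE6.twist θ).φ h1
  simp only [map_mul, hfix] at h2'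
  set A := c * t * v with hA
  set D := d * (sg θ u * θ v) * A
  have h3 : Xr z A * (TE6.twist θ).φ (Xr u v) = (TE6.twist θ).φ (Xr u v) * Xr z A * Xr w D := by
    rw [phi_X]; exact hdm _ _
  have h4 := three_comm (g := Xr r t) (a1 := Xr u v) h1 h2' h3
    (by rw [phi_X]; exact X_comm i1 _ _)
  set k := a⁻¹ * g⁻¹ * a * g with hk
  have ek : toG θ k = el θ z A * Xr w D := by
    rw [hk, map_mul, map_mul, map_mul, map_inv, map_inv, et, ev, mul_assoc, h4, el_pair θ hz]
    group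
  have hv : Valid θ z A := fun e => absurd e hz
  have ez : toG θ ((xg h2 z A hv)⁻¹ * k) = Xr w D := by
    rw [map_mul, map_inv, ek, xg, toG_ofFix]; group
  rw [show k = xg h2 z A hv * ((xg h2 z A hv)⁻¹ * k) by group]
  exact Subgroup.mul_mem_sup (xg_mem h2 z A hv) (mem_of_single hw ez)

theorem mem_O (h2 : ∀ t, θ (θ t) = t) {z : R} {k : Gp θ} {A : K}
    (e : toG θ k = Xr z A * (TE6.twist θ).φ (Xr z A)) : k ∈ Xs θ z := by
  rw [phi_X] at e
  exact mem_of_pair h2 e

/-- commutators with a fixed element of an orbit fill the root subgroup of the sum -/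
theorem surj (h2 : ∀ t, θ (θ t) = t) (hne : ∃ x, θ x ≠ x) {r u z : R} (h : RelO r u z ∨ RelL r u z)
    {a : Gp θ} (ha : a ∈ Xs θ u) (ha1 : a ≠ 1) {w : Gp θ} (hw : w ∈ Xs θ z) :
    ∃ g ∈ Xs θ r, a * g = g * (a * w) := by
  obtain ⟨v, hv, ev⟩ := ha
  have hv0 : v ≠ 0 := fun e => ha1 (toG_inj θ (by rw [ev, e, el_zero, map_one]))
  obtain ⟨W, hW, eW⟩ := hw
  rcases h with h | h
  · obtain ⟨c, hc, hk⟩ := comm_O (θ := θ) h
    have hr := h.1
    obtain ⟨A, hA⟩ : ∃ A, Xr z A * (TE6.twist θ).φ (Xr z A) = el θ z W := by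
      by_cases hz : pr z = z
      · obtain ⟨A0, hA0⟩ : ∃ A0, A0 + θ A0 ≠ 0 := by
          by_contra hall
          simp only [not_exists, not_not] at hall
          obtain ⟨x, hx⟩ := hne
          have h11 := hall 1
          rw [map_one] at h11
          refine hx ?_
          rw [← sub_eq_zero, ← hall x]
          linear_combination (-x) * h11
        refine ⟨W / (A0 + θ A0) * A0, ?_⟩
        have hf : θ (W / (A0 + θ A0)) = W / (A0 + θ A0) := by
          rw [map_div₀, map_add, h2, hW hz, add_comm (θ A0)]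
        rw [phi_X, hz, sg_fixed θ hz, one_mul, ← X_add, map_mul, hf, el_fix θ hz, ← mul_add,
          div_mul_cancel₀ _ hA0]
      · exact ⟨W, (el_pair θ hz W).symm⟩
    set t := A / (c * v)
    have ht : Valid θ r t := fun e => absurd e hr
    obtain ⟨k, e1, e2⟩ := hk (xg h2 r t ht) a t v rfl ev
    refine ⟨_, xg_mem h2 r t ht, ?_⟩
    rw [e1, toG_inj θ (show toG θ k = toG θ w by
      rw [e2, eW, show c * t * v = A by simp only [t]; field_simp, hA])]
  · obtain ⟨c, hc, hk⟩ := comm_L (θ := θ) h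
    obtain ⟨hr, hu, hz, -⟩ := h
    obtain ⟨k0, -, e0⟩ := hk (xg h2 r 1 fun _ => map_one θ) a 1 v rfl ev
    have hv' : θ (c * 1 * v) = c * 1 * v := valid_of_phi hz (by rw [← e0, phi_toG])
    set t := W / (c * 1 * v)
    have ht : Valid θ r t := fun _ => by rw [map_div₀, hW hz, hv']
    obtain ⟨k, e1, e2⟩ := hk (xg h2 r t ht) a t v rfl ev
    refine ⟨_, xg_mem h2 r t ht, ?_⟩
    rw [e1, toG_inj θ (show toG θ k = toG θ w by
      rw [e2, eW, el_fix θ hz, show c * t * v = W by simp only [t]; field_simp])]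

end CfsgLib.MinDeg.TwE6
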