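import Cfsg.Agent.Lib.MinDeg.RootSpace
import Cfsg.Agent.Lib.Lie.Chev.Unip2
import Cfsg.Agent.Lib.Lie.Chev.StCells
import Cfsg.Agent.Lib.Lie.Chev.Simple
import Mathlib.RepresentationTheory.Irreducible
import Mathlib.Analysis.Complex.Polynomial.Basic

/-!
# Schur's relation on the Bruhat cells

For a vector `v` fixed by the Borel subgroup, with `φ` the matrix coefficient dual to it, the relation
`∑ g, φ (g v) φ (g⁻¹ v) = |G| / k` becomes a sum over the Weyl group, and the coefficients multiply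
along reduced words.
-/

set_option autoImplicit false
set_option linter.unusedSectionVars false

namespace CfsgLib.MinDeg.RootSpace

open Cfsg.Lie CfsgLib.Lie.Chev
open scoped MatrixGroups

/-- Schur's relation for a rank one operator -/
theorem schur_sum {G : Type*} [Group G] [Fintype G] {V : Type*} [AddCommGroup V] [Module ℂ V]
    [FiniteDimensional ℂ V] [Nontrivial V] (ρ : Representation ℂ G V) [hρ : ρ.IsIrreducible]
    (v : V) (φ : V →ₗ[ℂ] ℂ) (h1 : φ v = 1) :
    (∑ g : G, φ (ρ g v) * φ (ρ g⁻¹ v)) * (Module.finrank ℂ V : ℂ) = Fintype.card G := by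
  classical
  let T : Module.End ℂ V := ∑ g : G, ρ g ∘ₗ φ.smulRight v ∘ₗ ρ g⁻¹
  have hT : ∀ x, T x = ∑ g : G, φ (ρ g⁻¹ x) • ρ g v := fun x => by
    simp [T, LinearMap.sum_apply]
  obtain ⟨c, hc⟩ := Module.End.exists_eigenvalue T
  let W : Subrepresentation ρ := ⟨Module.End.eigenspace T c, fun h x hx => by
    rw [Module.End.mem_eigenspace_iff] at hx ⊢
    rw [← map_smul, ← hx, hT, hT, map_sum]
    refine Fintype.sum_equiv (Equiv.mulLeft h⁻¹) _ _ fun g => ?_
    rw [Equiv.coe_mulLeft, map_smul, mul_inv_rev, inv_inv]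
    simp only [map_mul, Module.End.mul_apply]
    congr 1
    rw [← Module.End.mul_apply (ρ h), ← map_mul, mul_inv_cancel, map_one, Module.End.one_apply]⟩
  have htop : Module.End.eigenspace T c = ⊤ := by
    rcases IsSimpleOrder.eq_bot_or_eq_top W with h | h
    · exact absurd (congrArg Subrepresentation.toSubmodule h) hc
    · exact congrArg Subrepresentation.toSubmodule h
  have hTc : T = c • (1 : Module.End ℂ V) := LinearMap.ext fun x => by
    have : x ∈ Module.End.eigenspace T c := by rw [htop]; exact Submodule.mem_top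
    simpa using Module.End.mem_eigenspace_iff.1 this
  have e1 : (Fintype.card G : ℂ) = c * (Module.finrank ℂ V : ℂ) := by
    have h := congrArg (LinearMap.trace ℂ V) hTc
    have hg : ∀ g : G, LinearMap.trace ℂ V (ρ g ∘ₗ φ.smulRight v ∘ₗ ρ g⁻¹) = 1 := fun g => by
      rw [← Module.End.mul_eq_comp, ← Module.End.mul_eq_comp, LinearMap.trace_mul_comm, mul_assoc, ← map_mul,
        inv_mul_cancel, map_one, mul_one, LinearMap.trace_smulRight, h1]
    simp only [T, map_sum, hg, map_smul, LinearMap.trace_one, smul_eq_mul, Finset.sum_const,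
      Finset.card_univ, nsmul_eq_mul, mul_one] at h
    exact h
  have e2 : ∑ g : G, φ (ρ g v) * φ (ρ g⁻¹ v) = c := by
    have h := congrArg φ (hT v)
    rw [hTc] at h
    simp only [LinearMap.smul_apply, Module.End.one_apply, map_smul, h1, map_sum, smul_eq_mul, mul_one] at h
    rw [h]
    exact Finset.sum_congr rfl fun g _ => mul_comm _ _
  rw [e2, e1]

variable {D : ChevalleyDatum} (C : Full D) {K : Type*} [Field K] [Fintype K]
variable {V : Type*} [AddCommGroup V] [Module ℂ V] (ρ : Representation ℂ ↥(D.group K) V)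

/-- a vector and a functional fixed by the Borel subgroup -/
structure BorelPair (v : V) (φ : V →ₗ[ℂ] ℂ) : Prop where
  fix : ∀ g : ↥(D.group K), (g : GL D.Idx K) ∈ D.borelSubgroup K → ρ g v = v
  inv : ∀ g : ↥(D.group K), (g : GL D.Idx K) ∈ D.borelSubgroup K → ∀ y, φ (ρ g y) = φ y
  coord : ∀ y, (∀ g : ↥(D.group K), (g : GL D.Idx K) ∈ D.posUnipotent K → ρ g y = y) → y = φ y • v
  one : φ v = 1

/-- the coefficient of a monomial element and of its inverse -/
noncomputable def coef2 (v : V) (φ : V →ₗ[ℂ] ℂ) (g : ↥(D.group K)) : ℂ := φ (ρ g v) * φ (ρ g⁻¹ v)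

variable {C ρ} {v : V} {φ : V →ₗ[ℂ] ℂ}

theorem coef2_cell (P : BorelPair ρ v φ) {g n b b' : ↥(D.group K)}
    (hb : (b : GL D.Idx K) ∈ D.borelSubgroup K) (hb' : (b' : GL D.Idx K) ∈ D.borelSubgroup K)
    (h : g = b * n * b') : coef2 ρ v φ g = coef2 ρ v φ n := by
  subst h
  rw [coef2, coef2, mul_inv_rev, mul_inv_rev]
  simp only [rho_mul, P.fix b' hb', P.inv b hb, P.fix b⁻¹ (inv_mem hb), P.inv b'⁻¹ (inv_mem hb')]

include C in
/-- the sum over the group of the coefficients, by cells -/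
theorem sum_coef2 [DecidablePred (· ∈ C.G.Wg)] [Fintype ↥(D.group K)] (P : BorelPair ρ v φ)
    (nn : Equiv.Perm (Fin D.nroots) → ↥(D.group K))
    (hnn : ∀ w ∈ C.G.Wg, (nn w : GL D.Idx K) = C.nr w) :
    ∑ g : ↥(D.group K), coef2 ρ v φ g = (Nat.card ↥(D.borelSubgroup K) : ℂ) *
      ∑ w ∈ (Finset.univ.filter (· ∈ C.G.Wg)), (Fintype.card K : ℂ) ^ ninv C.G w * coef2 ρ v φ (nn w) := by
  classical
  let W := {π : Equiv.Perm (Fin D.nroots) // π ∈ C.G.Wg}
  have hnr : ∀ w : W, C.G.NPerm (C.nr w.1 : GL D.Idx K) w.1 := fun w => C.nr_perm w.2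
  let Φ : ↥(D.borelSubgroup K) × (Σ w : W, (Uinv C.G w.1 : Subgroup (GL D.Idx K))) → ↥(D.group K) :=
    fun x => (⟨(x.1 : GL D.Idx K), C.G.borel_le_group x.1.2⟩ : ↥(D.group K)) * nn x.2.1.1 *
      ⟨(x.2.2 : GL D.Idx K), C.G.posUnipotent_le_group (C.G.Uinv_le _ x.2.2.2)⟩
  have hΦv : ∀ x, (Φ x : GL D.Idx K) = (x.1 : GL D.Idx K) * C.nr x.2.1.1 * (x.2.2 : GL D.Idx K) := fun x => by
    simp only [Φ, Subgroup.coe_mul, hnn _ x.2.1.2]
  have hΦ : Function.Bijective Φ := by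
    constructor
    · rintro ⟨b, w, u⟩ ⟨b', w', u'⟩ h
      have h' := congrArg Subtype.val h
      rw [hΦv, hΦv] at h'
      simp only at h'
      have e := C.eqv_mem_H (C.nr_mem w.1) (C.nr_mem w'.1) b.2 b'.2
        (Subgroup.mem_sup_left (C.G.Uinv_le _ u.2)) (Subgroup.mem_sup_left (C.G.Uinv_le _ u'.2)) h'
      have e2 := Good.NPerm.unique C.G (C.G.nPerm_H e)
        (Good.NPerm.mul C.G (Good.NPerm.inv C.G (hnr w)) (hnr w'))
      rw [eq_comm, inv_mul_eq_one] at e2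
      have : w = w' := Subtype.ext e2
      subst this
      obtain ⟨e3, e4⟩ := C.refined_unique b.2 b'.2 (hnr w) u.2 u'.2 h'
      rw [Subtype.ext e3, Subtype.ext e4]
    · rintro ⟨g, hg⟩
      obtain ⟨b, hb, n, hn, π, hπ, u, hu, rfl⟩ := C.refined_exists hg
      have hπW : π ∈ C.G.Wg := C.perm_mem_Wg hn hπ
      let w : W := ⟨π, hπW⟩
      have hh := C.eq_mul_H (C.nr_mem π) hn (hnr w) hπ
      have hc : n * (C.nr π)⁻¹ ∈ D.diagonalSubgroup K := by
        have := (Subgroup.mem_normalizer_iff.1 (C.G.monomial_le_normalizer (C.nr_mem π)) _).1 hh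
        simpa [mul_assoc, w] using this
      refine ⟨⟨⟨b * (n * (C.nr π)⁻¹), mul_mem hb (Subgroup.mem_sup_right hc)⟩, w, ⟨u, hu⟩⟩, Subtype.ext ?_⟩
      rw [hΦv]
      simp [mul_assoc, w]
  rw [← hΦ.sum_comp (coef2 ρ v φ), Fintype.sum_prod_type]
  have hval : ∀ (b : ↥(D.borelSubgroup K)) (s : Σ w : W, (Uinv C.G w.1 : Subgroup (GL D.Idx K))),
      coef2 ρ v φ (Φ (b, s)) = coef2 ρ v φ (nn s.1.1) := fun b s =>
    coef2_cell (g := Φ (b, s)) P b.2 (Subgroup.mem_sup_left (C.G.Uinv_le _ s.2.2)) rfl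
  simp only [hval, Finset.sum_const, Finset.card_univ, nsmul_eq_mul]
  rw [Nat.card_eq_fintype_card, Fintype.sum_sigma]
  congr 1
  rw [Finset.sum_subtype (Finset.univ.filter (· ∈ C.G.Wg)) (p := (· ∈ C.G.Wg)) (by simp)]
  refine Finset.sum_congr rfl fun w _ => ?_
  simp only [Finset.sum_const, Finset.card_univ, nsmul_eq_mul]
  rw [← Nat.card_eq_fintype_card, C.card_Uinv (hnr w), Nat.cast_pow]

include C in
/-- the coefficients multiply along reduced words -/
theorem coef_mul (P : BorelPair ρ v φ) (i : Fin D.rank) {ni n : ↥(D.group K)}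
    (hni : (ni : GL D.Idx K) = C.G.nU i) {π : Equiv.Perm (Fin D.nroots)}
    (hn : C.G.NPerm (n : GL D.Idx K) π) (hred : D.IsPosRoot (π⁻¹ (C.G.simp' i)).val) :
    φ (ρ (ni * n) v) = φ (ρ ni v) * φ (ρ n v) ∧ φ (ρ (ni * n)⁻¹ v) = φ (ρ ni⁻¹ v) * φ (ρ n⁻¹ v) := by
  classical
  haveI : Finite ↥(D.posUnipotent K) := inferInstance
  haveI : Fintype ↥(D.posUnipotent K) := Fintype.ofFinite _
  let U := ↥(D.posUnipotent K)
  let gu : U → ↥(D.group K) := fun u => ⟨u.1, C.G.posUnipotent_le_group u.2⟩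
  have guB : ∀ u, (gu u : GL D.Idx K) ∈ D.borelSubgroup K := fun u => Subgroup.mem_sup_left u.2
  have hNU : (Fintype.card U : ℂ) ≠ 0 := Nat.cast_ne_zero.2 Fintype.card_ne_zero
  -- averages are multiples of `v`
  have havg : ∀ y, ∑ u : U, ρ (gu u) y = ((Fintype.card U : ℂ) * φ y) • v := fun y => by
    have hfix : ∀ g : ↥(D.group K), (g : GL D.Idx K) ∈ D.posUnipotent K →
        ρ g (∑ u : U, ρ (gu u) y) = ∑ u : U, ρ (gu u) y := fun g hg => by
      rw [map_sum]
      refine Fintype.sum_equiv (Equiv.mulLeft (⟨_, hg⟩ : U)) _ _ fun u => ?_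
      rw [← rho_mul]
      rfl
    have h := P.coord _ hfix
    rw [map_sum] at h
    simp only [P.inv _ (guB _), Finset.sum_const, Finset.card_univ, nsmul_eq_mul] at h
    exact h
  have hsum : ∀ (f : V →ₗ[ℂ] ℂ) (y : V), (∀ u : U, f (ρ (gu u) y) = f y) → f y = φ y * f v := fun f y hf => by
    have h := congrArg f (havg y)
    rw [map_sum] at h
    simp only [hf, Finset.sum_const, Finset.card_univ, nsmul_eq_mul, map_smul, smul_eq_mul, mul_assoc] at h
    exact mul_left_cancel₀ hNU h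
  have hsimp : ∀ t : K, (n : GL D.Idx K)⁻¹ * C.G.xu (C.G.simp' i) t * n ∈ D.posUnipotent K := by
    intro t
    obtain ⟨c, hc⟩ := Good.NPerm.inv C.G hn (C.G.simp' i)
    have := hc t
    rw [inv_inv] at this
    rw [this]
    exact C.G.xu_mem_U hred _
  have hdec : ∀ u : U, ∃ a b : ↥(D.group K), gu u = a * b ∧
      ((ni * a * ni⁻¹ : ↥(D.group K)) : GL D.Idx K) ∈ D.posUnipotent K ∧
      ((n⁻¹ * b * n : ↥(D.group K)) : GL D.Idx K) ∈ D.posUnipotent K := by
    intro u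
    obtain ⟨a, ha, b, hb, e⟩ := C.exists_keep_mul_inv (C.G.sP i) u.2
    refine ⟨⟨a, C.G.posUnipotent_le_group (C.G.Ukeep_le _ ha)⟩,
      ⟨b, C.G.posUnipotent_le_group (C.G.Uinv_le _ hb)⟩, Subtype.ext e, ?_, ?_⟩
    · simp only [Subgroup.coe_mul, Subgroup.coe_inv, hni]
      exact C.G.conj_Ukeep (C.G.nPerm_nU i) a ha
    · obtain ⟨t, rfl⟩ := C.G.Uinv_simple i hb
      simpa using hsimp t
  have hUB : ∀ {g : ↥(D.group K)}, (g : GL D.Idx K) ∈ D.posUnipotent K → (g : GL D.Idx K) ∈ D.borelSubgroup K :=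
    fun h => Subgroup.mem_sup_left h
  constructor
  · rw [rho_mul]
    have h := hsum (φ ∘ₗ ρ ni) (ρ n v) fun u => by
      obtain ⟨a, b, e, ha, hb⟩ := hdec u
      simp only [LinearMap.comp_apply]
      rw [← rho_mul, ← rho_mul, e,
        show ni * (a * b) * n = ni * a * ni⁻¹ * (ni * n) * (n⁻¹ * b * n) by group,
        rho_mul, P.fix _ (hUB hb), rho_mul, P.inv _ (hUB ha), rho_mul]
    simp only [LinearMap.comp_apply] at h
    rw [h, mul_comm]
  · rw [mul_inv_rev, rho_mul]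
    have h := hsum (φ ∘ₗ ρ n⁻¹) (ρ ni⁻¹ v) fun u => by
      obtain ⟨a, b, e, ha, hb⟩ := hdec u⁻¹
      have e' : gu u = b⁻¹ * a⁻¹ := by
        rw [← mul_inv_rev, ← e]
        exact Subtype.ext (inv_inv (u : GL D.Idx K)).symm
      simp only [LinearMap.comp_apply]
      rw [← rho_mul, ← rho_mul, e',
        show n⁻¹ * (b⁻¹ * a⁻¹) * ni⁻¹ = (n⁻¹ * b * n)⁻¹ * (n⁻¹ * ni⁻¹) * (ni * a * ni⁻¹)⁻¹ by group,
        rho_mul, P.fix _ (inv_mem (hUB ha)), rho_mul, P.inv _ (inv_mem (hUB hb)), rho_mul]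
    simp only [LinearMap.comp_apply] at h
    rw [h]

end CfsgLib.MinDeg.RootSpace
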