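import Mathlib.Data.Nat.Notation

/-!
# Certificate data of type E6 for the minimal degree
-/

namespace CfsgLib.MinDeg.LacedRoot

/-- the edges of the diagram -/
def edgesE6 : List (ℕ × ℕ) := [(0, 2), (1, 3), (2, 3), (3, 4), (4, 5)]

/-- the roots pairing to one with each fundamental root -/
def spE6 : List (List ℕ) := [
  [57, 58, 59, 60, 61, 62, 63, 64, 65, 66],
  [47, 48, 49, 50, 51, 52, 61, 62, 63, 71],
  [43, 44, 45, 50, 51, 52, 57, 67, 68, 69],
  [40, 41, 43, 47, 53, 54, 58, 64, 65, 70],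
  [38, 40, 44, 48, 51, 55, 59, 62, 66, 69],
  [38, 41, 45, 49, 52, 54, 60, 63, 65, 68]]

/-- the closure at the node 0 -/
def stepsE6_0 : List (ℕ × ℕ × ℕ) := [
  (67, 22, 71), (36, 23, 49), (68, 23, 71), (37, 24, 48), (38, 24, 49), (69, 24, 71),
  (39, 25, 47), (40, 25, 48), (41, 25, 49), (70, 25, 71), (46, 30, 49), (47, 33, 49),
  (48, 35, 49), (49, 36, 48), (71, 46, 70), (42, 22, 52), (43, 22, 54), (44, 22, 55),
  (45, 23, 55), (50, 30, 54), (51, 30, 55), (52, 31, 55), (53, 33, 55), (54, 34, 55),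
  (55, 37, 54)]

/-- the closure at the node 1 -/
def stepsE6_1 : List (ℕ × ℕ × ℕ) := [
  (53, 14, 67), (54, 14, 68), (55, 14, 69), (42, 15, 57), (56, 29, 57), (64, 29, 67),
  (65, 29, 68), (66, 29, 69), (67, 33, 69), (36, 34, 38), (68, 34, 69), (37, 35, 38),
  (38, 36, 37), (69, 37, 68), (57, 42, 56), (39, 14, 58), (40, 14, 59), (41, 14, 60),
  (43, 15, 58), (44, 15, 59), (45, 15, 60), (58, 33, 60), (59, 35, 60), (60, 36, 59),
  (70, 39, 69)]

/-- the closure at the node 2 -/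
def stepsE6_2 : List (ℕ × ℕ × ℕ) := [
  (58, 25, 61), (59, 25, 62), (60, 25, 63), (70, 25, 71), (53, 33, 55), (61, 33, 63),
  (36, 34, 38), (54, 34, 55), (37, 35, 38), (62, 35, 63), (38, 36, 37), (63, 36, 62),
  (55, 37, 54), (71, 46, 70), (39, 25, 47), (40, 25, 48), (41, 25, 49), (47, 33, 49),
  (64, 33, 66), (65, 34, 66), (48, 35, 49), (49, 36, 48), (66, 37, 65)]

/-- the closure at the node 3 -/
def stepsE6_3 : List (ℕ × ℕ × ℕ) := [
  (44, 15, 59), (45, 15, 60), (50, 15, 61), (55, 15, 66), (48, 35, 49), (59, 35, 60),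
  (67, 35, 68), (49, 36, 48), (60, 36, 59), (68, 36, 67), (66, 48, 60), (71, 48, 68),
  (61, 50, 56), (42, 15, 57), (51, 15, 62), (52, 15, 63), (37, 35, 38), (62, 35, 63),
  (38, 36, 37), (63, 36, 62), (69, 37, 68), (57, 42, 56)]

/-- the closure at the node 4 -/
def stepsE6_4 : List (ℕ × ℕ × ℕ) := [
  (41, 14, 60), (49, 14, 63), (53, 14, 67), (42, 15, 57), (45, 15, 60), (52, 15, 63),
  (60, 25, 63), (70, 25, 71), (56, 29, 57), (64, 29, 67), (57, 42, 56), (67, 42, 64),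
  (63, 46, 60), (71, 46, 70), (39, 14, 58), (47, 14, 61), (54, 14, 68), (43, 15, 58),
  (50, 15, 61), (58, 25, 61), (65, 29, 68), (68, 36, 67), (61, 46, 58)]

/-- the closure at the node 5 -/
def stepsE6_5 : List (ℕ × ℕ × ℕ) := [
  (55, 10, 71), (46, 13, 61), (39, 14, 58), (47, 14, 61), (42, 15, 57), (43, 15, 58),
  (50, 15, 61), (56, 21, 61), (66, 21, 71), (57, 24, 61), (69, 24, 71), (58, 25, 61),
  (70, 25, 71), (61, 46, 58), (71, 46, 70), (37, 10, 62), (40, 10, 64), (44, 10, 67),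
  (48, 13, 64), (51, 13, 67), (53, 14, 67), (59, 21, 67), (62, 28, 67), (64, 29, 67),
  (67, 42, 64)]

/-- the closures -/
def stepsE6 : List (List (ℕ × ℕ × ℕ)) := [stepsE6_0, stepsE6_1, stepsE6_2, stepsE6_3, stepsE6_4, stepsE6_5]

/-- words separating torus characters -/
def wordsE6 : List (List ℕ) := [[], [2], [3, 2], [4, 3, 2], [5, 4, 3, 2], [1, 3, 2]]

/-- the numbers of positive roots of each height -/
def multE6 : List (ℕ × ℕ) := [(1, 6), (2, 5), (3, 5), (4, 5), (5, 4), (6, 3), (7, 3), (8, 2), (9, 1), (10, 1), (11, 1)]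

end CfsgLib.MinDeg.LacedRoot
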