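import Cfsg.Agent.Lib.MinDeg.LacedCert
import Cfsg.Agent.Lib.MinDeg.DataE6
import Cfsg.Agent.Lib.Lie.Chev.GoodE6
import Cfsg.Agent.Lib.Lie.Chev.CommE6
import Cfsg.Agent.Lib.Lie.Laced.CertE6

/-!
# Minimal degree data of type E6
-/

set_option autoImplicit false
set_option maxRecDepth 100000
set_option linter.unusedSectionVars false

namespace CfsgLib.MinDeg.LacedRoot

open Cfsg.Lie CfsgLib.Lie.Chev CfsgLib.Lie.Laced

/-- the verified datum of type E6 -/
noncomputable def fullE6 : Full chevE6 := ⟨goodE6, fastE6, rowsOK chkRows_E6, chkComm_E6⟩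

/-- adjacency in the diagram -/
def adjE6 (i j : Fin chevE6.rank) : Bool :=
  edgesE6.contains (i.val, j.val) || edgesE6.contains (j.val, i.val)

theorem chkNodesE6 : ∀ j : Fin chevE6.rank,
    chkNode chevE6 fastE6 j.val (spE6.getD j.val [])
      (if j ∈ ([⟨0, by decide +kernel⟩, ⟨1, by decide +kernel⟩, ⟨5, by decide +kernel⟩] : List (Fin chevE6.rank)) then [] else
        ([⟨0, by decide +kernel⟩, ⟨1, by decide +kernel⟩, ⟨5, by decide +kernel⟩] : List (Fin chevE6.rank)).map Fin.val) (stepsE6.getD j.val []) = true := by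
  decide +kernel

theorem exists_lsysE6 : ∃ S : LSys fullE6 10, S.adj = adjE6 :=
  exists_lsys fullE6 (rowsOK chkRows_E6) fullE6.keys (isLaced fullE6 (rowsOK chkRows_E6) fullE6.keys lacedE6)
    adjE6 10 (by norm_num) (by decide +kernel) (by decide +kernel) (by decide +kernel)
    ⟨0, by decide +kernel⟩
    ⟨fun i => [0, 3, 1, 2, 3, 4].getD i.val 0, by decide +kernel⟩
    (fun j => spE6.getD j.val []) (by decide +kernel) [⟨0, by decide +kernel⟩, ⟨1, by decide +kernel⟩, ⟨5, by decide +kernel⟩]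
    (fun j => stepsE6.getD j.val []) chkNodesE6

theorem regularE6 (q : ℕ) (hq : 2 ≤ q) : TreeOperators.Regular adjE6 q := by
  intro c hc x he
  have hne : ∀ i j, adjE6 i j = true → c i j ≠ 0 := fun i j h h0 => by
    have := hc i j h
    rw [h0, zero_mul] at this
    exact Nat.cast_ne_zero.2 (show q ≠ 0 by omega) this.symm
  let n0 : Fin chevE6.rank := ⟨0, by decide +kernel⟩
  let n1 : Fin chevE6.rank := ⟨1, by decide +kernel⟩
  let n2 : Fin chevE6.rank := ⟨2, by decide +kernel⟩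
  let n3 : Fin chevE6.rank := ⟨3, by decide +kernel⟩
  let n4 : Fin chevE6.rank := ⟨4, by decide +kernel⟩
  let n5 : Fin chevE6.rank := ⟨5, by decide +kernel⟩
  have eqn : ∀ (j : Fin chevE6.rank) (L : List (Fin chevE6.rank)), L.Nodup →
      Finset.univ.filter (fun i => adjE6 j i = true) = L.toFinset →
        ((q : ℂ) + 1) * x j + (L.map fun i => c j i * x i).sum = 0 := fun j L hn hf => by
    rw [← List.sum_toFinset _ hn, ← hf]
    exact he j
  have bne : ∀ k : ℕ, (∑ i ∈ Finset.range (k + 1), (q : ℂ) ^ i) ≠ 0 := fun k => by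
    rw [show (∑ i ∈ Finset.range (k + 1), (q : ℂ) ^ i) = ((∑ i ∈ Finset.range (k + 1), q ^ i : ℕ) : ℂ) by push_cast; rfl]
    exact Nat.cast_ne_zero.2 (by rw [Finset.sum_range_succ']; simp)
  have e0 := eqn n0 [n2] (by decide +kernel) (by decide +kernel)
  simp only [List.map_cons, List.map_nil, List.sum_cons, List.sum_nil, add_zero] at e0
  have e1 := eqn n1 [n3] (by decide +kernel) (by decide +kernel)
  simp only [List.map_cons, List.map_nil, List.sum_cons, List.sum_nil, add_zero] at e1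
  have e2 := eqn n2 [n0, n3] (by decide +kernel) (by decide +kernel)
  simp only [List.map_cons, List.map_nil, List.sum_cons, List.sum_nil, add_zero] at e2
  have e3 := eqn n3 [n1, n2, n4] (by decide +kernel) (by decide +kernel)
  simp only [List.map_cons, List.map_nil, List.sum_cons, List.sum_nil, add_zero] at e3
  have e4 := eqn n4 [n3, n5] (by decide +kernel) (by decide +kernel)
  simp only [List.map_cons, List.map_nil, List.sum_cons, List.sum_nil, add_zero] at e4
  have e5 := eqn n5 [n4] (by decide +kernel) (by decide +kernel)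
  simp only [List.map_cons, List.map_nil, List.sum_cons, List.sum_nil, add_zero] at e5
  have s1 : ((q : ℂ) ^ 1 + (q : ℂ) ^ 0) * (c n3 n1 * x n1) + (q : ℂ) * ((q : ℂ) ^ 0) * x n3 = 0 := by
    linear_combination c n3 n1 * e1 - x n3 * (hc n3 n1 (by decide +kernel))
  have s0 : ((q : ℂ) ^ 1 + (q : ℂ) ^ 0) * (c n2 n0 * x n0) + (q : ℂ) * ((q : ℂ) ^ 0) * x n2 = 0 := by
    linear_combination c n2 n0 * e0 - x n2 * (hc n2 n0 (by decide +kernel))
  have s2 : ((q : ℂ) ^ 2 + (q : ℂ) ^ 1 + (q : ℂ) ^ 0) * (c n3 n2 * x n2) + (q : ℂ) * ((q : ℂ) ^ 1 + (q : ℂ) ^ 0) * x n3 = 0 := by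
    linear_combination c n3 n2 * ((q : ℂ) ^ 1 + (q : ℂ) ^ 0) * e2 - c n3 n2 * s0 - ((q : ℂ) ^ 1 + (q : ℂ) ^ 0) * x n3 * (hc n3 n2 (by decide +kernel))
  have s5 : ((q : ℂ) ^ 1 + (q : ℂ) ^ 0) * (c n4 n5 * x n5) + (q : ℂ) * ((q : ℂ) ^ 0) * x n4 = 0 := by
    linear_combination c n4 n5 * e5 - x n4 * (hc n4 n5 (by decide +kernel))
  have s4 : ((q : ℂ) ^ 2 + (q : ℂ) ^ 1 + (q : ℂ) ^ 0) * (c n3 n4 * x n4) + (q : ℂ) * ((q : ℂ) ^ 1 + (q : ℂ) ^ 0) * x n3 = 0 := by
    linear_combination c n3 n4 * ((q : ℂ) ^ 1 + (q : ℂ) ^ 0) * e4 - c n3 n4 * s5 - ((q : ℂ) ^ 1 + (q : ℂ) ^ 0) * x n3 * (hc n3 n4 (by decide +kernel))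
  have centre : ((1) * (q : ℂ) ^ 0 + (1) * (q : ℂ) ^ 1 + (-1) * (q : ℂ) ^ 3 + (1) * (q : ℂ) ^ 5 + (1) * (q : ℂ) ^ 6) * x n3 = 0 := by
    linear_combination ((q : ℂ) ^ 1 + (q : ℂ) ^ 0) * ((q : ℂ) ^ 2 + (q : ℂ) ^ 1 + (q : ℂ) ^ 0) * ((q : ℂ) ^ 2 + (q : ℂ) ^ 1 + (q : ℂ) ^ 0) * e3 - ((q : ℂ) ^ 2 + (q : ℂ) ^ 1 + (q : ℂ) ^ 0) * ((q : ℂ) ^ 2 + (q : ℂ) ^ 1 + (q : ℂ) ^ 0) * s1 - ((q : ℂ) ^ 1 + (q : ℂ) ^ 0) * ((q : ℂ) ^ 2 + (q : ℂ) ^ 1 + (q : ℂ) ^ 0) * s2 -
      ((q : ℂ) ^ 1 + (q : ℂ) ^ 0) * ((q : ℂ) ^ 2 + (q : ℂ) ^ 1 + (q : ℂ) ^ 0) * s4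
  have hD : (0 : ℝ) < (1) * (q : ℝ) ^ 0 + (1) * (q : ℝ) ^ 1 + (-1) * (q : ℝ) ^ 3 + (1) * (q : ℝ) ^ 5 + (1) * (q : ℝ) ^ 6 := by
    have h2 : (2 : ℝ) ≤ q := by exact_mod_cast hq
    have h3 : (0 : ℝ) < (q : ℝ) ^ 3 := by positivity
    nlinarith [pow_le_pow_right₀ (show (1 : ℝ) ≤ q by linarith) (show 3 ≤ 5 by norm_num),
      pow_le_pow_right₀ (show (1 : ℝ) ≤ q by linarith) (show 4 ≤ 5 by norm_num),
      pow_pos (show (0 : ℝ) < q by linarith) 5, pow_pos (show (0 : ℝ) < q by linarith) 8,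
      pow_pos (show (0 : ℝ) < q by linarith) 6,
      mul_le_mul_of_nonneg_right (show (4 : ℝ) ≤ q ^ 2 by nlinarith) (pow_nonneg (show (0 : ℝ) ≤ q by linarith) 5)]
  have z3 : x n3 = 0 := (mul_eq_zero.1 centre).resolve_left (by
    intro h
    have h' : (((1) * (q : ℝ) ^ 0 + (1) * (q : ℝ) ^ 1 + (-1) * (q : ℝ) ^ 3 + (1) * (q : ℝ) ^ 5 + (1) * (q : ℝ) ^ 6 : ℝ) : ℂ) = 0 := by push_cast; exact h
    exact hD.ne' (Complex.ofReal_eq_zero.1 h'))
  have z1 : x n1 = 0 := by
    rw [z3, mul_zero, add_zero] at s1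
    have hb := bne 1
    simp only [Finset.sum_range_succ, Finset.sum_range_zero, zero_add] at hb
    exact (mul_eq_zero.1 ((mul_eq_zero.1 s1).resolve_left fun h => hb (by linear_combination h))).resolve_left
      (hne n3 n1 (by decide +kernel))
  have z2 : x n2 = 0 := by
    rw [z3, mul_zero, add_zero] at s2
    have hb := bne 2
    simp only [Finset.sum_range_succ, Finset.sum_range_zero, zero_add] at hb
    exact (mul_eq_zero.1 ((mul_eq_zero.1 s2).resolve_left fun h => hb (by linear_combination h))).resolve_left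
      (hne n3 n2 (by decide +kernel))
  have z0 : x n0 = 0 := by
    rw [z2, mul_zero, add_zero] at s0
    have hb := bne 1
    simp only [Finset.sum_range_succ, Finset.sum_range_zero, zero_add] at hb
    exact (mul_eq_zero.1 ((mul_eq_zero.1 s0).resolve_left fun h => hb (by linear_combination h))).resolve_left
      (hne n2 n0 (by decide +kernel))
  have z4 : x n4 = 0 := by
    rw [z3, mul_zero, add_zero] at s4
    have hb := bne 2
    simp only [Finset.sum_range_succ, Finset.sum_range_zero, zero_add] at hb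
    exact (mul_eq_zero.1 ((mul_eq_zero.1 s4).resolve_left fun h => hb (by linear_combination h))).resolve_left
      (hne n3 n4 (by decide +kernel))
  have z5 : x n5 = 0 := by
    rw [z4, mul_zero, add_zero] at s5
    have hb := bne 1
    simp only [Finset.sum_range_succ, Finset.sum_range_zero, zero_add] at hb
    exact (mul_eq_zero.1 ((mul_eq_zero.1 s5).resolve_left fun h => hb (by linear_combination h))).resolve_left
      (hne n4 n5 (by decide +kernel))
  intro j
  have hj : j = n0 ∨ j = n1 ∨ j = n2 ∨ j = n3 ∨ j = n4 ∨ j = n5 := by revert j; decide +kernel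
  rcases hj with rfl | rfl | rfl | rfl | rfl | rfl
  exacts [z0, z1, z2, z3, z4, z5]

theorem exists_treeE6 (S : LSys fullE6 10) (hS : S.adj = adjE6) : Nonempty (TreeData S) := by
  refine ⟨{
    leaf := ⟨0, by decide +kernel⟩
    next := ⟨2, by decide +kernel⟩
    leaf_adj := by rw [hS]; decide +kernel
    only := by rw [hS]; decide +kernel
    words := fun p => (wordsE6.getD p.val []).filterMap fun i => if h : i < chevE6.rank then some ⟨i, h⟩ else none
    distinct := by rw [hS]; decide +kernel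
    orth := by rw [hS]; decide +kernel
    spreads := by rw [hS]; exact spreads_of adjE6 6 (by decide +kernel)
    regular := by rw [hS]; exact regularE6 }⟩

theorem heightsE6 : ((heightsB chevE6 fastE6).isPerm
    (multE6.flatMap fun m => List.replicate m.2 m.1)) = true := by
  decide +kernel

/-- the minimal degree of a nontrivial representation of `E6(q)` -/
theorem degree_geE6 {F : Type*} [Field F] [Fintype F] {k : ℕ}
    (σ : Representation ℂ ↥(chevE6.group F) (Fin k → ℂ)) (hσ : σ.IsIrreducible) (hk : 2 ≤ k) :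
    Fintype.card F * (Fintype.card F ^ 6 + Fintype.card F ^ 3 + 1) * (Fintype.card F ^ 4 + 1) ≤ k := by
  obtain ⟨S, hS⟩ := exists_lsysE6
  obtain ⟨T'⟩ := exists_treeE6 S hS
  obtain ⟨r, hr⟩ : ∃ r, Fintype.card F = r + 2 := ⟨_, (Nat.sub_add_cancel Fintype.one_lt_card).symm⟩
  refine degree_bound S T' σ hσ hk _ ?_ (le_of_eq ?_)
  · rw [hr, show r + 2 - 1 = r + 1 from rfl]
    norm_num
    ring_nf
    linarith [Nat.zero_le (r ^ 1),
      Nat.zero_le (r ^ 2),
      Nat.zero_le (r ^ 3),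
      Nat.zero_le (r ^ 4),
      Nat.zero_le (r ^ 5),
      Nat.zero_le (r ^ 6),
      Nat.zero_le (r ^ 7),
      Nat.zero_le (r ^ 8),
      Nat.zero_le (r ^ 9),
      Nat.zero_le (r ^ 10),
      Nat.zero_le (r ^ 11)]
  · have hrank : chevE6.rank = 6 := by decide +kernel
    rw [sum_heights fullE6 (rowsOK chkRows_E6) (fun _ _ => rfl) (by decide +kernel)
      (List.isPerm_iff.1 heightsE6) (fun a => (Fintype.card F - 1) * Fintype.card F ^ a), hrank, hr,
      show r + 2 - 1 = r + 1 from rfl]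
    simp [multE6, List.replicate_succ]
    ring

end CfsgLib.MinDeg.LacedRoot
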