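import Mathlib.LinearAlgebra.Eigenspace.Triangularizable
import Mathlib.LinearAlgebra.Dimension.Finite
import Mathlib.Analysis.Fourier.FiniteAbelian.PontryaginDuality
import Mathlib.RingTheory.RootsOfUnity.Complex
import Mathlib.RepresentationTheory.Irreducible
import Mathlib.Analysis.Complex.Polynomial.Basic

/-!
# Common eigenvectors of finite operator families, for lower bounds on degrees
-/

set_option autoImplicit false

namespace CfsgLib.MinDeg

open Module

variable {V : Type*} [AddCommGroup V] [Module ℂ V]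

/-- an eigenvalue different from one inside an invariant subspace -/
theorem exists_eigen_ne_one (f : Module.End ℂ V) {n : ℕ} (hn : 1 < n) (hf : f ^ n = 1) (W : Submodule ℂ V)
    (hW : ∀ x ∈ W, f x ∈ W) (hne : ∃ x ∈ W, f x ≠ x) :
    ∃ ω : ℂ, ω ≠ 1 ∧ ∃ x ∈ W, x ≠ 0 ∧ f x = ω • x := by
  classical
  obtain ⟨x, hxW, hx⟩ := hne
  obtain ⟨ω, hω⟩ : ∃ ω : ℂ, IsPrimitiveRoot ω n := ⟨_, Complex.isPrimitiveRoot_exp n (by omega)⟩
  have hω0 : ω ≠ 0 := hω.ne_zero (by omega)
  let E : ℕ → V := fun j => ∑ i ∈ Finset.range n, (ω ^ j)⁻¹ ^ i • (f ^ i) x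
  have hmem : ∀ i, (f ^ i) x ∈ W := by
    intro i
    induction i with
    | zero => simpa using hxW
    | succ i ih => rw [pow_succ', Module.End.mul_apply]; exact hW _ ih
  have hEW : ∀ j, E j ∈ W := fun j => Submodule.sum_mem _ fun i _ => W.smul_mem _ (hmem i)
  have hEe : ∀ j, f (E j) = (ω ^ j) • E j := by
    intro j
    have hr : ω ^ j ≠ 0 := pow_ne_zero _ hω0
    set r := (ω ^ j)⁻¹ with hr'
    have hrn : r ^ n = 1 := by
      rw [hr', inv_pow, ← pow_mul, mul_comm, pow_mul, hω.pow_eq_one, one_pow, inv_one]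
    let F : ℕ → V := fun i => r ^ i • (f ^ i) x
    have h1 : ∑ i ∈ Finset.range n, F (i + 1) = ∑ i ∈ Finset.range n, F i := by
      have h2 := Finset.sum_range_succ' F n
      rw [Finset.sum_range_succ F n] at h2
      have h3 : F n = F 0 := by simp only [F, hrn, hf, pow_zero]
      rw [h3] at h2
      exact (add_right_cancel h2).symm
    show f (E j) = _
    simp only [E, map_sum, map_smul, Finset.smul_sum, ← hr']
    rw [show ∑ i ∈ Finset.range n, (ω ^ j) • r ^ i • (f ^ i) x = ∑ i ∈ Finset.range n, (ω ^ j) • F i from rfl,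
      ← Finset.smul_sum, ← h1, Finset.smul_sum]
    refine Finset.sum_congr rfl fun i _ => ?_
    simp only [F, smul_smul, pow_succ', Module.End.mul_apply]
    rw [← mul_assoc, hr', mul_inv_cancel₀ hr, one_mul]
  by_contra! hno
  have hz : ∀ j ∈ Finset.range n, j ≠ 0 → E j = 0 := fun j hj hj0 => by
    by_contra h
    exact hno _ (hω.pow_ne_one_of_pos_of_lt hj0 (Finset.mem_range.1 hj)) _ (hEW j) h (hEe j)
  have hsum : ∑ j ∈ Finset.range n, E j = (n : ℂ) • x := by
    simp only [E]
    rw [Finset.sum_comm, Finset.sum_eq_single 0]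
    · simp [← Nat.cast_smul_eq_nsmul ℂ]
    · intro i hi hi0
      rw [← Finset.sum_smul]
      have : ∑ j ∈ Finset.range n, (ω ^ j)⁻¹ ^ i = 0 := by
        have h1 : (ω⁻¹) ^ i ≠ 1 := hω.inv.pow_ne_one_of_pos_of_lt hi0 (Finset.mem_range.1 hi)
        have h2 : ((ω⁻¹) ^ i) ^ n = 1 := by rw [← pow_mul, mul_comm, pow_mul, hω.inv.pow_eq_one, one_pow]
        have h3 := geom_sum_mul ((ω⁻¹) ^ i) n
        rw [h2, sub_self] at h3
        rw [← (mul_eq_zero.1 h3).resolve_right (sub_ne_zero.2 h1)]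
        refine Finset.sum_congr rfl fun j _ => ?_
        rw [← inv_pow, ← pow_mul, ← pow_mul, mul_comm]
      rw [this, zero_smul]
    · intro h; exact absurd (Finset.mem_range.2 (by omega)) h
  rw [Finset.sum_eq_single 0 (fun j hj hj0 => hz j hj hj0)
    (fun h => absurd (Finset.mem_range.2 (by omega)) h)] at hsum
  have h0 := hEe 0
  rw [pow_zero, one_smul, hsum, map_smul] at h0
  exact hx (smul_right_injective V (Nat.cast_ne_zero.2 (by omega) : (n : ℂ) ≠ 0) h0)

/-- a common eigenvector of operators commuting on an invariant subspace -/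
theorem exists_common [FiniteDimensional ℂ V] {Y : Type*} (f : Y → Module.End ℂ V) (W₀ : Submodule ℂ V)
    (h0 : W₀ ≠ ⊥) (hinv : ∀ a, ∀ x ∈ W₀, f a x ∈ W₀)
    (hf : ∀ a b, ∀ x ∈ W₀, f a (f b x) = f b (f a x)) :
    ∃ x ∈ W₀, x ≠ 0 ∧ ∃ c : Y → ℂ, ∀ a, f a x = c a • x := by
  classical
  have hP : ∃ n, ∃ W : Submodule ℂ V, W ≠ ⊥ ∧ W ≤ W₀ ∧ (∀ a, ∀ x ∈ W, f a x ∈ W) ∧ Module.finrank ℂ W = n :=
    ⟨_, W₀, h0, le_rfl, hinv, rfl⟩
  obtain ⟨W, hW0, hWle, hWinv, hn⟩ := Nat.find_spec hP
  obtain ⟨x, hx, hx0⟩ := (Submodule.ne_bot_iff W).1 hW0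
  have key : ∀ a, ∃ e : ℂ, f a x = e • x := by
    intro a
    haveI : Nontrivial ↥W := Submodule.nontrivial_iff_ne_bot.2 hW0
    obtain ⟨e, he⟩ := Module.End.exists_eigenvalue ((f a).restrict (hWinv a))
    obtain ⟨y, hy⟩ := he.exists_hasEigenvector
    set W' := W ⊓ Module.End.eigenspace (f a) e
    have hy' : (y : V) ∈ W' := ⟨y.2, Module.End.mem_eigenspace_iff.2 (by
      simpa [LinearMap.restrict_apply] using congrArg Subtype.val hy.apply_eq_smul)⟩
    have hW'0 : W' ≠ ⊥ := fun h => hy.2 (Subtype.ext ((Submodule.mem_bot ℂ).1 (h ▸ hy')))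
    have hW'inv : ∀ b, ∀ z ∈ W', f b z ∈ W' := by
      rintro b z ⟨hz, hze⟩
      refine ⟨hWinv b z hz, Module.End.mem_eigenspace_iff.2 ?_⟩
      rw [hf a b z (hWle hz), Module.End.mem_eigenspace_iff.1 hze, map_smul]
    have hmin := Nat.find_min' hP ⟨W', hW'0, inf_le_left.trans hWle, hW'inv, rfl⟩
    have hWW : W' = W := Submodule.eq_of_le_of_finrank_le inf_le_left (hn.le.trans hmin)
    exact ⟨e, Module.End.mem_eigenspace_iff.1 (hWW.symm ▸ hx : x ∈ W').2⟩
  choose c hc using key
  exact ⟨x, hWle hx, hx0, c, hc⟩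

variable {Y : Type*} [AddCommGroup Y] [Fintype Y]

/-- eigenvectors are independent when those with equal characters are -/
theorem linearIndependent_classes {ι : Type*} [Fintype ι] (f : Y → Module.End ℂ V) (X : ι → V) (c : ι → Y → ℂ)
    (hadd : ∀ i a b, c i (a + b) = c i a * c i b) (h0 : ∀ i a, c i a ≠ 0)
    (he : ∀ i a, f a (X i) = c i a • X i)
    (hcls : ∀ i, ∀ a : ι → ℂ, (∀ j, c j ≠ c i → a j = 0) → ∑ j, a j • X j = 0 → a i = 0) :
    LinearIndependent ℂ X := by
  classical
  rw [Fintype.linearIndependent_iff]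
  intro a ha i
  set P : Module.End ℂ V := ∑ y, (c i y)⁻¹ • f y with hP
  have hPX : ∀ j, P (X j) = (∑ y, (c i y)⁻¹ * c j y) • X j := fun j => by
    simp only [hP, LinearMap.sum_apply, LinearMap.smul_apply, he, smul_smul, Finset.sum_smul]
  have hval : ∀ j, (∑ y, (c i y)⁻¹ * c j y) = if c j = c i then (Fintype.card Y : ℂ) else 0 := by
    intro j
    split_ifs with hji
    · simp [hji, inv_mul_cancel₀ (h0 i _)]
    · obtain ⟨p₁, hp₁⟩ := Function.ne_iff.1 hji
      have hs : (∑ y, (c i y)⁻¹ * c j y) * ((c i p₁)⁻¹ * c j p₁) = ∑ y, (c i y)⁻¹ * c j y := by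
        rw [Finset.sum_mul]
        refine Fintype.sum_equiv (Equiv.addRight p₁) _ _ fun p => ?_
        rw [Equiv.coe_addRight, hadd, hadd, mul_inv]
        ring
      have hr : (c i p₁)⁻¹ * c j p₁ ≠ 1 := fun h => hp₁ ((inv_mul_eq_one₀ (h0 i _)).1 h).symm
      by_contra hz
      exact hr (mul_left_cancel₀ hz (hs.trans (mul_one _).symm))
  have h1 : P (∑ j, a j • X j) = 0 := by rw [ha, map_zero]
  rw [map_sum] at h1
  have h2 : ∑ j, (if c j = c i then a j else 0) • X j = 0 := by
    refine smul_right_injective V (Nat.cast_ne_zero.2 Fintype.card_ne_zero : (Fintype.card Y : ℂ) ≠ 0) ?_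
    simp only [smul_zero, Finset.smul_sum]
    rw [← h1]
    refine Finset.sum_congr rfl fun j _ => ?_
    rw [map_smul, hPX, hval, smul_smul, smul_smul]
    split_ifs <;> simp [mul_comm]
  have := hcls i _ (fun j hj => if_neg hj) h2
  simpa using this

/-- a combination of eigenvectors fixed by an operator only involves fixed ones -/
theorem coeff_eq_zero_of_fixed {ι : Type*} [Fintype ι] {X : ι → V} (hX : LinearIndependent ℂ X)
    (f : Module.End ℂ V) (c : ι → ℂ) (he : ∀ i, f (X i) = c i • X i) {a : ι → ℂ}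
    (hfix : f (∑ i, a i • X i) = ∑ i, a i • X i) (i : ι) (hi : c i ≠ 1) : a i = 0 := by
  simp only [map_sum, map_smul, he, smul_smul] at hfix
  have h : ∑ j, (a j * c j - a j) • X j = 0 := by
    simp only [sub_smul, Finset.sum_sub_distrib, hfix, sub_self]
  have := Fintype.linearIndependent_iff.1 hX _ h i
  by_contra ha
  exact hi (mul_left_cancel₀ ha (by linear_combination this))

/-- translates of a character along an injective family of characters exhaust the dual -/
theorem exists_cancel {M N : Type*} [AddCommGroup M] [Fintype M] [AddCommGroup N] [Fintype N]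
    (d : N → ℂ) (hd : ∀ a b, d (a + b) = d a * d b) (hd0 : d 0 = 1)
    (P : M → M → N) (hPl : ∀ u t t', P u (t + t') = P u t + P u t')
    (hPr : ∀ u u' t, P (u + u') t = P u t + P u' t) (hnd : ∀ u, (∀ t, d (P u t) = 1) → u = 0)
    (c : M → ℂ) (hc : ∀ a b, c (a + b) = c a * c b) (hc0 : c 0 = 1) :
    ∃ u, ∀ t, c t * d (P u t) = 1 := by
  classical
  have hP0 : ∀ u, P u 0 = 0 := fun u => by simpa using (hPl u 0 0).symm
  let dc : M → AddChar M ℂ := fun u =>
    ⟨fun t => d (P u t), by rw [hP0, hd0], fun a b => by rw [hPl, hd]⟩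
  have hinj : Function.Injective dc := by
    intro u u' h
    refine sub_eq_zero.1 (hnd _ fun t => ?_)
    have ht : d (P u t) = d (P u' t) := DFunLike.congr_fun h t
    have hne : d (P u' t) ≠ 0 := fun h0 => by
      have := hd (P u' t) (-P u' t)
      rw [h0, add_neg_cancel, hd0, zero_mul] at this
      exact one_ne_zero this
    have h2 := hPr (u - u') u' t
    rw [sub_add_cancel] at h2
    rw [h2, hd] at ht
    exact mul_right_cancel₀ hne (ht.trans (one_mul _).symm)
  have hbij : Function.Bijective dc :=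
    (Fintype.bijective_iff_injective_and_card dc).2 ⟨hinj, (AddChar.card_eq (α := M)).symm⟩
  let cc : AddChar M ℂ := ⟨c, hc0, hc⟩
  obtain ⟨u, hu⟩ := hbij.2 cc⁻¹
  refine ⟨u, fun t => ?_⟩
  have h1 : d (P u t) = cc (-t) := (DFunLike.congr_fun hu t).trans (AddChar.inv_apply cc t)
  rw [h1]
  show c t * c (-t) = 1
  rw [← hc, add_neg_cancel, hc0]

/-- a representation of degree at least two of a simple group is faithful -/
theorem faithful_of_irreducible {G : Type*} [Group G] [IsSimpleGroup G] {k : ℕ}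
    (ρ : Representation ℂ G (Fin k → ℂ)) (hρ : ρ.IsIrreducible) (hk : 2 ≤ k) : ∀ g, ρ g = 1 → g = 1 := by
  haveI := hρ
  rcases IsSimpleGroup.eq_bot_or_eq_top_of_normal (MonoidHom.ker ρ) inferInstance with h | h
  · intro g hg
    exact Subgroup.mem_bot.1 (h ▸ (MonoidHom.mem_ker.2 hg : g ∈ MonoidHom.ker ρ))
  · exfalso
    have htriv : ∀ g, ρ g = 1 := fun g => MonoidHom.mem_ker.1 (h ▸ Subgroup.mem_top g)
    let e₀ : Fin k → ℂ := Pi.single ⟨0, by omega⟩ 1
    let W : Subrepresentation ρ := ⟨ℂ ∙ e₀, fun g v hv => by rw [htriv g]; exact hv⟩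
    rcases IsSimpleOrder.eq_bot_or_eq_top W with hW | hW
    · have := congrArg Subrepresentation.toSubmodule hW
      have h2 : e₀ ∈ W.toSubmodule := Submodule.mem_span_singleton_self e₀
      rw [this] at h2
      have := congrFun ((Submodule.mem_bot ℂ).1 h2 : e₀ = 0) ⟨0, by omega⟩
      simp [e₀] at this
    · have := congrArg Subrepresentation.toSubmodule hW
      have h2 : Module.finrank ℂ ↥(ℂ ∙ e₀) = k := by
        rw [show (ℂ ∙ e₀) = (⊤ : Submodule ℂ (Fin k → ℂ)) from this, finrank_top, Module.finrank_fin_fun]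
      have h3 := finrank_span_le_card (R := ℂ) ({e₀} : Set (Fin k → ℂ))
      simp only [Set.toFinset_singleton, Finset.card_singleton] at h3
      omega

end CfsgLib.MinDeg
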