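import Cfsg.Agent.Lib.MinDeg.G2Generic
import Cfsg.Agent.Lib.MinDeg.BruhatSum

/-!
# G₂(q), characteristic not three: no representation of degree q³

The vector fixed by `U` is fixed by `B`; its coefficients on the Weyl group contradict Schur's relation.
-/

set_option autoImplicit false
set_option maxRecDepth 100000
set_option maxHeartbeats 1000000
set_option linter.unusedSectionVars false

namespace CfsgLib.MinDeg.GTwo

open Cfsg.Lie CfsgLib.Lie.Chev CfsgLib.MinDeg.RootSpace
open scoped MatrixGroups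

variable {K : Type*} [Field K]
variable {V : Type*} [AddCommGroup V] [Module ℂ V]
variable {ρ : Representation ℂ ↥(chevG2.group K) V} {ψ : AddChar K ℂ}

local notation "Eg" => E C ρ ψ

/-- an element of the torus -/
noncomputable def hdG (r : Fin chevG2.nroots) (t : Kˣ) : ↥(chevG2.group K) :=
  ⟨C.G.hd r t, C.G.diagonal_le_group (C.G.hd_mem_H r t)⟩

theorem diag_act_zero {g : ↥(chevG2.group K)} (hg : (g : GL chevG2.Idx K) ∈ chevG2.diagonalSubgroup K)
    {r : ℕ} (hr : r < chevG2.nroots) {x : V} (hx : x ∈ Eg r 0) : ρ g x ∈ Eg r 0 := by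
  obtain ⟨a, ha⟩ := C.G.H_conj_xu hg ⟨r, hr⟩
  have := conj_act (C := C) (ρ := ρ) (ψ := ψ) hr hr a.ne_zero ha hx
  rwa [mul_zero] at this

theorem hd_prod {r : Fin chevG2.nroots} {c0 c1 : ℤ}
    (h : [(chevG2.coroot.getD r.val #[]).getD 0 0, (chevG2.coroot.getD r.val #[]).getD 1 0] = [c0, c1]) (t : Kˣ) :
    C.G.hd r t = C.G.hd (C.G.simp' na) (t ^ c0) * C.G.hd (C.G.simp' nb) (t ^ c1) := by
  simp only [List.cons.injEq, and_true] at h
  obtain ⟨rfl, rfl⟩ := h
  rw [C.G.hd_eq_torθ, C.G.torθ_eq_prod,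
    show List.finRange chevG2.rank = [na, nb] by decide +kernel]
  simp [List.map_cons, List.prod_cons, mul_one]

/-- the condition that a word is reduced, read off the root images -/
def red : List (Fin chevG2.rank) → Bool
  | [] => true
  | i :: l => red l && decide (chevG2.IsPosRoot (img l.reverse (chevG2.simple i.val)))

theorem pos_cases : ∀ r : Fin chevG2.nroots, chevG2.IsPosRoot r.val →
    r.val = 6 ∨ r.val = 7 ∨ r.val = 8 ∨ r.val = 9 ∨ r.val = 10 ∨ r.val = 11 := by decide +kernel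

theorem reach_pos : ∀ r : Fin chevG2.nroots, ∃ l ∈ words, ∃ r0 : Fin chevG2.nroots,
    chevG2.IsPosRoot r0.val ∧ img l r0.val = r.val := by decide +kernel

variable [Fintype K] [FiniteDimensional ℂ V]

theorem no_cube [ρ.IsIrreducible] (hψ : ψ.IsPrimitive) (h5 : 5 ≤ Fintype.card K) (S : Small ρ ψ)
    (he : Module.finrank ℂ ↥(U0 ρ ψ ⊓ Eg 6 0) = 1) : False := by
  classical
  set q := Fintype.card K with hq
  have hdim : Module.finrank ℂ V = q ^ 3 := by
    have h := S.dimV
    rw [he] at h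
    exact Nat.succ.inj h
  obtain ⟨v, hv, hv0⟩ := ne_bot_of_pos (W := U0 ρ ψ ⊓ Eg 6 0) (by omega)
  have hline : ∀ y ∈ U0 ρ ψ ⊓ Eg 6 0, ∃ c : ℂ, y = c • v := fun y hy => by
    obtain ⟨c, hc⟩ := exists_smul_eq_of_finrank_eq_one he
      (x := (⟨v, hv⟩ : ↥(U0 ρ ψ ⊓ Eg 6 0))) (fun e => hv0 (congrArg Subtype.val e)) ⟨y, hy⟩
    exact ⟨c, (congrArg Subtype.val hc).symm⟩
  have hv89 := S.le_00 hv
  -- fixed by the positive root groups
  have hvpos : ∀ r : Fin chevG2.nroots, chevG2.IsPosRoot r.val → v ∈ Eg r.val 0 := by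
    intro r hr
    rcases pos_cases r hr with h | h | h | h | h | h <;> rw [h]
    exacts [hv.2, hv89.2, hv89.1.1, hv89.1.2, hv.1.2, hv.1.1]
  have hvU : ∀ u ∈ chevG2.posUnipotent K, ∀ (hu : u ∈ chevG2.group K), ρ ⟨u, hu⟩ v = v := by
    intro u hu
    rw [C.G.posUnipotent_eq_closure] at hu
    induction hu using Subgroup.closure_induction with
    | one => intro h; rw [show (⟨1, h⟩ : ↥(chevG2.group K)) = 1 from rfl, map_one, Module.End.one_apply]
    | mul a b ha hb iha ihb =>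
      intro h
      have hag : a ∈ chevG2.group K := by
        rw [← C.G.posUnipotent_eq_closure] at ha; exact C.G.posUnipotent_le_group ha
      have hbg : b ∈ chevG2.group K := by
        rw [← C.G.posUnipotent_eq_closure] at hb; exact C.G.posUnipotent_le_group hb
      rw [show (⟨a * b, h⟩ : ↥(chevG2.group K)) = ⟨a, hag⟩ * ⟨b, hbg⟩ from rfl, rho_mul, ihb hbg, iha hag]
    | inv a ha iha =>
      intro h
      have hag : a ∈ chevG2.group K := by
        rw [← C.G.posUnipotent_eq_closure] at ha; exact C.G.posUnipotent_le_group ha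
      rw [show (⟨a⁻¹, h⟩ : ↥(chevG2.group K)) = (⟨a, hag⟩)⁻¹ from rfl]
      conv_lhs => rw [← iha hag]
      exact rho_inv_self _ _
    | mem x hx =>
      obtain ⟨r, t, hr, rfl⟩ := hx
      intro h
      have := mem_E_zero.1 (hvpos r hr) t
      rwa [gx_of_lt C r.isLt] at this
  -- `n_a` and the torus of `a` fix `v`
  obtain ⟨_, -, m11⟩ := nw_act (ρ := ρ) (ψ := ψ) [na] (r := 11) (r' := 11) (by decide +kernel)
  obtain ⟨_, -, m10⟩ := nw_act (ρ := ρ) (ψ := ψ) [na] (r := 10) (r' := 6) (by decide +kernel)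
  obtain ⟨_, -, m6⟩ := nw_act (ρ := ρ) (ψ := ψ) [na] (r := 6) (r' := 10) (by decide +kernel)
  obtain ⟨_, -, m7⟩ := nw_act (ρ := ρ) (ψ := ψ) [na] (r := 7) (r' := 4) (by decide +kernel)
  have hv4 : v ∈ Eg 4 0 := by
    obtain ⟨c, hc⟩ := hline (ρ (nwG [na]) v)
      ⟨⟨by simpa using m11 _ _ hv.1.1, by simpa using m6 _ _ hv.2⟩, by simpa using m10 _ _ hv.1.2⟩
    have h4 : c • v ∈ Eg 4 0 := hc ▸ (by simpa using m7 _ _ hv89.2)
    have hc0 : c ≠ 0 := fun e => by
      rw [e, zero_smul] at hc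
      exact hv0 (rho_inj _ (hc.trans (map_zero _).symm))
    simpa [smul_smul, inv_mul_cancel₀ hc0] using Submodule.smul_mem _ c⁻¹ h4
  have hnE : ∀ t : K, ρ (nEG 7 (-t⁻¹)) v = v := fun t => by
    have e := gx_opp (K := K) (r := 7) (r' := 4) (by decide +kernel) t
    rw [show nEG 7 (-t⁻¹) = (gx C 7 t⁻¹)⁻¹ * gx C 4 t * (gx C 7 t⁻¹)⁻¹ by rw [e]; group, ← gx_neg, rho_mul,
      rho_mul, mem_E_zero.1 hv89.2, mem_E_zero.1 hv4, mem_E_zero.1 hv89.2]
  have hnE' : ∀ (t : K), ρ (⟨C.G.nE (C.G.simp' na) t, C.G.nE_mem_group _ _⟩ : ↥(chevG2.group K)) v = v := fun t => by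
    have h := hnE (-t)⁻¹
    rw [inv_inv, neg_neg] at h
    have e : C.G.simp' na = ⟨7, by decide +kernel⟩ := Fin.ext (by rw [C.G.simp_val]; decide +kernel)
    simpa [nEG, dif_pos (show 7 < chevG2.nroots by decide +kernel), e] using h
  have hna : ρ (nwG [na]) v = v := by
    have := hnE' 1
    simpa [nwG, Good.nw, C.G.nE_simp_one] using this
  have hha : ∀ t : Kˣ, ρ (hdG (C.G.simp' na) t) v = v := fun t => by
    rw [show hdG (C.G.simp' na) t = (⟨C.G.nE (C.G.simp' na) (t : K), C.G.nE_mem_group _ _⟩ : ↥(chevG2.group K)) *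
      ⟨C.G.nE (C.G.simp' na) (-1), C.G.nE_mem_group _ _⟩ from Subtype.ext (C.G.hE_eq _ _).symm,
      rho_mul, hnE', hnE']
  -- the torus acts on `v` by a character
  have hstab : ∀ g : ↥(chevG2.group K), (g : GL chevG2.Idx K) ∈ chevG2.diagonalSubgroup K →
      ∃ c : ℂ, ρ g v = c • v := fun g hg =>
    hline _ ⟨⟨diag_act_zero hg (by decide +kernel) hv.1.1, diag_act_zero hg (by decide +kernel) hv.1.2⟩,
      diag_act_zero hg (by decide +kernel) hv.2⟩
  choose χ hχ using fun t : Kˣ => hstab (hdG (C.G.simp' nb) t) (C.G.hd_mem_H _ _)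
  -- the dual functional
  have hUf : Finite ↥(chevG2.posUnipotent K) := inferInstance
  haveI : Fintype ↥(chevG2.posUnipotent K) := Fintype.ofFinite _
  let gu : ↥(chevG2.posUnipotent K) → ↥(chevG2.group K) := fun u => ⟨u.1, C.G.posUnipotent_le_group u.2⟩
  let NU : ℂ := (Fintype.card ↥(chevG2.posUnipotent K) : ℂ)
  have hNU : NU ≠ 0 := Nat.cast_ne_zero.2 Fintype.card_ne_zero
  let P : Module.End ℂ V := NU⁻¹ • ∑ u, ρ (gu u)
  have hPfix : ∀ y, ∀ g : ↥(chevG2.group K), (g : GL chevG2.Idx K) ∈ chevG2.posUnipotent K →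
      ρ g (P y) = P y := fun y g hg => by
    simp only [P, LinearMap.smul_apply, LinearMap.sum_apply, map_smul, map_sum]
    congr 1
    refine Fintype.sum_equiv (Equiv.mulLeft (⟨_, hg⟩ : ↥(chevG2.posUnipotent K))) _ _ fun u => ?_
    rw [← rho_mul]
    rfl
  have hUfix : ∀ y, (∀ g : ↥(chevG2.group K), (g : GL chevG2.Idx K) ∈ chevG2.posUnipotent K → ρ g y = y) →
      y ∈ ℂ ∙ v := fun y hy => by
    have hr : ∀ r : ℕ, (∃ h : r < chevG2.nroots, chevG2.IsPosRoot r) → y ∈ Eg r 0 := fun r ⟨h, hp⟩ =>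
      mem_E_zero.2 fun t => hy _ (by rw [gx_coe C h]; exact C.G.xu_mem_U hp t)
    obtain ⟨c, hc⟩ := hline y ⟨⟨hr 11 (by decide +kernel), hr 10 (by decide +kernel)⟩, hr 6 (by decide +kernel)⟩
    exact Submodule.mem_span_singleton.2 ⟨c, hc.symm⟩
  let φ : V →ₗ[ℂ] ℂ := (LinearEquiv.toSpanNonzeroSingleton ℂ V v hv0).symm.toLinearMap ∘ₗ
    P.codRestrict (ℂ ∙ v) fun y => hUfix _ (hPfix y)
  have hφ : ∀ y, P y = φ y • v := fun y => by
    have := (LinearEquiv.toSpanNonzeroSingleton ℂ V v hv0).apply_symm_apply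
      (P.codRestrict (ℂ ∙ v) (fun y => hUfix _ (hPfix y)) y)
    exact (congrArg Subtype.val this).symm
  have hvUg : ∀ g : ↥(chevG2.group K), (g : GL chevG2.Idx K) ∈ chevG2.posUnipotent K → ρ g v = v :=
    fun g hg => hvU _ hg g.2
  have hPid : ∀ y, (∀ g : ↥(chevG2.group K), (g : GL chevG2.Idx K) ∈ chevG2.posUnipotent K → ρ g y = y) →
      P y = y := fun y hy => by
    simp only [P, LinearMap.smul_apply, LinearMap.sum_apply]
    rw [Finset.sum_congr rfl fun u _ => hy (gu u) u.2, Finset.sum_const, Finset.card_univ,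
      ← Nat.cast_smul_eq_nsmul ℂ, smul_smul, inv_mul_cancel₀ hNU, one_smul]
  have hφv : φ v = 1 := smul_left_injective ℂ hv0 (by
    show φ v • v = (1 : ℂ) • v
    rw [← hφ, hPid v hvUg, one_smul])
  have hφU : ∀ g : ↥(chevG2.group K), (g : GL chevG2.Idx K) ∈ chevG2.posUnipotent K → ∀ y, φ (ρ g y) = φ y :=
    fun g hg y => smul_left_injective ℂ hv0 (by
      show φ (ρ g y) • v = φ y • v
      rw [← hφ, ← hφ]
      simp only [P, LinearMap.smul_apply, LinearMap.sum_apply]
      congr 1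
      refine Fintype.sum_equiv (Equiv.mulRight (⟨_, hg⟩ : ↥(chevG2.posUnipotent K))) _ _ fun u => ?_
      rw [← rho_mul]
      rfl)
  have hφR : ∀ r : ℕ, (∃ h : r < chevG2.nroots, chevG2.IsPosRoot r) → ∀ t y, φ (ρ (gx C r t) y) = φ y :=
    fun r ⟨h, hp⟩ t y => hφU _ (by rw [gx_coe C h]; exact C.G.xu_mem_U hp t) y
  have hφH : ∀ (g : ↥(chevG2.group K)), (g : GL chevG2.Idx K) ∈ chevG2.diagonalSubgroup K → ∀ (c : ℂ),
      ρ g v = c • v → ∀ y, φ (ρ g y) = c * φ y := fun g hg c hc y => by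
    refine smul_left_injective ℂ hv0 ?_
    show φ (ρ g y) • v = (c * φ y) • v
    rw [← hφ, mul_comm, ← smul_smul, ← hc, ← map_smul, ← hφ]
    simp only [P, LinearMap.smul_apply, LinearMap.sum_apply, map_smul, map_sum]
    congr 1
    have hconj : ∀ u : ↥(chevG2.posUnipotent K),
        (g : GL chevG2.Idx K)⁻¹ * u * g ∈ chevG2.posUnipotent K := fun u =>
      (Subgroup.mem_normalizer_iff''.1 (C.G.H_normalizes_U hg) u.1).1 u.2
    have hconj' : ∀ u : ↥(chevG2.posUnipotent K),
        (g : GL chevG2.Idx K) * u * (g : GL chevG2.Idx K)⁻¹ ∈ chevG2.posUnipotent K := fun u =>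
      (Subgroup.mem_normalizer_iff.1 (C.G.H_normalizes_U hg) u.1).1 u.2
    refine Fintype.sum_equiv ⟨fun u => ⟨_, hconj u⟩, fun u => ⟨_, hconj' u⟩, fun u => Subtype.ext (by group),
      fun u => Subtype.ext (by group)⟩ _ _ fun u => ?_
    rw [← rho_mul, ← rho_mul]
    congr 2
    exact Subtype.ext (show (u : GL chevG2.Idx K) * (g : GL chevG2.Idx K) = (g : GL chevG2.Idx K) * ((g : GL chevG2.Idx K)⁻¹ * u * g) by group)
  -- the coefficient of `n_b`
  set n : ↥(chevG2.group K) := nwG [nb] with hn_def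
  have hnval : (n : GL chevG2.Idx K) = C.G.nU nb := by simp [hn_def, nwG, Good.nw]
  set x := φ (ρ n v) with hx_def
  obtain ⟨_, -, b10⟩ := nw_act (ρ := ρ) (ψ := ψ) [nb] (r := 10) (r' := 11) (by decide +kernel)
  obtain ⟨_, -, b11⟩ := nw_act (ρ := ρ) (ψ := ψ) [nb] (r := 11) (r' := 10) (by decide +kernel)
  have hnU0 : ρ n v ∈ U0 ρ ψ := ⟨by simpa using b10 _ _ hv.1.2, by simpa using b11 _ _ hv.1.1⟩
  have havg : ∑ t : K, ρ (gx C 6 t) (ρ n v) = ((q : ℂ) * x) • v := by
    have hm : ∑ t : K, ρ (gx C 6 t) (ρ n v) ∈ U0 ρ ψ ⊓ Eg 6 0 := by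
      refine ⟨Submodule.sum_mem _ fun t _ => ⟨sh0 (by decide +kernel) _ hnU0.1,
        sh1 (c := 11) (e := 1) (i := 1) (j := 1) (by decide +kernel) hnU0.2 hnU0.1 fun u => by simp⟩, ?_⟩
      refine mem_E_zero.2 fun t => ?_
      rw [map_sum]
      refine Fintype.sum_equiv (Equiv.addLeft t) _ _ fun u => ?_
      rw [Equiv.coe_addLeft, gx_add, rho_mul]
    obtain ⟨c, hc⟩ := hline _ hm
    have h := congrArg φ hc
    simp only [map_sum, map_smul, hφR 6 (by decide +kernel), hφv, smul_eq_mul, mul_one, Finset.sum_const,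
      Finset.card_univ, nsmul_eq_mul] at h
    rw [hc, ← h]
  -- conjugation by `n_b` between the roots `5` and `6`
  obtain ⟨c, hc⟩ := (nwG_perm (K := K) [nb]) ⟨5, by decide +kernel⟩
  have h56 : ∀ t : K, n * gx C 5 t = gx C 6 ((c : K) * t) * n := fun t => by
    apply Subtype.ext
    rw [Subgroup.coe_mul, Subgroup.coe_mul, gx_coe C (by decide +kernel), gx_coe C (by decide +kernel),
      ← mul_inv_eq_iff_eq_mul, hc]
    congr 1
    all_goals exact Fin.ext (by rw [pw_img]; decide +kernel)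
  obtain ⟨c', hc'⟩ := (nwG_perm (K := K) [nb]) ⟨6, by decide +kernel⟩
  have h65 : ∀ t : K, n * gx C 6 t = gx C 5 ((c' : K) * t) * n := fun t => by
    apply Subtype.ext
    rw [Subgroup.coe_mul, Subgroup.coe_mul, gx_coe C (by decide +kernel), gx_coe C (by decide +kernel),
      ← mul_inv_eq_iff_eq_mul, hc']
    congr 1
    all_goals exact Fin.ext (by rw [pw_img]; decide +kernel)
  have hsimpb : C.G.simp' nb = ⟨6, by decide +kernel⟩ := Fin.ext (by rw [C.G.simp_val]; decide +kernel)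
  have hnE6 : ∀ t : Kˣ, nEG 6 (t : K) = hdG (C.G.simp' nb) t * n := fun t => by
    apply Subtype.ext
    rw [Subgroup.coe_mul, hnval, nEG, dif_pos (show 6 < chevG2.nroots by decide +kernel)]
    show C.G.nE ⟨6, _⟩ (t : K) = C.G.hd _ t * _
    rw [← hsimpb, C.G.nE_simp]
  have hopp : ∀ t : K, t ≠ 0 → ∃ (a : K) (u : Kˣ), gx C 5 t = gx C 6 a * (hdG (C.G.simp' nb) u * n) * gx C 6 a := by
    intro t ht
    refine ⟨t⁻¹, Units.mk0 (-t⁻¹) (neg_ne_zero.2 (inv_ne_zero ht)), ?_⟩
    rw [← hnE6, Units.val_mk0]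
    exact gx_opp (by decide +kernel) t
  have hx0 : x ≠ 0 := by
    intro hx
    rw [hx, mul_zero, zero_smul] at havg
    have h0 : ∑ t : K, ρ (gx C 5 t) v = 0 := by
      refine rho_inj (ρ := ρ) n ?_
      rw [map_zero, map_sum, ← havg]
      refine Fintype.sum_equiv (Equiv.mulLeft₀ (c : K) c.ne_zero) _ _ fun t => ?_
      rw [← rho_mul, h56, rho_mul]
      rfl
    have h := congrArg φ h0
    rw [map_sum, map_zero, Finset.sum_eq_single 0] at h
    · rw [gx_zero, map_one, Module.End.one_apply, hφv] at h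
      exact one_ne_zero h
    · intro t _ ht
      obtain ⟨a, u, e⟩ := hopp t ht
      rw [e, rho_mul, rho_mul, hφR 6 (by decide +kernel), mem_E_zero.1 hv.2, rho_mul,
        hφH _ (C.G.hd_mem_H _ _) _ (hχ u), ← hx_def, hx, mul_zero]
    · exact fun h => absurd (Finset.mem_univ _) h
  -- the character is trivial
  have hswap : ∀ (r r' : Fin chevG2.nroots) (t : Kˣ), C.G.w nb r = r' → n * hdG r t = hdG r' t * n :=
    fun r r' t h => Subtype.ext (by
      rw [Subgroup.coe_mul, Subgroup.coe_mul, hnval]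
      show C.G.nU nb * C.G.hd r t = C.G.hd r' t * C.G.nU nb
      rw [C.G.hd_w, h])
  have hχ1 : ∀ t, χ t = 1 := by
    intro t
    have hne : χ t ≠ 0 := fun e => by
      have := hχ t
      rw [e, zero_smul] at this
      exact hv0 (rho_inj _ (this.trans (map_zero _).symm))
    have h3 : χ (t ^ (3 : ℤ)) = 1 := by
      have hw : C.G.w nb (C.G.simp' na) = ⟨8, by decide +kernel⟩ :=
        Fin.ext (by rw [← C.G.reflect_eq, C.G.simp_val]; decide +kernel)
      have h := congrArg (fun g => φ (ρ g v)) (hswap _ _ t hw)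
      have e : hdG (⟨8, by decide +kernel⟩ : Fin chevG2.nroots) t =
          hdG (C.G.simp' na) t * hdG (C.G.simp' nb) (t ^ (3 : ℤ)) := Subtype.ext (by
        show C.G.hd _ t = C.G.hd _ t * C.G.hd _ (t ^ (3 : ℤ))
        rw [hd_prod (c0 := 1) (c1 := 3) (by decide +kernel), zpow_one])
      simp only [e, rho_mul, hha] at h
      rw [hφH (hdG (C.G.simp' na) t) (C.G.hd_mem_H _ _) 1 (by rw [hha, one_smul]), one_mul,
        hφH _ (C.G.hd_mem_H _ _) _ (hχ _), ← hx_def] at h
      exact (mul_right_cancel₀ hx0 ((one_mul x).trans h)).symm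
    have h2 : χ t = χ t⁻¹ := by
      have hw : C.G.w nb (C.G.simp' nb) = ⟨5, by decide +kernel⟩ :=
        Fin.ext (by rw [← C.G.reflect_eq, C.G.simp_val]; decide +kernel)
      have h := congrArg (fun g => φ (ρ g v)) (hswap _ _ t hw)
      have e : hdG (⟨5, by decide +kernel⟩ : Fin chevG2.nroots) t = hdG (C.G.simp' nb) t⁻¹ := Subtype.ext (by
        show C.G.hd _ t = C.G.hd _ t⁻¹
        rw [hd_prod (c0 := 0) (c1 := -1) (by decide +kernel), zpow_zero, map_one, one_mul, zpow_neg_one])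
      simp only [e, rho_mul, hχ, map_smul, smul_eq_mul] at h
      rw [hφH _ (C.G.hd_mem_H _ _) _ (hχ _), ← hx_def] at h
      exact mul_right_cancel₀ hx0 h
    have hmul : ∀ a b, χ (a * b) = χ a * χ b := fun a b => by
      refine smul_left_injective ℂ hv0 ?_
      show χ (a * b) • v = (χ a * χ b) • v
      rw [← hχ, show hdG (C.G.simp' nb) (a * b) = hdG (C.G.simp' nb) a * hdG (C.G.simp' nb) b from
        Subtype.ext (map_mul _ _ _), rho_mul, hχ, map_smul, hχ, smul_smul, mul_comm]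
    have h11 : χ (1 : Kˣ) = 1 := by
      refine smul_left_injective ℂ hv0 ?_
      show χ 1 • v = (1 : ℂ) • v
      rw [← hχ, show hdG (C.G.simp' nb) (1 : Kˣ) = 1 from Subtype.ext (map_one _), map_one,
        Module.End.one_apply, one_smul]
    have hsq : χ t * χ t = 1 := by
      conv_lhs => arg 2; rw [h2]
      rw [← hmul, mul_inv_cancel, h11]
    rw [show (t ^ (3 : ℤ) : Kˣ) = t * t * t by rw [zpow_ofNat, pow_succ, pow_two], hmul, hmul, hsq, one_mul] at h3
    exact h3
  have hdiag : ∀ g : ↥(chevG2.group K), (g : GL chevG2.Idx K) ∈ chevG2.diagonalSubgroup K → ρ g v = v := by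
    intro g hg
    have h := hg
    rw [C.G.diagonal_eq_range] at h
    obtain ⟨cc, hcc⟩ := h
    have e : g = hdG (C.G.simp' na) (cc na) * hdG (C.G.simp' nb) (cc nb) := Subtype.ext (by
      show (g : GL chevG2.Idx K) = C.G.hd _ _ * C.G.hd _ _
      rw [← hcc, C.G.torθ_eq_prod, show List.finRange chevG2.rank = [na, nb] by decide +kernel]
      simp)
    rw [e, rho_mul, hχ, hχ1, one_smul, hha]
  have hφD : ∀ g : ↥(chevG2.group K), (g : GL chevG2.Idx K) ∈ chevG2.diagonalSubgroup K → ∀ y, φ (ρ g y) = φ y :=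
    fun g hg y => by rw [hφH g hg 1 (by rw [hdiag g hg, one_smul]), one_mul]
  have hBP : BorelPair ρ v φ := by
    refine ⟨fun g hg => ?_, fun g hg y => ?_, fun y hy => ?_, hφv⟩
    · obtain ⟨u, hu, d, hd, e⟩ := C.G.mem_borel_iff.1 hg
      rw [show g = (⟨u, C.G.posUnipotent_le_group hu⟩ : ↥(chevG2.group K)) * ⟨d, C.G.diagonal_le_group hd⟩ from
        Subtype.ext e, rho_mul, hdiag _ hd, hvU _ hu]
    · obtain ⟨u, hu, d, hd, e⟩ := C.G.mem_borel_iff.1 hg
      rw [show g = (⟨u, C.G.posUnipotent_le_group hu⟩ : ↥(chevG2.group K)) * ⟨d, C.G.diagonal_le_group hd⟩ from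
        Subtype.ext e, rho_mul, hφU _ hu, hφD _ hd]
    · exact ((hφ y).symm.trans (hPid y hy)).symm
  have hnn : ρ n (ρ n v) = v := by
    rw [← rho_mul]
    exact hdiag _ (by rw [Subgroup.coe_mul, hnval]; exact C.G.nU_sq nb)
  have hinvn : φ (ρ n⁻¹ v) = x := by
    conv_lhs => rw [← hnn]
    rw [rho_inv_self]
  -- the value of the coefficient
  have hqx : 1 + (q : ℂ) * x = 0 := by
    by_contra hne
    have hterm : ∀ t : K, t ≠ 0 → ρ n (ρ (gx C 6 t) (ρ n v)) = ρ (gx C 6 ((c' : K) * t)⁻¹) (ρ n v) := by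
      intro t ht
      have ht' : (c' : K) * t ≠ 0 := mul_ne_zero c'.ne_zero ht
      rw [← rho_mul n, h65, rho_mul, hnn, gx_opp (r := 6) (by decide +kernel) _,
        show -((c' : K) * t)⁻¹ = ((Units.mk0 _ (neg_ne_zero.2 (inv_ne_zero ht')) : Kˣ) : K) from rfl, hnE6,
        rho_mul, rho_mul, mem_E_zero.1 hv.2]
      congr 1
      rw [show hdG (C.G.simp' nb) (Units.mk0 _ (neg_ne_zero.2 (inv_ne_zero ht'))) * n =
        n * (n⁻¹ * hdG (C.G.simp' nb) (Units.mk0 _ (neg_ne_zero.2 (inv_ne_zero ht'))) * n) by group, rho_mul,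
        hdiag]
      simp only [Subgroup.coe_mul, Subgroup.coe_inv, hnval]
      exact (Subgroup.mem_normalizer_iff''.1 (C.G.nU_mem_normalizer nb) _).1 (C.G.hd_mem_H _ _)
    have hn1 : ρ n v = v := by
      have hy : ρ n ((1 + (q : ℂ) * x) • v) = (1 + (q : ℂ) * x) • v := by
        have hsum : (1 + (q : ℂ) * x) • v = v + ∑ t : K, ρ (gx C 6 t) (ρ n v) := by
          rw [havg, add_smul, one_smul]
        rw [hsum, map_add, map_sum, ← Finset.add_sum_erase _ _ (Finset.mem_univ (0 : K)),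
          ← Finset.add_sum_erase _ (fun t : K => ρ (gx C 6 t) (ρ n v)) (Finset.mem_univ (0 : K)),
          gx_zero, map_one, Module.End.one_apply, hnn, ← add_assoc, ← add_assoc, add_comm (ρ n v) v]
        congr 1
        refine Finset.sum_bij (fun t _ => ((c' : K) * t)⁻¹)
          (fun t ht => Finset.mem_erase.2 ⟨inv_ne_zero (mul_ne_zero c'.ne_zero (Finset.ne_of_mem_erase ht)),
            Finset.mem_univ _⟩)
          (fun a _ b _ e => mul_left_cancel₀ c'.ne_zero (inv_injective e))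
          (fun b hb => ⟨(c' : K)⁻¹ * b⁻¹, Finset.mem_erase.2
            ⟨mul_ne_zero (inv_ne_zero c'.ne_zero) (inv_ne_zero (Finset.ne_of_mem_erase hb)), Finset.mem_univ _⟩,
            by rw [mul_inv_cancel_left₀ c'.ne_zero, inv_inv]⟩)
          fun t ht => hterm t (Finset.ne_of_mem_erase ht)
      rw [map_smul] at hy
      exact smul_right_injective V hne hy
    have hw : ∀ l : List (Fin chevG2.rank), ρ (nwG l) v = v := by
      intro l
      induction l with
      | nil => rw [show nwG (K := K) [] = 1 from rfl, map_one, Module.End.one_apply]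
      | cons i l ih =>
        rw [show nwG (K := K) (i :: l) = nwG [i] * nwG l from Subtype.ext (C.G.nw_append [i] l), rho_mul, ih]
        rcases node_cases i with rfl | rfl
        exacts [hna, hn1]
    have hall : ∀ g : ↥(chevG2.group K), ρ g v = v := by
      intro g
      obtain ⟨g, hg⟩ := g
      have hg' := hg
      rw [C.G.group_eq] at hg'
      induction hg' using Subgroup.closure_induction with
      | one => rw [show (⟨1, hg⟩ : ↥(chevG2.group K)) = 1 from rfl, map_one, Module.End.one_apply]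
      | mul a b ha hb iha ihb =>
        have hag : a ∈ chevG2.group K := by rw [C.G.group_eq]; exact ha
        have hbg : b ∈ chevG2.group K := by rw [C.G.group_eq]; exact hb
        rw [show (⟨a * b, hg⟩ : ↥(chevG2.group K)) = ⟨a, hag⟩ * ⟨b, hbg⟩ from rfl, rho_mul, ihb hbg, iha hag]
      | inv a ha iha =>
        have hag : a ∈ chevG2.group K := by rw [C.G.group_eq]; exact ha
        rw [show (⟨a⁻¹, hg⟩ : ↥(chevG2.group K)) = (⟨a, hag⟩)⁻¹ from rfl]
        conv_lhs => rw [← iha hag]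
        exact rho_inv_self _ _
      | mem z hz =>
        obtain ⟨r, t, rfl⟩ := hz
        obtain ⟨l, -, r0, hr0, e⟩ := reach_pos r
        obtain ⟨ε, -, he'⟩ := nw_act (ρ := ρ) (ψ := ψ) l (r := r0.val) (r' := r.val) ⟨r0.isLt, e⟩
        have h := he' _ _ (hvpos r0 hr0)
        rw [mul_zero, hw l] at h
        have := mem_E_zero.1 h t
        rwa [gx_of_lt C r.isLt] at this
    let W : Subrepresentation ρ := ⟨ℂ ∙ v, fun g y hy => by
      obtain ⟨a, rfl⟩ := Submodule.mem_span_singleton.1 hy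
      rw [map_smul, hall]
      exact Submodule.smul_mem _ _ (Submodule.mem_span_singleton_self v)⟩
    rcases IsSimpleOrder.eq_bot_or_eq_top W with h | h
    · have h' : (ℂ ∙ v) = ⊥ := congrArg Subrepresentation.toSubmodule h
      exact hv0 (Submodule.span_singleton_eq_bot.1 h')
    · have h1 : Module.finrank ℂ ↥(ℂ ∙ v) = 1 := finrank_span_singleton hv0
      rw [show (ℂ ∙ v) = (⊤ : Submodule ℂ V) from congrArg Subrepresentation.toSubmodule h, finrank_top, hdim] at h1
      have : 5 ^ 3 ≤ q ^ 3 := Nat.pow_le_pow_left h5 3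
      omega
  have hq0 : (q : ℂ) ≠ 0 := Nat.cast_ne_zero.2 (by omega)
  have hxval : x = -(q : ℂ)⁻¹ := by
    field_simp
    linear_combination hqx
  -- coefficients on reduced words
  have hword : ∀ l : List (Fin chevG2.rank), red l = true →
      φ (ρ (nwG l) v) = x ^ l.count nb ∧ φ (ρ (nwG l)⁻¹ v) = x ^ l.count nb := by
    intro l
    induction l with
    | nil =>
      intro _
      rw [show nwG (K := K) [] = 1 from rfl, inv_one, map_one, Module.End.one_apply]
      simp [hφv]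
    | cons i l ih =>
      intro hr
      simp only [red, Bool.and_eq_true, decide_eq_true_eq] at hr
      obtain ⟨h1, h2⟩ := ih hr.1
      have hpos : chevG2.IsPosRoot ((C.G.pw l)⁻¹ (C.G.simp' i)).val := by
        rw [← C.G.pw_reverse, pw_img, C.G.simp_val]
        exact hr.2
      obtain ⟨e1, e2⟩ := coef_mul (C := C) hBP i (ni := nwG [i]) (n := nwG l) (by simp [nwG, Good.nw])
        (nwG_perm l) hpos
      rw [show nwG (K := K) (i :: l) = nwG [i] * nwG l from Subtype.ext (C.G.nw_append [i] l), e1, e2, h1, h2]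
      rcases node_cases i with rfl | rfl
      · rw [hna, show ρ (nwG [na])⁻¹ v = v by conv_lhs => rw [← hna]; exact rho_inv_self _ _]
        rw [hφv, one_mul, List.count_cons_of_ne (by decide +kernel)]
        exact ⟨rfl, rfl⟩
      · rw [← hn_def, ← hx_def, hinvn, List.count_cons_self, pow_succ']
        exact ⟨rfl, rfl⟩
  -- Schur's relation
  haveI : Nontrivial V := ⟨⟨v, 0, hv0⟩⟩
  haveI : Fintype ↥(chevG2.group K) := Fintype.ofFinite _
  let nn : Equiv.Perm (Fin chevG2.nroots) → ↥(chevG2.group K) := fun w =>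
    ⟨C.nr w, C.G.monomial_le_group (C.nr_mem w)⟩
  have hS := schur_sum ρ v φ hφv
  rw [show ∑ g : ↥(chevG2.group K), φ (ρ g v) * φ (ρ g⁻¹ v) = ∑ g, coef2 ρ v φ g from rfl,
    sum_coef2 (C := C) hBP nn (fun w _ => rfl), hdim] at hS
  have hnd : (words.map fun l => C.G.pw l).Nodup := by
    refine List.Nodup.of_map (fun π : Equiv.Perm (Fin chevG2.nroots) => List.ofFn fun r => (π r).val) ?_
    simp only [List.map_map, Function.comp_def, pw_img]
    decide +kernel
  have hfilt : (Finset.univ.filter (· ∈ C.G.Wg)) = (words.map fun l => C.G.pw l).toFinset := by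
    ext π
    simp only [Finset.mem_filter, Finset.mem_univ, true_and, List.mem_toFinset, List.mem_map]
    exact ⟨fun h => exists_word h, fun ⟨l, _, e⟩ => e ▸ C.G.pw_mem l⟩
  have hlen : ∀ l ∈ words, ninv C.G (C.G.pw l) = l.length ∧ red l = true ∧ 2 * l.count nb ≤ 3 + l.length := by
    have hd : ∀ l ∈ words, (Finset.univ.filter fun r : Fin chevG2.nroots =>
        chevG2.IsPosRoot r.val ∧ ¬ chevG2.IsPosRoot (img l r.val)).card = l.length ∧ red l = true ∧
        2 * l.count nb ≤ 3 + l.length := by decide +kernel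
    intro l hl
    simp only [ninv, pw_img]
    exact hd l hl
  have hval : ∀ l ∈ words, ((q : ℂ) ^ ninv C.G (C.G.pw l) * coef2 ρ v φ (nn (C.G.pw l))) * (q : ℂ) ^ 3 =
      ((q ^ (3 + l.length - 2 * l.count nb) : ℕ) : ℂ) := by
    intro l hl
    obtain ⟨e1, e2, e3⟩ := hlen l hl
    obtain ⟨h1, h2⟩ := hword l e2
    have hh := C.eq_mul_H (C.G.nw_mem_monomial l) (C.nr_mem (C.G.pw l)) (C.G.nPerm_nw (K := K) l)
      (C.nr_perm (C.G.pw_mem l))
    have hcell : coef2 ρ v φ (nn (C.G.pw l)) = coef2 ρ v φ (nwG l) :=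
      coef2_cell (b := 1) (b' := ⟨_, C.G.diagonal_le_group hh⟩) hBP (one_mem _) (Subgroup.mem_sup_right hh)
        (Subtype.ext (by simp [nn, nwG]))
    rw [hcell, coef2, h1, h2, e1, Nat.cast_pow, ← pow_add, hxval, ← two_mul, pow_mul, neg_sq, ← pow_mul, inv_pow,
      show (q : ℂ) ^ (3 + l.length - 2 * l.count nb) = (q : ℂ) ^ (3 + l.length) * ((q : ℂ) ^ (2 * l.count nb))⁻¹
        from by rw [pow_sub₀ _ hq0 e3], pow_add]
    ring
  have hG := C.card_group (K := K)
  rw [hfilt, List.sum_toFinset _ hnd, List.map_map] at hS hG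
  have hkey : ((words.map fun l => q ^ (3 + l.length - 2 * l.count nb)).sum : ℕ) =
      (words.map fun l => q ^ l.length).sum := by
    have hB : (Nat.card ↥(chevG2.borelSubgroup K) : ℂ) ≠ 0 := Nat.cast_ne_zero.2 Nat.card_pos.ne'
    rw [List.map_congr_left (fun l hl => by
      rw [Function.comp_apply, (hlen l hl).1] : ∀ l ∈ words, _ = Fintype.card K ^ l.length)] at hG
    rw [← Nat.card_eq_fintype_card (α := ↥(chevG2.group K)), hG, Nat.cast_mul, Nat.cast_pow, mul_assoc] at hS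
    have h := mul_left_cancel₀ hB hS
    rw [← List.sum_map_mul_right] at h
    simp only [Function.comp_apply, ← hq] at h
    rw [List.map_congr_left fun l hl => hval l hl] at h
    apply Nat.cast_injective (R := ℂ)
    rw [Nat.cast_list_sum, List.map_map]
    exact h
  simp [words, List.count_cons] at hkey
  have h2 : 5 * q ^ 5 ≤ q ^ 6 := by nlinarith
  have h3 : 5 * q ^ 4 ≤ q ^ 5 := by nlinarith
  have h4 : 5 * q ^ 3 ≤ q ^ 4 := by nlinarith
  have h6 : 5 * q ^ 2 ≤ q ^ 3 := by nlinarith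
  nlinarith

end CfsgLib.MinDeg.GTwo
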