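import Cfsg.Agent.Lib.MinDeg.RootSpace

/-!
# Counting lemmas for eigenspaces of root subgroups
-/

set_option autoImplicit false
set_option linter.unusedSectionVars false

namespace CfsgLib.MinDeg.RootSpace

open Cfsg.Lie CfsgLib.Lie.Chev
open scoped MatrixGroups

variable {D : ChevalleyDatum} {C : Full D} {K : Type*} [Field K] [Fintype K]
variable {V : Type*} [AddCommGroup V] [Module ℂ V] [FiniteDimensional ℂ V]
variable {ρ : Representation ℂ ↥(D.group K) V} {ψ : AddChar K ℂ}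

theorem sum_zero_const {f : K → ℕ} {c : ℕ} (h : ∀ a, a ≠ 0 → f a = c) :
    ∑ a, f a = f 0 + (Fintype.card K - 1) * c := by
  classical
  rw [← Finset.add_sum_erase _ f (Finset.mem_univ 0), Finset.sum_congr rfl fun a ha => h a (Finset.ne_of_mem_erase ha),
    Finset.sum_const, Finset.card_erase_of_mem (Finset.mem_univ _), Finset.card_univ, smul_eq_mul]

theorem sum_zero_ge {f : K → ℕ} {c : ℕ} (h : ∀ a, a ≠ 0 → c ≤ f a) :
    f 0 + (Fintype.card K - 1) * c ≤ ∑ a, f a := by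
  classical
  rw [← Finset.add_sum_erase _ f (Finset.mem_univ 0)]
  refine Nat.add_le_add_left ?_ _
  rw [← smul_eq_mul, ← Finset.card_univ, ← Finset.card_erase_of_mem (Finset.mem_univ (0 : K))]
  exact Finset.card_nsmul_le_sum _ _ _ fun a ha => h a (Finset.ne_of_mem_erase ha)

theorem decomp_const (hψ : ψ.IsPrimitive) (r : ℕ) (W : Submodule ℂ V) (hW : ∀ t, ∀ x ∈ W, ρ (gx C r t) x ∈ W)
    {c : ℕ} (h : ∀ a, Module.finrank ℂ ↥(W ⊓ E C ρ ψ r a) = c) : Module.finrank ℂ W = Fintype.card K * c := by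
  rw [finrank_decomp hψ r W hW, Finset.sum_congr rfl fun a _ => h a, Finset.sum_const, Finset.card_univ, smul_eq_mul]

theorem decomp_split (hψ : ψ.IsPrimitive) (r : ℕ) (W : Submodule ℂ V) (hW : ∀ t, ∀ x ∈ W, ρ (gx C r t) x ∈ W)
    {c : ℕ} (h : ∀ a, a ≠ 0 → Module.finrank ℂ ↥(W ⊓ E C ρ ψ r a) = c) :
    Module.finrank ℂ W = Module.finrank ℂ ↥(W ⊓ E C ρ ψ r 0) + (Fintype.card K - 1) * c := by
  rw [finrank_decomp hψ r W hW, sum_zero_const h]

theorem decomp_ge (hψ : ψ.IsPrimitive) (r : ℕ) (W : Submodule ℂ V) (hW : ∀ t, ∀ x ∈ W, ρ (gx C r t) x ∈ W)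
    {c : ℕ} (h : ∀ a, a ≠ 0 → c ≤ Module.finrank ℂ ↥(W ⊓ E C ρ ψ r a)) :
    Module.finrank ℂ ↥(W ⊓ E C ρ ψ r 0) + (Fintype.card K - 1) * c ≤ Module.finrank ℂ W := by
  rw [finrank_decomp hψ r W hW]
  exact sum_zero_ge h

theorem ne_bot_of_pos {W : Submodule ℂ V} (h : 0 < Module.finrank ℂ W) : ∃ x ∈ W, x ≠ 0 :=
  (Submodule.ne_bot_iff W).1 (finrank_pos_iff'.1 h)

/-- an element scaling the character of an invariant subspace forces the trivial character -/
theorem weight_zero (hψ : ψ.IsPrimitive) {r : ℕ} {a c : K} {W : Submodule ℂ V} (g : ↥(D.group K))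
    (hW0 : 0 < Module.finrank ℂ W) (hg : ∀ x ∈ W, ρ g x ∈ W) (hc : c ≠ 1) (hle : W ≤ E C ρ ψ r a)
    (hact : ∀ x ∈ E C ρ ψ r a, ρ g x ∈ E C ρ ψ r (c * a)) : a = 0 := by
  by_contra ha
  obtain ⟨x, hx, hx0⟩ := ne_bot_of_pos hW0
  refine hx0 (rho_inj g ((eq_zero_of_mem hψ (fun e => hc ?_) (hle (hg x hx)) (hact x (hle hx))).trans (map_zero _).symm))
  exact mul_right_cancel₀ ha (e.symm.trans (one_mul a).symm)

/-- a primitive additive character exists -/
theorem exists_primitive (F : Type*) [Field F] [Finite F] : ∃ ψ : AddChar F ℂ, ψ.IsPrimitive := by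
  obtain ⟨ψ, hψ⟩ := AddChar.exists_apply_ne_zero.2 (one_ne_zero (α := F))
  exact ⟨ψ, AddChar.IsPrimitive.of_ne_one fun h => hψ (by rw [h]; rfl)⟩

end CfsgLib.MinDeg.RootSpace
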