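import Cfsg.Agent.Lib.MinDeg.G2Rel
import Cfsg.Agent.Lib.MinDeg.Tools

/-!
# G₂(q), characteristic not three: the eigenspace structure below degree q³ + 1
-/

set_option autoImplicit false
set_option maxRecDepth 100000
set_option maxHeartbeats 1000000
set_option linter.unusedSectionVars false

namespace CfsgLib.MinDeg.GTwo

open Cfsg.Lie CfsgLib.Lie.Chev CfsgLib.MinDeg.RootSpace
open scoped MatrixGroups

variable {K : Type*} [Field K] [Fintype K]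
variable {V : Type*} [AddCommGroup V] [Module ℂ V] [FiniteDimensional ℂ V]
variable {ρ : Representation ℂ ↥(chevG2.group K) V} {ψ : AddChar K ℂ}

local notation "Eg" => E C ρ ψ

/-- the vectors fixed by the abelian radical with roots `10`, `11` -/
noncomputable def U0 (ρ : Representation ℂ ↥(chevG2.group K) V) (ψ : AddChar K ℂ) : Submodule ℂ V :=
  E C ρ ψ 11 0 ⊓ E C ρ ψ 10 0

theorem scale_ne_one {c : Kˣ} (h : c ≠ 1) : ((c : K))⁻¹ ≠ 1 := fun e =>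
  h (Units.ext (inv_eq_one.1 e))

theorem exists_unit_pow_ne (h5 : 5 ≤ Fintype.card K) : ∃ A : Kˣ, A ≠ 1 ∧ A ^ 2 ≠ 1 ∧ A ^ 3 ≠ 1 := by
  classical
  obtain ⟨g, hg⟩ := IsCyclic.exists_generator (α := Kˣ)
  have ho : orderOf g = Fintype.card K - 1 := by
    rw [orderOf_eq_card_of_forall_mem_zpowers hg, Nat.card_eq_fintype_card, Fintype.card_units]
  refine ⟨g, fun e => ?_, fun e => ?_, fun e => ?_⟩
  · rw [e, orderOf_one] at ho; omega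
  · have := Nat.le_of_dvd (by norm_num) (orderOf_dvd_of_pow_eq_one e); omega
  · have := Nat.le_of_dvd (by norm_num) (orderOf_dvd_of_pow_eq_one e); omega

/-- the structure found below degree q³ + 1 -/
structure Small (ρ : Representation ℂ ↥(chevG2.group K) V) (ψ : AddChar K ℂ) : Prop where
  ge : Fintype.card K ^ 3 - 1 ≤ Module.finrank ℂ V
  dimW10 : ∀ γ : K, γ ≠ 0 → Module.finrank ℂ ↥(E C ρ ψ 11 0 ⊓ E C ρ ψ 10 γ) = Fintype.card K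
  dimL : ∀ γ : K, γ ≠ 0 → Module.finrank ℂ ↥(E C ρ ψ 11 0 ⊓ E C ρ ψ 10 γ ⊓ E C ρ ψ 9 0) = 1
  dimB : ∀ β : K, β ≠ 0 → Module.finrank ℂ ↥(U0 ρ ψ ⊓ E C ρ ψ 6 β) = 1
  le_B : ∀ β : K, β ≠ 0 → U0 ρ ψ ⊓ E C ρ ψ 6 β ≤ E C ρ ψ 8 0 ⊓ E C ρ ψ 9 0
  dimV : Module.finrank ℂ V + 1 = Fintype.card K ^ 3 + Module.finrank ℂ ↥(U0 ρ ψ ⊓ E C ρ ψ 6 0)
  dim00 : Module.finrank ℂ ↥(U0 ρ ψ ⊓ E C ρ ψ 6 0) ≤ 1
  le_00 : U0 ρ ψ ⊓ E C ρ ψ 6 0 ≤ E C ρ ψ 8 0 ⊓ E C ρ ψ 9 0 ⊓ E C ρ ψ 7 0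

theorem small (hψ : ψ.IsPrimitive) (h5 : 5 ≤ Fintype.card K) (h3 : (3 : K) ≠ 0)
    (hf : ∃ x, ρ (gx C 11 1) x ≠ x) (hk : Module.finrank ℂ V ≤ Fintype.card K ^ 3) : Small ρ ψ := by
  obtain ⟨A0, hA1, hA2, hA3⟩ := exists_unit_pow_ne h5
  obtain ⟨r, hr⟩ : ∃ r, Fintype.card K = r + 1 := ⟨_, (Nat.succ_pred (by omega)).symm⟩
  -- the nontrivial characters of the centre
  have hP : ∀ (l γ γ' : K), l ≠ 0 →
      Module.finrank ℂ ↥(Eg 11 l ⊓ Eg 10 γ) ≤ Module.finrank ℂ ↥(Eg 11 l ⊓ Eg 10 γ') := fun l γ γ' hl =>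
    le_finrank (gx C 6 ((γ - γ') * l⁻¹)) fun x hx =>
      ⟨sh0 (by decide +kernel) _ hx.1, sh1 (c := 11) (e := 1) (i := 1) (j := 1) (by decide +kernel) hx.2 hx.1
        fun u => by push_cast; field_simp; ring⟩
  have hQ : ∀ (l σ σ' : K), l ≠ 0 → Module.finrank ℂ ↥(Eg 11 l ⊓ Eg 10 0 ⊓ Eg 8 σ) ≤
      Module.finrank ℂ ↥(Eg 11 l ⊓ Eg 10 0 ⊓ Eg 8 σ') := fun l σ σ' hl =>
    le_finrank (gx C 9 ((σ' - σ) * (3 * l)⁻¹)) fun x hx =>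
      ⟨⟨sh0 (by decide +kernel) _ hx.1.1, sh0 (by decide +kernel) _ hx.1.2⟩,
        sh1 (c := 11) (e := -3) (i := 1) (j := 1) (by decide +kernel) hx.2 hx.1.1
          fun u => by push_cast; field_simp; ring⟩
  have hTor : ∀ (l l' : K), l ≠ 0 → l' ≠ 0 →
      Module.finrank ℂ ↥(Eg 11 l) ≤ Module.finrank ℂ ↥(Eg 11 l') := fun l l' hl hl' =>
    le_finrank (tor (Units.mk0 (l * l'⁻¹) (by simp [hl, hl'])) (Units.mk0 (l * l'⁻¹) (by simp [hl, hl']))⁻¹) fun x hx => by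
      refine tor_act_eq _ _ 3 2 (by decide +kernel) hx ?_
      rw [zpow_ofNat, zpow_ofNat, Units.val_inv_eq_inv_val, Units.val_mk0]
      field_simp
  set M2 := Module.finrank ℂ ↥(Eg 11 1 ⊓ Eg 10 0 ⊓ Eg 8 0)
  have hM1 : Module.finrank ℂ ↥(Eg 11 1 ⊓ Eg 10 0) = Fintype.card K * M2 :=
    decomp_const hψ 8 (Eg 11 1 ⊓ Eg 10 0) (fun t x hx => ⟨sh0 (by decide +kernel) _ hx.1, sh0 (by decide +kernel) _ hx.2⟩)
      fun a => le_antisymm (hQ _ _ _ one_ne_zero) (hQ _ _ _ one_ne_zero)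
  have hM : ∀ l : K, l ≠ 0 → Module.finrank ℂ ↥(Eg 11 l) = Fintype.card K * (Fintype.card K * M2) := fun l hl => by
    rw [le_antisymm (hTor l 1 hl one_ne_zero) (hTor 1 l one_ne_zero hl), ← hM1]
    exact decomp_const hψ 10 (Eg 11 1) (fun t x hx => sh0 (by decide +kernel) _ hx)
      fun a => le_antisymm (hP _ _ _ one_ne_zero) (hP _ _ _ one_ne_zero)
  have hV : Module.finrank ℂ V = Module.finrank ℂ ↥(Eg 11 0) + r * (Fintype.card K * (Fintype.card K * M2)) := by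
    have := decomp_split (C := C) (ρ := ρ) hψ 11 (⊤ : Submodule ℂ V) (fun _ _ _ => Submodule.mem_top)
      (c := Fintype.card K * (Fintype.card K * M2)) fun a ha => by rw [top_inf_eq]; exact hM a ha
    rw [top_inf_eq, finrank_top] at this
    rw [this, hr, Nat.add_sub_cancel]
  have hM2 : M2 = 1 := by
    have h0 : M2 ≠ 0 := fun h0 => by
      obtain ⟨x, hx⟩ := hf
      have htop : Eg 11 0 = ⊤ := Submodule.eq_top_of_finrank_eq (by rw [hV, h0]; simp)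
      exact hx (mem_E_zero.1 (htop.symm ▸ Submodule.mem_top) 1)
    by_contra h1
    have h2 : 2 ≤ M2 := by omega
    have := Nat.mul_le_mul_left (r * (Fintype.card K * Fintype.card K)) h2
    rw [hV, hr] at hk
    rw [hr] at this
    nlinarith
  rw [hM2, mul_one] at hV
  have hPq : ∀ l γ : K, l ≠ 0 → Module.finrank ℂ ↥(Eg 11 l ⊓ Eg 10 γ) = Fintype.card K := fun l γ hl => by
    have h1 := hM l hl
    rw [hM2, mul_one, decomp_const (C := C) (ρ := ρ) hψ 10 (Eg 11 l) (fun t x hx => sh0 (by decide +kernel) _ hx)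
      (c := Module.finrank ℂ ↥(Eg 11 l ⊓ Eg 10 γ)) fun a => le_antisymm (hP _ _ _ hl) (hP _ _ _ hl)] at h1
    exact Nat.eq_of_mul_eq_mul_left (by omega) h1
  -- the Weyl reflection exchanging `10` and `11`
  obtain ⟨e10, he10, n10⟩ := nw_act (ρ := ρ) (ψ := ψ) [nb] (r := 10) (r' := 11) (by decide +kernel)
  obtain ⟨e11, he11, n11⟩ := nw_act (ρ := ρ) (ψ := ψ) [nb] (r := 11) (r' := 10) (by decide +kernel)
  have hW10 : ∀ γ : K, γ ≠ 0 → Module.finrank ℂ ↥(Eg 11 0 ⊓ Eg 10 γ) = Fintype.card K := fun γ hγ => by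
    refine le_antisymm ?_ ?_
    · rw [← hPq (e10 * γ) 0 (mul_ne_zero he10 hγ)]
      refine le_finrank (ρ := ρ) (nwG (K := K) [nb]) fun x hx => ⟨n10 _ _ hx.2, ?_⟩
      have := n11 _ _ hx.1
      rwa [mul_zero] at this
    · rw [← hPq (γ * e11⁻¹) 0 (mul_ne_zero hγ (inv_ne_zero he11))]
      refine le_finrank (ρ := ρ) (nwG (K := K) [nb]) fun x hx => ⟨?_, ?_⟩
      · have := n10 _ _ hx.2
        rwa [mul_zero] at this
      · have := n11 _ _ hx.1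
        rwa [mul_comm e11, inv_mul_cancel_right₀ he11] at this
  have hN0 : Module.finrank ℂ ↥(Eg 11 0) = Module.finrank ℂ ↥(U0 ρ ψ) + r * Fintype.card K := by
    rw [decomp_split (C := C) (ρ := ρ) hψ 10 (Eg 11 0) (fun t x hx => sh0 (by decide +kernel) _ hx) hW10, hr,
      Nat.add_sub_cancel]
    rfl
  -- shifting the character of `9` along `7`
  have hS : ∀ γ σ σ' : K, γ ≠ 0 → Module.finrank ℂ ↥(Eg 11 0 ⊓ Eg 10 γ ⊓ Eg 9 σ) ≤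
      Module.finrank ℂ ↥(Eg 11 0 ⊓ Eg 10 γ ⊓ Eg 9 σ') := fun γ σ σ' hγ =>
    le_finrank (gx C 7 ((σ - σ') * (3 * γ)⁻¹)) fun x hx =>
      ⟨⟨sh0 (by decide +kernel) _ hx.1.1, sh0 (by decide +kernel) _ hx.1.2⟩,
        sh1 (c := 10) (e := 3) (i := 1) (j := 1) (by decide +kernel) hx.2 hx.1.2
          fun u => by push_cast; field_simp; ring⟩
  have hL : ∀ γ : K, γ ≠ 0 → Module.finrank ℂ ↥(Eg 11 0 ⊓ Eg 10 γ ⊓ Eg 9 0) = 1 := fun γ hγ => by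
    have h1 := decomp_const (C := C) (ρ := ρ) hψ 9 (Eg 11 0 ⊓ Eg 10 γ)
      (fun t x hx => ⟨sh0 (by decide +kernel) _ hx.1, sh0 (by decide +kernel) _ hx.2⟩)
      (c := Module.finrank ℂ ↥(Eg 11 0 ⊓ Eg 10 γ ⊓ Eg 9 0)) fun a => le_antisymm (hS _ _ _ hγ) (hS _ _ _ hγ)
    rw [hW10 γ hγ] at h1
    exact Nat.eq_of_mul_eq_mul_left (by omega : 0 < Fintype.card K) (h1.symm.trans (mul_one _).symm)
  have hLle : ∀ γ : K, γ ≠ 0 → Eg 11 0 ⊓ Eg 10 γ ⊓ Eg 9 0 ≤ Eg 8 0 ⊓ Eg 6 0 := by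
    intro γ hγ
    have hi8 : ∀ t, ∀ x ∈ Eg 11 0 ⊓ Eg 10 γ ⊓ Eg 9 0, ρ (gx C 8 t) x ∈ Eg 11 0 ⊓ Eg 10 γ ⊓ Eg 9 0 := fun t x hx =>
      ⟨⟨sh0 (by decide +kernel) _ hx.1.1, sh0 (by decide +kernel) _ hx.1.2⟩,
        sh1 (c := 11) (e := 3) (i := 1) (j := 1) (by decide +kernel) hx.2 hx.1.1 fun u => by simp⟩
    have hi6 : ∀ t, ∀ x ∈ Eg 11 0 ⊓ Eg 10 γ ⊓ Eg 9 0, ρ (gx C 6 t) x ∈ Eg 11 0 ⊓ Eg 10 γ ⊓ Eg 9 0 := fun t x hx =>
      ⟨⟨sh0 (by decide +kernel) _ hx.1.1,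
        sh1 (c := 11) (e := 1) (i := 1) (j := 1) (by decide +kernel) hx.1.2 hx.1.1 fun u => by simp⟩,
        sh0 (by decide +kernel) _ hx.2⟩
    have hstab : ∀ A : Kˣ, ∀ x ∈ Eg 11 0 ⊓ Eg 10 γ ⊓ Eg 9 0,
        ρ (tor A (A ^ 3)⁻¹) x ∈ Eg 11 0 ⊓ Eg 10 γ ⊓ Eg 9 0 := fun A x hx => by
      refine ⟨⟨?_, ?_⟩, ?_⟩
      · exact tor_act_zero _ _ (by decide +kernel) hx.1.1
      · refine tor_act_eq _ _ 3 1 (by decide +kernel) hx.1.2 ?_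
        rw [zpow_ofNat, zpow_one, Units.val_inv_eq_inv_val, Units.val_pow_eq_pow_val,
          mul_inv_cancel₀ (pow_ne_zero 3 A.ne_zero), one_mul]
      · exact tor_act_zero _ _ (by decide +kernel) hx.2
    obtain ⟨g8, h8, -⟩ := exists_char hψ 8 _ hi8 (hL γ hγ)
    obtain ⟨g6, h6, -⟩ := exists_char hψ 6 _ hi6 (hL γ hγ)
    have e8 : g8 = 0 := weight_zero hψ (tor A0 (A0 ^ 3)⁻¹) (by rw [hL γ hγ]; exact one_pos) (hstab A0)
      (c := ((A0 ^ 2 : Kˣ) : K)) (by simpa [← Units.val_pow_eq_pow_val] using hA2) h8 fun x hx => by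
        refine tor_act_eq _ _ 1 1 (by decide +kernel) hx ?_
        simp only [zpow_one, Units.val_inv_eq_inv_val, Units.val_pow_eq_pow_val]
        field_simp
    have e6 : g6 = 0 := weight_zero hψ (tor A0 (A0 ^ 3)⁻¹) (by rw [hL γ hγ]; exact one_pos) (hstab A0)
      (c := ((A0 ^ 3 : Kˣ) : K)) (by simpa [← Units.val_pow_eq_pow_val] using hA3) h6 fun x hx => by
        refine tor_act_eq _ _ 0 1 (by decide +kernel) hx ?_
        simp only [zpow_zero, zpow_one, one_mul, Units.val_inv_eq_inv_val, Units.val_pow_eq_pow_val]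
        field_simp
    exact le_inf (e8 ▸ h8) (e6 ▸ h6)
  -- transport to the characters of `6`
  obtain ⟨a10, ha10, m10⟩ := nw_act (ρ := ρ) (ψ := ψ) [na] (r := 10) (r' := 6) (by decide +kernel)
  obtain ⟨a6, -, m6⟩ := nw_act (ρ := ρ) (ψ := ψ) [na] (r := 6) (r' := 10) (by decide +kernel)
  obtain ⟨a8, -, m8⟩ := nw_act (ρ := ρ) (ψ := ψ) [na] (r := 8) (r' := 9) (by decide +kernel)
  obtain ⟨a9, -, m9⟩ := nw_act (ρ := ρ) (ψ := ψ) [na] (r := 9) (r' := 8) (by decide +kernel)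
  obtain ⟨a11, -, m11⟩ := nw_act (ρ := ρ) (ψ := ψ) [na] (r := 11) (r' := 11) (by decide +kernel)
  have z0 : ∀ {e : K} {s : ℕ} {x : V}, x ∈ Eg s (e * 0) → x ∈ Eg s 0 := fun {e s x} h => by rwa [mul_zero] at h
  have hB1 : ∀ β : K, β ≠ 0 → 1 ≤ Module.finrank ℂ ↥(U0 ρ ψ ⊓ Eg 6 β ⊓ (Eg 8 0 ⊓ Eg 9 0)) := fun β hβ => by
    have hγ : β * a10⁻¹ ≠ 0 := mul_ne_zero hβ (inv_ne_zero ha10)
    rw [← hL _ hγ]
    refine le_finrank (ρ := ρ) (nwG (K := K) [na]) fun x hx => ?_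
    have h86 := hLle _ hγ hx
    have h6' := m10 _ _ hx.1.2
    rw [mul_comm a10, inv_mul_cancel_right₀ ha10] at h6'
    exact ⟨⟨⟨z0 (m11 _ _ hx.1.1), z0 (m6 _ _ h86.2)⟩, h6'⟩, z0 (m9 _ _ hx.2), z0 (m8 _ _ h86.1)⟩
  have hi0 : ∀ t, ∀ x ∈ U0 ρ ψ, ρ (gx C 6 t) x ∈ U0 ρ ψ := fun t x hx =>
    ⟨sh0 (by decide +kernel) _ hx.1,
      sh1 (c := 11) (e := 1) (i := 1) (j := 1) (by decide +kernel) hx.2 hx.1 fun u => by simp⟩
  have hBeq : ∀ β β' : K, β ≠ 0 → β' ≠ 0 →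
      Module.finrank ℂ ↥(U0 ρ ψ ⊓ Eg 6 β) ≤ Module.finrank ℂ ↥(U0 ρ ψ ⊓ Eg 6 β') := fun β β' hβ hβ' =>
    le_finrank (tor 1 (Units.mk0 (β * β'⁻¹) (by simp [hβ, hβ']))) fun x hx => by
      refine ⟨⟨?_, ?_⟩, ?_⟩
      · exact tor_act_zero _ _ (by decide +kernel) hx.1.1
      · exact tor_act_zero _ _ (by decide +kernel) hx.1.2
      · refine tor_act_eq _ _ 0 1 (by decide +kernel) hx.2 ?_
        simp only [zpow_one, zpow_zero, one_mul, Units.val_mk0]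
        field_simp
  have hU : Module.finrank ℂ ↥(U0 ρ ψ) = Module.finrank ℂ ↥(U0 ρ ψ ⊓ Eg 6 0) +
      r * Module.finrank ℂ ↥(U0 ρ ψ ⊓ Eg 6 1) := by
    rw [decomp_split hψ 6 _ hi0 fun a ha => le_antisymm (hBeq a 1 ha one_ne_zero) (hBeq 1 a one_ne_zero ha), hr,
      Nat.add_sub_cancel]
  have hd1 : 1 ≤ Module.finrank ℂ ↥(U0 ρ ψ ⊓ Eg 6 1) :=
    (hB1 1 one_ne_zero).trans (Submodule.finrank_mono inf_le_left)
  have hd : Module.finrank ℂ ↥(U0 ρ ψ ⊓ Eg 6 1) = 1 := by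
    by_contra hne
    have h2 : 2 ≤ Module.finrank ℂ ↥(U0 ρ ψ ⊓ Eg 6 1) := by omega
    have := Nat.mul_le_mul_left r h2
    rw [hV, hN0, hU, hr] at hk
    rw [hr] at h5
    nlinarith
  rw [hd, mul_one] at hU
  have hB : ∀ β : K, β ≠ 0 → Module.finrank ℂ ↥(U0 ρ ψ ⊓ Eg 6 β) = 1 := fun β hβ =>
    (le_antisymm (hBeq β 1 hβ one_ne_zero) (hBeq 1 β one_ne_zero hβ)).trans hd
  have hdimV : Module.finrank ℂ V + 1 = Fintype.card K ^ 3 + Module.finrank ℂ ↥(U0 ρ ψ ⊓ Eg 6 0) := by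
    rw [hV, hN0, hU, hr]; ring
  refine
    { ge := by omega, dimW10 := hW10, dimL := hL, dimB := hB, dimV := hdimV, dim00 := by omega,
      le_B := ?_, le_00 := ?_ }
  · intro β hβ
    have h1 := Submodule.eq_of_le_of_finrank_le
      (inf_le_left : U0 ρ ψ ⊓ Eg 6 β ⊓ (Eg 8 0 ⊓ Eg 9 0) ≤ U0 ρ ψ ⊓ Eg 6 β) ((hB β hβ).le.trans (hB1 β hβ))
    exact inf_eq_left.1 h1
  · rcases Nat.eq_zero_or_pos (Module.finrank ℂ ↥(U0 ρ ψ ⊓ Eg 6 0)) with h0 | h0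
    · rw [Submodule.finrank_eq_zero.1 h0]; exact bot_le
    have h1 : Module.finrank ℂ ↥(U0 ρ ψ ⊓ Eg 6 0) = 1 := by omega
    have htor : ∀ A B : Kˣ, ∀ x ∈ U0 ρ ψ ⊓ Eg 6 0, ρ (tor A B) x ∈ U0 ρ ψ ⊓ Eg 6 0 := fun A B x hx =>
      ⟨⟨tor_act_zero A B (by decide +kernel) hx.1.1, tor_act_zero A B (by decide +kernel) hx.1.2⟩,
        tor_act_zero A B (by decide +kernel) hx.2⟩
    have hi8 : ∀ t, ∀ x ∈ U0 ρ ψ ⊓ Eg 6 0, ρ (gx C 8 t) x ∈ U0 ρ ψ ⊓ Eg 6 0 := fun t x hx =>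
      ⟨⟨sh0 (by decide +kernel) _ hx.1.1, sh0 (by decide +kernel) _ hx.1.2⟩, sh0 (by decide +kernel) _ hx.2⟩
    have hi9 : ∀ t, ∀ x ∈ U0 ρ ψ ⊓ Eg 6 0, ρ (gx C 9 t) x ∈ U0 ρ ψ ⊓ Eg 6 0 := fun t x hx =>
      ⟨⟨sh0 (by decide +kernel) _ hx.1.1, sh0 (by decide +kernel) _ hx.1.2⟩, sh0 (by decide +kernel) _ hx.2⟩
    obtain ⟨g8, h8, -⟩ := exists_char hψ 8 _ hi8 h1
    obtain ⟨g9, h9, -⟩ := exists_char hψ 9 _ hi9 h1
    have hc : ((A0 : K))⁻¹ ≠ 1 := scale_ne_one hA1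
    have e8 : g8 = 0 := weight_zero hψ (tor 1 A0) h0 (htor 1 A0) hc h8 fun x hx => by
      refine tor_act_eq _ _ 1 1 (by decide +kernel) hx ?_
      simp
    have e9 : g9 = 0 := weight_zero hψ (tor 1 A0) h0 (htor 1 A0) hc h9 fun x hx => by
      refine tor_act_eq _ _ 2 1 (by decide +kernel) hx ?_
      simp
    subst e8 e9
    have hi7 : ∀ t, ∀ x ∈ U0 ρ ψ ⊓ Eg 6 0, ρ (gx C 7 t) x ∈ U0 ρ ψ ⊓ Eg 6 0 := fun t x hx => by
      refine ⟨⟨sh0 (by decide +kernel) _ hx.1.1, sh0 (by decide +kernel) _ hx.1.2⟩, ?_⟩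
      refine sh (L := [(8, -1, 1, 1), (9, 1, 2, 1), (10, 1, 3, 1), (11, 1, 3, 2)]) (by decide +kernel)
        (f := fun _ => 0) hx.2 ?_ fun u => by simp [corr]
      simp only [List.forall_mem_cons, List.not_mem_nil, IsEmpty.forall_iff, implies_true, and_true]
      exact ⟨h8 hx, h9 hx, hx.1.2, hx.1.1⟩
    obtain ⟨g7, h7, -⟩ := exists_char hψ 7 _ hi7 h1
    have e7 : g7 = 0 := weight_zero hψ (tor A0 1) h0 (htor A0 1) hc h7 fun x hx => by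
      refine tor_act_eq _ _ 1 0 (by decide +kernel) hx ?_
      simp
    exact le_inf (le_inf h8 h9) (e7 ▸ h7)

end CfsgLib.MinDeg.GTwo
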