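import Cfsg.Agent.Lib.MinDeg.G2Generic

/-!
# G₂(q): degree q³ - 1 needs the absence of cube roots of unity

The element `s` acting trivially on the long root subgroups would act as a scalar on a space on which
it is not scalar.
-/

set_option autoImplicit false
set_option maxRecDepth 100000
set_option maxHeartbeats 1000000
set_option linter.unusedSectionVars false

namespace CfsgLib.MinDeg.GTwo

open Cfsg.Lie CfsgLib.Lie.Chev CfsgLib.MinDeg.RootSpace
open scoped MatrixGroups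

variable {K : Type*} [Field K] [Fintype K]
variable {V : Type*} [AddCommGroup V] [Module ℂ V] [FiniteDimensional ℂ V]
variable {ρ : Representation ℂ ↥(chevG2.group K) V} {ψ : AddChar K ℂ}

local notation "Eg" => E C ρ ψ

/-- the commutator relation with one correction term -/
theorem gx_comm1 {r s c i j : ℕ} {e : ℤ}
    (h : r < chevG2.nroots ∧ s < chevG2.nroots ∧ s ≠ r ∧ s ≠ chevG2.neg r ∧
      chevG2.commTerms r s = [(c, e, i, j)]) (t u : K) :
    gx C s u * gx C r t = gx C r t * gx C s u * gx C c ((e : K) * (-t) ^ i * u ^ j) := by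
  obtain ⟨h1, h2, h3, h4, h5⟩ := h
  rw [gx_comm C h1 h2 h3 h4, terms, h5]
  simp

theorem gx_comm0 {r s : ℕ}
    (h : r < chevG2.nroots ∧ s < chevG2.nroots ∧ s ≠ r ∧ s ≠ chevG2.neg r ∧ chevG2.commTerms r s = []) (t u : K) :
    gx C s u * gx C r t = gx C r t * gx C s u := by
  obtain ⟨h1, h2, h3, h4, h5⟩ := h
  rw [gx_comm C h1 h2 h3 h4, terms, h5]
  simp

/-- the sum over the abelian group with roots `0`, `5` -/
noncomputable def P05 (ρ : Representation ℂ ↥(chevG2.group K) V) (y : V) : V :=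
  ∑ a : K, ∑ b : K, ρ (gx C 0 a) (ρ (gx C 5 b) y)

theorem P05_absorb5 (b0 : K) (y : V) : P05 ρ (ρ (gx C 5 b0) y) = P05 ρ y := by
  refine Finset.sum_congr rfl fun a _ => ?_
  refine Fintype.sum_equiv (Equiv.addRight b0) _ _ fun b => ?_
  rw [Equiv.coe_addRight, gx_add, rho_mul]

theorem P05_absorb0 (a0 : K) (y : V) : P05 ρ (ρ (gx C 0 a0) y) = P05 ρ y := by
  refine Fintype.sum_equiv (Equiv.addRight a0) _ _ fun a => ?_
  refine Finset.sum_congr rfl fun b _ => ?_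
  simp only [Equiv.coe_addRight, ← rho_mul]
  rw [gx_add, mul_assoc (gx C 0 a), gx_comm0 (r := 5) (s := 0) (by decide +kernel)]

theorem P05_fix (y : V) : P05 ρ y ∈ E C ρ ψ 0 0 ⊓ E C ρ ψ 5 0 := by
  constructor <;> refine mem_E_zero.2 fun t => ?_ <;> simp only [P05, map_sum]
  · refine Fintype.sum_equiv (Equiv.addLeft t) _ _ fun a => ?_
    refine Finset.sum_congr rfl fun b _ => ?_
    rw [Equiv.coe_addLeft, gx_add, rho_mul]
  · refine Finset.sum_congr rfl fun a _ => ?_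
    refine Fintype.sum_equiv (Equiv.addLeft t) _ _ fun b => ?_
    simp only [Equiv.coe_addLeft, ← rho_mul]
    rw [gx_add, ← mul_assoc, ← mul_assoc, ← gx_comm0 (r := 5) (s := 0) (by decide +kernel)]

theorem P05_smul (c : ℂ) (y : V) : P05 ρ (c • y) = c • P05 ρ y := by
  simp [P05, Finset.smul_sum]

theorem P05_comm10 (c : K) (y : V) : ρ (gx C 10 c) (P05 ρ y) = P05 ρ (ρ (gx C 10 c) y) := by
  simp only [P05, map_sum]
  refine Finset.sum_congr rfl fun a _ => ?_
  refine Fintype.sum_equiv (Equiv.addLeft ((-1 : ℤ) * (-a) ^ 1 * c ^ 1 : K)) _ _ fun b => ?_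
  rw [Equiv.coe_addLeft, gx_add, rho_mul, ← rho_mul (gx C 10 c),
    gx_comm1 (r := 0) (s := 10) (c := 5) (e := -1) (i := 1) (j := 1) (by decide +kernel), rho_mul, rho_mul]
  congr 1
  simp only [← rho_mul]
  rw [← gx_add, gx_comm0 (r := 5) (s := 10) (by decide +kernel), ← mul_assoc, ← gx_add, add_comm]

theorem P05_comm1 (c : K) (y : V) : ρ (gx C 1 c) (P05 ρ y) = P05 ρ (ρ (gx C 1 c) y) := by
  simp only [P05, map_sum]
  rw [Finset.sum_comm]
  conv_rhs => rw [Finset.sum_comm]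
  refine Finset.sum_congr rfl fun b _ => ?_
  refine Fintype.sum_equiv (Equiv.addRight ((-1 : ℤ) * (-b) ^ 1 * c ^ 1 : K)) _ _ fun a => ?_
  simp only [Equiv.coe_addRight, ← rho_mul]
  congr 2
  set v : K := ((-1 : ℤ) : K) * (-b) ^ 1 * c ^ 1
  have h05 : ∀ p r : K, gx C 0 p * gx C 5 r = gx C 5 r * gx C 0 p := fun p r =>
    gx_comm0 (r := 5) (s := 0) (by decide +kernel) r p
  have h01 : ∀ p r : K, gx C 1 p * gx C 0 r = gx C 0 r * gx C 1 p := fun p r =>
    gx_comm0 (r := 0) (s := 1) (by decide +kernel) r p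
  calc gx C 1 c * (gx C 0 a * gx C 5 b) = gx C 0 a * (gx C 1 c * gx C 5 b) := by
        rw [← mul_assoc, h01, mul_assoc]
    _ = gx C 0 a * (gx C 5 b * (gx C 1 c * gx C 0 v)) := by
        rw [gx_comm1 (r := 5) (s := 1) (c := 0) (e := -1) (i := 1) (j := 1) (by decide +kernel), mul_assoc]
    _ = gx C 0 a * (gx C 5 b * gx C 0 v * gx C 1 c) := by rw [h01]; simp only [mul_assoc]
    _ = gx C 0 (a + v) * (gx C 5 b * gx C 1 c) := by
        rw [← h05, gx_add]
        simp only [mul_assoc]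

theorem no_omega (hψ : ψ.IsPrimitive) (h3 : (3 : K) ≠ 0) (S : Small ρ ψ)
    (he : Module.finrank ℂ ↥(U0 ρ ψ ⊓ Eg 6 0) = 0) (ω : Kˣ) (hω3 : ω ^ 3 = 1) (hω1 : ω ≠ 1) : False := by
  classical
  set s := tor (K := K) ω 1 with hs
  have scomm : ∀ {r : ℕ} (m j : ℤ) (_ : ∃ h : r < chevG2.nroots,
      cart chevG2 na ⟨r, h⟩ * 2 + cart chevG2 nb ⟨r, h⟩ * 3 = 3 * m ∧
        cart chevG2 na ⟨r, h⟩ + cart chevG2 nb ⟨r, h⟩ * 2 = j) (t : K), Commute s (gx C r t) := by
    intro r m j h t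
    show s * gx C r t = gx C r t * s
    rw [hs, tor_conj ω 1 h, zpow_mul, zpow_ofNat, hω3, one_zpow, one_zpow, mul_one, Units.val_one, one_mul]
  have c6 := scomm (r := 6) 0 1 (by decide +kernel)
  have c5 := scomm (r := 5) 0 (-1) (by decide +kernel)
  have c10 := scomm (r := 10) 1 1 (by decide +kernel)
  have c1 := scomm (r := 1) (-1) (-1) (by decide +kernel)
  have c11 := scomm (r := 11) 1 2 (by decide +kernel)
  have snE : ∀ (r r' : ℕ), r < chevG2.nroots ∧ chevG2.neg r = r' ∧ r' < chevG2.nroots →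
      (∀ t, Commute s (gx C r t)) → (∀ t, Commute s (gx C r' t)) → Commute s (nEG r (-1)) := by
    intro r r' h hr hr'
    have e := gx_opp h (1 : K)
    rw [inv_one] at e
    rw [show nEG r (-1 : K) = (gx C r 1)⁻¹ * gx C r' 1 * (gx C r 1)⁻¹ by rw [e]; group]
    exact (((hr 1).inv_right).mul_right (hr' 1)).mul_right (hr 1).inv_right
  -- the scalar on `U0`
  have hline : ∀ β : K, β ≠ 0 → ∀ x ∈ U0 ρ ψ ⊓ Eg 6 β, ρ s x ∈ U0 ρ ψ ⊓ Eg 6 β := fun β _ x hx => by
    refine ⟨⟨tor_act_zero _ _ (by decide +kernel) hx.1.1, tor_act_zero _ _ (by decide +kernel) hx.1.2⟩, ?_⟩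
    exact tor_act_eq _ _ 0 1 (by decide +kernel) hx.2 (by simp)
  obtain ⟨x1, hx1, hx10⟩ := ne_bot_of_pos (W := U0 ρ ψ ⊓ Eg 6 1) (by rw [S.dimB 1 one_ne_zero]; exact one_pos)
  have hspan : ∀ {β : K}, β ≠ 0 → ∀ x0 ∈ U0 ρ ψ ⊓ Eg 6 β, x0 ≠ 0 → ∀ x ∈ U0 ρ ψ ⊓ Eg 6 β, ∃ c : ℂ, x = c • x0 := by
    intro β hβ x0 hx0 hne x hx
    obtain ⟨c, hc⟩ := exists_smul_eq_of_finrank_eq_one (S.dimB β hβ)
      (x := (⟨x0, hx0⟩ : ↥(U0 ρ ψ ⊓ Eg 6 β))) (fun e => hne (congrArg Subtype.val e)) ⟨x, hx⟩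
    exact ⟨c, (congrArg Subtype.val hc).symm⟩
  obtain ⟨θ, hθ⟩ := hspan one_ne_zero x1 hx1 hx10 _ (hline 1 one_ne_zero x1 hx1)
  have hall : ∀ β : K, β ≠ 0 → ∀ x ∈ U0 ρ ψ ⊓ Eg 6 β, ρ s x = θ • x := by
    intro β hβ x hx
    set T := tor (K := K) 1 (Units.mk0 β⁻¹ (inv_ne_zero hβ))
    have hTx : ρ T x1 ∈ U0 ρ ψ ⊓ Eg 6 β := by
      refine ⟨⟨tor_act_zero _ _ (by decide +kernel) hx1.1.1, tor_act_zero _ _ (by decide +kernel) hx1.1.2⟩, ?_⟩
      exact tor_act_eq _ _ 0 1 (by decide +kernel) hx1.2 (by simp [inv_mul_cancel₀ hβ])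
    obtain ⟨c, rfl⟩ := hspan hβ _ hTx (fun e => hx10 (rho_inj T (e.trans (map_zero _).symm))) x hx
    have hcomm : s * T = T * s := Subtype.ext (by
      show C.G.torθ _ * C.G.torθ _ = C.G.torθ _ * C.G.torθ _
      rw [← map_mul, ← map_mul, mul_comm])
    rw [map_smul, ← rho_mul, hcomm, rho_mul, hθ, map_smul, smul_comm]
  have hU0 : ∀ x ∈ U0 ρ ψ, ρ s x = θ • x := by
    intro x hx
    have hinv : ∀ t, ∀ y ∈ U0 ρ ψ, ρ (gx C 6 t) y ∈ U0 ρ ψ := fun t y hy =>
      ⟨sh0 (by decide +kernel) _ hy.1,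
        sh1 (c := 11) (e := 1) (i := 1) (j := 1) (by decide +kernel) hy.2 hy.1 fun u => by simp⟩
    rw [← sum_proj (C := C) (ρ := ρ) hψ 6 x, map_sum, Finset.smul_sum]
    refine Finset.sum_congr rfl fun β _ => ?_
    have hm : proj C ρ ψ 6 β x ∈ U0 ρ ψ ⊓ Eg 6 β := ⟨proj_mem β hinv hx, proj_mem_E 6 β x⟩
    rcases eq_or_ne β 0 with rfl | hβ
    · rw [Submodule.finrank_eq_zero.1 he, Submodule.mem_bot] at hm
      rw [hm, map_zero, smul_zero]
    · exact hall β hβ _ hm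
  -- fixed vectors of three roots vanish
  have hzero : ∀ (l : List (Fin chevG2.rank)) (r1 r2 r3 : ℕ),
      (r1 < chevG2.nroots ∧ img l r1 = 11) ∧ (r2 < chevG2.nroots ∧ img l r2 = 10) ∧
        (r3 < chevG2.nroots ∧ img l r3 = 6) →
      ∀ z, z ∈ Eg r1 0 → z ∈ Eg r2 0 → z ∈ Eg r3 0 → z = 0 := by
    rintro l r1 r2 r3 ⟨h1, h2, h3'⟩ z z1 z2 z3
    obtain ⟨e1, -, n1⟩ := nw_act (ρ := ρ) (ψ := ψ) l h1
    obtain ⟨e2, -, n2⟩ := nw_act (ρ := ρ) (ψ := ψ) l h2
    obtain ⟨e3, -, n3⟩ := nw_act (ρ := ρ) (ψ := ψ) l h3'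
    have hm : ρ (nwG l) z ∈ U0 ρ ψ ⊓ Eg 6 0 :=
      ⟨⟨by simpa using n1 _ _ z1, by simpa using n2 _ _ z2⟩, by simpa using n3 _ _ z3⟩
    rw [Submodule.finrank_eq_zero.1 he, Submodule.mem_bot] at hm
    exact rho_inj _ (hm.trans (map_zero _).symm)
  -- the element moving the radical to the roots `0`, `5`
  set g := nEG (K := K) 6 (-1) * nEG 10 (-1)
  have hgp : C.G.NPerm (g : GL chevG2.Idx K) (C.G.pw ([nb] ++ [na, nb, na])) := by
    have h := Good.NPerm.mul C.G (nEG_perm (K := K) [] nb (r := 6) (by decide +kernel) (neg_ne_zero.2 one_ne_zero))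
      (nEG_perm (K := K) [na] nb (r := 10) (by decide +kernel) (neg_ne_zero.2 one_ne_zero))
    rw [← C.G.pw_append] at h
    exact h
  have sg : Commute s g :=
    (snE 6 5 (by decide +kernel) c6 c5).mul_right (snE 10 1 (by decide +kernel) c10 c1)
  obtain ⟨d5, -, g11⟩ := weyl_act (ρ := ρ) (ψ := ψ) hgp (r := 11) (r' := 5) (by decide +kernel)
  obtain ⟨d0, -, g10⟩ := weyl_act (ρ := ρ) (ψ := ψ) hgp (r := 10) (r' := 0) (by decide +kernel)
  obtain ⟨δ, hδ, g6⟩ := weyl_act (ρ := ρ) (ψ := ψ) hgp (r := 6) (r' := 10) (by decide +kernel)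
  set r' := ρ g x1
  have hr0 : r' ∈ Eg 0 0 := by simpa using g10 _ _ hx1.1.2
  have hr5 : r' ∈ Eg 5 0 := by simpa using g11 _ _ hx1.1.1
  have hr10 : r' ∈ Eg 10 δ := by simpa using g6 _ _ hx1.2
  have hrne : r' ≠ 0 := fun e => hx10 (rho_inj g (e.trans (map_zero _).symm))
  have hsr : ρ s r' = θ • r' := by
    rw [← rho_mul, sg.eq, rho_mul, hU0 x1 hx1.1, map_smul]
  -- the key vanishing
  have key : ∀ x u : K, x ≠ 0 ∨ u ≠ 0 → P05 ρ (ρ (gx C 6 x) (ρ (gx C 11 u) r')) = 0 := by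
    intro x u hxu
    rcases eq_or_ne x 0 with rfl | hx
    · have hu : u ≠ 0 := by tauto
      rw [gx_zero, map_one, Module.End.one_apply, gx_opp (r := 0) (by decide +kernel) u, rho_mul, rho_mul,
        mem_E_zero.1 hr0, P05_absorb0]
      have hn := nEG_perm (K := K) [nb, na, nb] nb (r := 0) (by decide +kernel)
        (neg_ne_zero.2 (inv_ne_zero hu) : -u⁻¹ ≠ 0)
      obtain ⟨d, -, hd⟩ := weyl_act (ρ := ρ) (ψ := ψ) hn (r := 5) (r' := 10) (by decide +kernel)
      have h10 := hd _ _ hr5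
      rw [mul_zero] at h10
      refine hzero [na, nb, na, nb] 5 0 10 (by decide +kernel) _ (P05_fix _).2 (P05_fix _).1
        (mem_E_zero.2 fun t => ?_)
      rw [P05_comm10, mem_E_zero.1 h10]
    · have h5 : ρ (gx C 5 x⁻¹) (ρ (gx C 11 u) r') =
          (ψ (δ * ((1 : ℤ) * (-x⁻¹) ^ 1 * u ^ 1)))⁻¹ • ρ (gx C 11 u) r' := by
        have h := congrArg (fun y => ρ y r')
          (gx_comm1 (r := 5) (s := 11) (c := 10) (e := 1) (i := 1) (j := 1) (by decide +kernel) x⁻¹ u)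
        simp only [rho_mul, mem_E_zero.1 hr5, mem_E.1 hr10, map_smul] at h
        conv_rhs => rw [h, smul_smul, inv_mul_cancel₀ (ψ.val_isUnit _).ne_zero, one_smul]
      rw [gx_opp (r := 5) (by decide +kernel) x, rho_mul, rho_mul, h5, P05_absorb5, map_smul, P05_smul]
      have hn := nEG_perm (K := K) [nb] nb (r := 5) (by decide +kernel)
        (neg_ne_zero.2 (inv_ne_zero hx) : -x⁻¹ ≠ 0)
      obtain ⟨c, hc⟩ := hn ⟨11, by decide +kernel⟩
      have hmove : nEG 5 (-x⁻¹) * gx C 11 u = gx C 10 ((c : K) * u) * nEG 5 (-x⁻¹) := by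
        apply Subtype.ext
        rw [Subgroup.coe_mul, Subgroup.coe_mul, gx_coe C (by decide +kernel), gx_coe C (by decide +kernel),
          ← mul_inv_eq_iff_eq_mul, hc]
        congr 1
        all_goals exact Fin.ext (by rw [pw_img]; decide +kernel)
      rw [← rho_mul, hmove, rho_mul, ← P05_comm10]
      obtain ⟨d, -, hd⟩ := weyl_act (ρ := ρ) (ψ := ψ) hn (r := 0) (r' := 1) (by decide +kernel)
      have h1 := hd _ _ hr0
      rw [mul_zero] at h1
      rw [hzero [na, nb, na, nb, na, nb] 0 1 5 (by decide +kernel) _ (P05_fix _).1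
        (mem_E_zero.2 fun t => by rw [P05_comm1, mem_E_zero.1 h1]) (P05_fix _).2, map_zero, smul_zero]
  -- the projection to the vectors fixed by the centre
  set w0 := ∑ u : K, ρ (gx C 11 u) r'
  have hw11 : w0 ∈ Eg 11 0 := mem_E_zero.2 fun t => by
    simp only [w0, map_sum]
    refine Fintype.sum_equiv (Equiv.addLeft t) _ _ fun u => ?_
    rw [Equiv.coe_addLeft, gx_add, rho_mul]
  have hw10 : w0 ∈ Eg 10 δ := Submodule.sum_mem _ fun u _ => sh0 (by decide +kernel) _ hr10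
  set w : K → ↥(Eg 11 0 ⊓ Eg 10 δ) := fun x => ⟨ρ (gx C 6 x) w0, sh0 (by decide +kernel) _ hw11,
    sh1 (c := 11) (e := 1) (i := 1) (j := 1) (by decide +kernel) hw10 hw11 fun u => by simp⟩
  have hli : LinearIndependent ℂ w := by
    rw [Fintype.linearIndependent_iff]
    intro a ha x0
    have h := congrArg (fun y => P05 ρ (ρ (gx C 6 (-x0)) y)) (congrArg Subtype.val ha)
    simp only [Submodule.coe_sum, Submodule.coe_smul, w, map_sum, map_smul, ← rho_mul, ← gx_add, map_zero,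
      Submodule.coe_zero] at h
    simp only [w0, map_sum, Finset.smul_sum] at h
    have hP : ∀ y, P05 ρ y = ∑ p : K × K, ρ (gx C 0 p.1) (ρ (gx C 5 p.2) y) := fun y => by
      rw [P05, Fintype.sum_prod_type]
    have hlin : ∀ (ι : Type _) (t : Finset ι) (f : ι → V), P05 ρ (∑ i ∈ t, f i) = ∑ i ∈ t, P05 ρ (f i) :=
      fun ι t f => by simp only [hP, map_sum]; exact Finset.sum_comm
    rw [hlin, Finset.sum_eq_single x0] at h
    · rw [hlin, Finset.sum_eq_single 0] at h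
      · rw [P05_smul, neg_add_cancel, gx_zero, map_one, Module.End.one_apply, gx_zero, map_one,
          Module.End.one_apply, P05] at h
        simp only [mem_E_zero.1 hr5, mem_E_zero.1 hr0, Finset.sum_const, Finset.card_univ] at h
        simp only [map_zero, Finset.sum_const_zero, P05, ← Nat.cast_smul_eq_nsmul ℂ, smul_smul] at h
        rcases smul_eq_zero.1 h with h' | h'
        · simpa using h'
        · exact absurd h' hrne
      · intro u _ hu
        rw [P05_smul, key _ _ (Or.inr hu), smul_zero]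
      · exact fun h => absurd (Finset.mem_univ _) h
    · intro x _ hx
      rw [hlin]
      refine Finset.sum_eq_zero fun u _ => ?_
      rw [P05_smul, key _ _ (Or.inl fun e => hx (by linear_combination e)), smul_zero]
    · exact fun h => absurd (Finset.mem_univ _) h
  have hsw : ∀ y ∈ Eg 11 0 ⊓ Eg 10 δ, ρ s y = θ • y := by
    intro y hy
    have htop := hli.span_eq_top_of_card_eq_finrank' (by rw [S.dimW10 δ hδ])
    have hmem : (⟨y, hy⟩ : ↥(Eg 11 0 ⊓ Eg 10 δ)) ∈ Submodule.span ℂ (Set.range w) := htop ▸ Submodule.mem_top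
    obtain ⟨a, ha⟩ := (Submodule.mem_span_range_iff_exists_fun ℂ).1 hmem
    have ha' := congrArg Subtype.val ha
    simp only [Submodule.coe_sum, Submodule.coe_smul, w] at ha'
    rw [← ha', map_sum, Finset.smul_sum]
    refine Finset.sum_congr rfl fun x _ => ?_
    rw [map_smul, ← rho_mul, (c6 x).eq, rho_mul, show ρ s w0 = θ • w0 by
      simp only [w0, map_sum, Finset.smul_sum]
      exact Finset.sum_congr rfl fun u _ => by rw [← rho_mul, (c11 u).eq, rho_mul, hsr, map_smul],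
      map_smul, smul_comm]
  -- a contradiction on a line
  obtain ⟨z, hz, hz0⟩ := ne_bot_of_pos (W := Eg 11 0 ⊓ Eg 10 δ ⊓ Eg 9 0) (by rw [S.dimL δ hδ]; exact one_pos)
  set y := ρ (gx C 7 1) z
  have hy : y ∈ Eg 11 0 ⊓ Eg 10 δ := ⟨sh0 (by decide +kernel) _ hz.1.1, sh0 (by decide +kernel) _ hz.1.2⟩
  have hy9 : y ∈ Eg 9 (-(3 * δ)) :=
    sh1 (c := 10) (e := 3) (i := 1) (j := 1) (by decide +kernel) hz.2 hz.1.2 fun u => by push_cast; ring
  have hyne : y ≠ 0 := fun e => hz0 (rho_inj _ (e.trans (map_zero _).symm))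
  have h1 : ρ s y ∈ Eg 9 (-(3 * δ)) := by rw [hsw y hy]; exact Submodule.smul_mem _ _ hy9
  have h2 : ρ s y ∈ Eg 9 ((ω : K) * -(3 * δ)) := by
    refine tor_act_eq _ _ 2 1 (by decide +kernel) hy9 ?_
    rw [zpow_ofNat, zpow_one, Units.val_one, mul_one, ← mul_assoc, ← pow_succ,
      ← Units.val_pow_eq_pow_val, hω3, Units.val_one, one_mul]
  refine hyne (rho_inj s ((eq_zero_of_mem hψ ?_ h1 h2).trans (map_zero _).symm))
  intro e
  refine hω1 (Units.ext ?_)
  exact (mul_right_cancel₀ (neg_ne_zero.2 (mul_ne_zero h3 hδ)) ((one_mul (-(3 * δ))).trans e)).symm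

end CfsgLib.MinDeg.GTwo
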