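import Cfsg.Agent.Lib.MinDeg.RootSpace
import Cfsg.Agent.Lib.Lie.Chev.CommG2
import Cfsg.Agent.Lib.Lie.Chev.GoodG2
import Cfsg.Agent.Lib.Lie.Chev.PerfectData
import Cfsg.Agent.Lib.Lie.Chev.Simple
import Cfsg.Agent.Lib.Lie.Chev.StCells
import Cfsg.Agent.S1059

/-!
# G₂(q): root data for the minimal-degree proof

Roots: `7` (`a`, short), `6` (`b`), `8` (`a+b`), `9` (`2a+b`), `10` (`3a+b`), `11` (`3a+2b`),
and `11 - r` is the negative of `r`.
-/

set_option autoImplicit false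
set_option maxRecDepth 100000
set_option linter.unusedSectionVars false

namespace CfsgLib.MinDeg.GTwo

open Cfsg.Lie CfsgLib.Lie.Chev CfsgLib.MinDeg.RootSpace
open scoped MatrixGroups

/-- the verified datum -/
noncomputable def C : Full chevG2 := ⟨goodG2, fastG2, rowsOK chkRows_G2, chkComm_G2⟩

/-- the short simple node -/
abbrev na : Fin chevG2.rank := ⟨0, by decide +kernel⟩

/-- the long simple node -/
abbrev nb : Fin chevG2.rank := ⟨1, by decide +kernel⟩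

theorem node_cases : ∀ i : Fin chevG2.rank, i = na ∨ i = nb := by decide +kernel

/-- the image of a root under a word -/
def img (l : List (Fin chevG2.rank)) (r : ℕ) : ℕ := l.foldr (fun i j => chevG2.reflectRoot i.val j) r

theorem pw_img (l : List (Fin chevG2.rank)) (r : Fin chevG2.nroots) : (C.G.pw l r).val = img l r.val := by
  induction l with
  | nil => rfl
  | cons i l ih =>
    rw [C.G.pw_cons, Equiv.Perm.mul_apply, C.G.sP_apply, ← C.G.reflect_eq, ih]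
    rfl

variable {K : Type*} [Field K]
variable {V : Type*} [AddCommGroup V] [Module ℂ V]
variable {ρ : Representation ℂ ↥(chevG2.group K) V} {ψ : AddChar K ℂ}

/-- the value of the correction of the character -/
def corr (L : List (ℕ × ℤ × ℕ × ℕ)) (f : ℕ → K) (t u : K) : K :=
  (L.map fun c => f c.1 * ((c.2.1 : K) * (-t) ^ c.2.2.1 * u ^ c.2.2.2)).sum

/-- the shift with an explicit table entry -/
theorem sh {r s : ℕ} {L : List (ℕ × ℤ × ℕ × ℕ)}
    (h : r < chevG2.nroots ∧ s < chevG2.nroots ∧ s ≠ r ∧ s ≠ chevG2.neg r ∧ chevG2.commTerms r s = L)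
    {f : ℕ → K} {b b' : K} {x : V} {t : K} (hb : x ∈ E C ρ ψ s b) (hf : ∀ c ∈ L, x ∈ E C ρ ψ c.1 (f c.1))
    (he : ∀ u : K, b * u + corr L f t u = b' * u) : ρ (gx C r t) x ∈ E C ρ ψ s b' := by
  obtain ⟨h1, h2, h3, h4, rfl⟩ := h
  refine shift h1 h2 h3 h4 hb hf fun u => ?_
  rw [← he, corr, terms, List.map_map]
  rfl

/-- commuting root elements -/
theorem sh0 {r s : ℕ}
    (h : r < chevG2.nroots ∧ s < chevG2.nroots ∧ s ≠ r ∧ s ≠ chevG2.neg r ∧ chevG2.commTerms r s = [])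
    {b : K} {x : V} (t : K) (hb : x ∈ E C ρ ψ s b) : ρ (gx C r t) x ∈ E C ρ ψ s b :=
  shift_nil h.1 h.2.1 h.2.2.1 h.2.2.2.1 h.2.2.2.2 t hb

/-- a single correction term, on which the vector has character `a` -/
theorem sh1 {r s c i j : ℕ} {e : ℤ}
    (h : r < chevG2.nroots ∧ s < chevG2.nroots ∧ s ≠ r ∧ s ≠ chevG2.neg r ∧
      chevG2.commTerms r s = [(c, e, i, j)])
    {a b b' : K} {x : V} {t : K} (hb : x ∈ E C ρ ψ s b) (hc : x ∈ E C ρ ψ c a)
    (he : ∀ u : K, b * u + a * ((e : K) * (-t) ^ i * u ^ j) = b' * u) : ρ (gx C r t) x ∈ E C ρ ψ s b' :=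
  sh h (f := fun _ => a) hb (by simpa using hc) fun u => by simpa [corr] using he u

/-- a monomial element acts on root characters by its permutation -/
theorem weyl_act {g : ↥(chevG2.group K)} {l : List (Fin chevG2.rank)} (h : C.G.NPerm (g : GL chevG2.Idx K) (C.G.pw l))
    {r r' : ℕ} (hr : r < chevG2.nroots ∧ img l r = r') :
    ∃ ε : K, ε ≠ 0 ∧ ∀ (a : K) (x : V), x ∈ E C ρ ψ r a → ρ g x ∈ E C ρ ψ r' (ε * a) := by
  obtain ⟨hr, rfl⟩ := hr
  obtain ⟨c, hc⟩ := h ⟨r, hr⟩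
  have hv : (C.G.pw l ⟨r, hr⟩).val = img l r := pw_img l ⟨r, hr⟩
  refine ⟨(c : K)⁻¹, inv_ne_zero c.ne_zero, fun a x hx => conj_act hr (hv ▸ Fin.isLt _) c.ne_zero (fun t => ?_) hx⟩
  rw [hc]
  congr 1
  exact Fin.ext hv

/-- a Weyl group word as an element -/
noncomputable def nwG (l : List (Fin chevG2.rank)) : ↥(chevG2.group K) :=
  ⟨C.G.nw l, C.G.monomial_le_group (C.G.nw_mem_monomial l)⟩

theorem nwG_perm (l : List (Fin chevG2.rank)) : C.G.NPerm (nwG (K := K) l : GL chevG2.Idx K) (C.G.pw l) :=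
  C.G.nPerm_nw l

theorem nw_act (l : List (Fin chevG2.rank)) {r r' : ℕ} (hr : r < chevG2.nroots ∧ img l r = r') :
    ∃ ε : K, ε ≠ 0 ∧ ∀ (a : K) (x : V), x ∈ E C ρ ψ r a → ρ (nwG l) x ∈ E C ρ ψ r' (ε * a) :=
  weyl_act (nwG_perm l) hr

/-- `n_r(t)` as an element -/
noncomputable def nEG (r : ℕ) (t : K) : ↥(chevG2.group K) :=
  if h : r < chevG2.nroots then ⟨C.G.nE ⟨r, h⟩ t, C.G.nE_mem_group _ _⟩ else 1

theorem nE_perm : ∀ (l : List (Fin chevG2.rank)) (i : Fin chevG2.rank) (t : K), t ≠ 0 →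
    C.G.NPerm (C.G.nE (C.G.pw l (C.G.simp' i)) t) (C.G.pw (l ++ i :: l.reverse)) := by
  intro l
  induction l with
  | nil =>
    intro i t ht
    have h := Good.NPerm.mul C.G (C.G.nPerm_H (C.G.hd_mem_H (C.G.simp' i) (Units.mk0 t ht)))
      (C.G.nPerm_nU (K := K) i)
    rw [← C.G.nE_simp, one_mul] at h
    simpa [C.G.pw_single, C.G.pw_nil] using h
  | cons j l ih =>
    intro i t ht
    set s := C.G.pw l (C.G.simp' i)
    have e2 : (C.G.eta j s : K) * (C.G.eta j s : K) = 1 := by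
      rcases C.G.eta_unit j s with e | e <;> rw [e] <;> norm_num
    have h := Good.NPerm.mul C.G (Good.NPerm.mul C.G (C.G.nPerm_nU (K := K) j)
      (ih i ((C.G.eta j s : K) * t) (mul_ne_zero (left_ne_zero_of_mul_eq_one e2) ht)))
      (Good.NPerm.inv C.G (C.G.nPerm_nU (K := K) j))
    rw [C.G.nU_nE, mul_assoc _ (C.G.nU j), mul_inv_cancel, mul_one, ← mul_assoc, e2, one_mul,
      C.G.sP_inv] at h
    rw [C.G.pw_cons, Equiv.Perm.mul_apply, C.G.sP_apply]
    rw [List.reverse_cons, List.cons_append, C.G.pw_cons, C.G.pw_append, C.G.pw_cons, C.G.pw_append,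
      C.G.pw_single]
    rw [C.G.pw_append, C.G.pw_cons] at h
    simpa [mul_assoc] using h

theorem nEG_perm (l : List (Fin chevG2.rank)) (i : Fin chevG2.rank) {r : ℕ}
    (hr : r < chevG2.nroots ∧ img l (chevG2.simple i.val) = r) {t : K} (ht : t ≠ 0) :
    C.G.NPerm (nEG r t : GL chevG2.Idx K) (C.G.pw (l ++ i :: l.reverse)) := by
  have e : (⟨r, hr.1⟩ : Fin chevG2.nroots) = C.G.pw l (C.G.simp' i) :=
    Fin.ext (by rw [pw_img, C.G.simp_val]; exact hr.2.symm)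
  rw [nEG, dif_pos hr.1]
  show C.G.NPerm (C.G.nE ⟨r, hr.1⟩ t) _
  rw [e]
  exact nE_perm l i t ht

/-- the opposite root element through `n_r` -/
theorem gx_opp {r r' : ℕ} (h : r < chevG2.nroots ∧ chevG2.neg r = r' ∧ r' < chevG2.nroots) (t : K) :
    gx C r' t = gx C r t⁻¹ * nEG r (-t⁻¹) * gx C r t⁻¹ := by
  obtain ⟨h1, rfl, h2⟩ := h
  have e : (⟨chevG2.neg r, h2⟩ : Fin chevG2.nroots) = C.G.negr ⟨r, h1⟩ := Fin.ext (C.G.neg_val ⟨r, h1⟩)
  refine Subtype.ext ?_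
  rw [Subgroup.coe_mul, Subgroup.coe_mul, gx_coe C h1, gx_coe C h2, nEG, dif_pos h1, e]
  show _ = _ * C.G.nE ⟨r, h1⟩ (-t⁻¹) * _
  rw [Good.nE, show -(-t⁻¹)⁻¹ = t by rw [inv_neg, inv_inv, neg_neg],
    show C.G.xu ⟨r, h1⟩ (-t⁻¹) = (C.G.xu ⟨r, h1⟩ t⁻¹)⁻¹ from (C.G.xu_inv _ _).symm]
  group

/-- torus parameters with given values on the simple roots -/
def tpar (A B : Kˣ) : Fin chevG2.rank → Kˣ := fun j => if j = na then A * A * B else A * A * A * B * B

/-- the torus element with values `A`, `B` on the simple roots -/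
noncomputable def tor (A B : Kˣ) : ↥(chevG2.group K) :=
  ⟨C.G.torθ (tpar A B), C.G.diagonal_le_group (by rw [C.G.diagonal_eq_range]; exact ⟨_, rfl⟩)⟩

theorem tor_conj (A B : Kˣ) {r : ℕ} {i j : ℤ}
    (h : ∃ h : r < chevG2.nroots, cart chevG2 na ⟨r, h⟩ * 2 + cart chevG2 nb ⟨r, h⟩ * 3 = i ∧
      cart chevG2 na ⟨r, h⟩ + cart chevG2 nb ⟨r, h⟩ * 2 = j) (t : K) :
    tor A B * gx C r t = gx C r (((A ^ i * B ^ j : Kˣ) : K) * t) * tor A B := by
  obtain ⟨hr, rfl, rfl⟩ := h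
  apply Subtype.ext
  rw [Subgroup.coe_mul, Subgroup.coe_mul, gx_coe C hr, gx_coe C hr, ← mul_inv_eq_iff_eq_mul]
  show C.G.torθ (tpar A B) * _ * (C.G.torθ (tpar A B))⁻¹ = _
  rw [C.G.torθ_conj_xu]
  congr 3
  have hu : (Finset.univ : Finset (Fin chevG2.rank)) = {na, nb} := by decide +kernel
  have hne : na ≠ nb := by decide +kernel
  rw [hu, Finset.prod_insert (by simp [hne]), Finset.prod_singleton]
  simp only [tpar, if_true, if_neg hne.symm, mul_zpow]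
  rw [zpow_add, zpow_add, zpow_mul, zpow_mul, zpow_mul]
  simp only [zpow_ofNat, pow_succ, pow_zero, one_mul]
  apply Units.ext
  push_cast
  ring

theorem tor_act (A B : Kˣ) {r : ℕ} (i j : ℤ)
    (h : ∃ h : r < chevG2.nroots, cart chevG2 na ⟨r, h⟩ * 2 + cart chevG2 nb ⟨r, h⟩ * 3 = i ∧
      cart chevG2 na ⟨r, h⟩ + cart chevG2 nb ⟨r, h⟩ * 2 = j)
    {a : K} {x : V} (hx : x ∈ E C ρ ψ r a) :
    ρ (tor A B) x ∈ E C ρ ψ r ((((A ^ i * B ^ j : Kˣ) : K))⁻¹ * a) := by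
  refine mem_E.2 fun u => ?_
  have he : ((A ^ i * B ^ j : Kˣ) : K) ≠ 0 := Units.ne_zero _
  have h2 := tor_conj A B h ((((A ^ i * B ^ j : Kˣ) : K))⁻¹ * u)
  rw [mul_inv_cancel_left₀ he] at h2
  rw [← rho_mul, ← h2, rho_mul, mem_E.1 hx, map_smul, mul_assoc, mul_left_comm]

theorem tor_act_eq (A B : Kˣ) {r : ℕ} (i j : ℤ)
    (h : ∃ h : r < chevG2.nroots, cart chevG2 na ⟨r, h⟩ * 2 + cart chevG2 nb ⟨r, h⟩ * 3 = i ∧
      cart chevG2 na ⟨r, h⟩ + cart chevG2 nb ⟨r, h⟩ * 2 = j)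
    {a a' : K} {x : V} (hx : x ∈ E C ρ ψ r a) (he : (A : K) ^ i * (B : K) ^ j * a' = a) :
    ρ (tor A B) x ∈ E C ρ ψ r a' := by
  have hk := tor_act A B i j h hx
  have e : (((A ^ i * B ^ j : Kˣ) : K))⁻¹ * a = a' := by
    rw [← he, Units.val_mul, Units.val_zpow_eq_zpow_val, Units.val_zpow_eq_zpow_val,
      inv_mul_cancel_left₀ (mul_ne_zero (zpow_ne_zero _ A.ne_zero) (zpow_ne_zero _ B.ne_zero))]
  rwa [e] at hk

theorem tor_act_zero (A B : Kˣ) {r : ℕ} (hr : r < chevG2.nroots) {x : V} (hx : x ∈ E C ρ ψ r 0) :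
    ρ (tor A B) x ∈ E C ρ ψ r 0 := by
  have := tor_act A B (r := r) _ _ ⟨hr, rfl, rfl⟩ hx
  rwa [mul_zero] at this

/-- the twelve reduced words -/
def words : List (List (Fin chevG2.rank)) :=
  [[], [na], [nb], [na, nb], [nb, na], [na, nb, na], [nb, na, nb], [na, nb, na, nb], [nb, na, nb, na],
    [na, nb, na, nb, na], [nb, na, nb, na, nb], [na, nb, na, nb, na, nb]]

theorem exists_word {π : Equiv.Perm (Fin chevG2.nroots)} (h : π ∈ C.G.Wg) : ∃ l ∈ words, C.G.pw l = π := by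
  have step : ∀ i : Fin chevG2.rank, ∀ l ∈ words, ∃ l' ∈ words, ∀ r : Fin chevG2.nroots,
      img (i :: l) r.val = img l' r.val := by decide +kernel
  obtain ⟨l, rfl⟩ := C.G.exists_pw h
  clear h
  induction l with
  | nil => exact ⟨[], by simp [words], rfl⟩
  | cons i l ih =>
    obtain ⟨l', hl', e⟩ := ih
    obtain ⟨l'', hl'', e2⟩ := step i l' hl'
    refine ⟨l'', hl'', Equiv.ext fun r => Fin.ext ?_⟩
    rw [C.G.pw_cons, ← e, ← C.G.pw_cons, pw_img, pw_img, e2]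

theorem isSimple [Fintype K] (hK : 2 < Fintype.card K) : IsSimpleGroup ↥(chevG2.group K) := by
  classical
  obtain ⟨a, ha0, ha1⟩ : ∃ a : K, a ≠ 0 ∧ a ≠ 1 := by
    by_contra! h
    have : Fintype.card K ≤ ({0, 1} : Finset K).card := by
      rw [← Finset.card_univ]
      refine Finset.card_le_card fun x _ => ?_
      by_cases hx : x = 0
      · simp [hx]
      · simp [h x hx]
    have := this.trans (Finset.card_le_two)
    omega
  exact (C.isSimpleGroup connectedG2 (C.G.commutator_eq_top (inDerG2 C ⟨a, ha0, ha1⟩)) ⟨0, by decide +kernel⟩).1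

theorem card_group [Fintype K] :
    Nat.card ↥(chevG2.group K) = Fintype.card K ^ 6 * (Fintype.card K ^ 2 - 1) * (Fintype.card K ^ 6 - 1) :=
  Cfsg.Agent.S1059.result rfl

end CfsgLib.MinDeg.GTwo
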