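import Cfsg.Agent.Lib.MinDeg.G2Rel
import Cfsg.Agent.Lib.MinDeg.Tools

/-!
# G₂(q) in characteristic three: degree at least q⁴ + q² - 2
-/

set_option autoImplicit false
set_option maxRecDepth 100000
set_option maxHeartbeats 2000000
set_option linter.unusedSectionVars false

namespace CfsgLib.MinDeg.GTwo

open Cfsg.Lie CfsgLib.Lie.Chev CfsgLib.MinDeg.RootSpace
open scoped MatrixGroups

variable {K : Type*} [Field K] [Fintype K]
variable {V : Type*} [AddCommGroup V] [Module ℂ V] [FiniteDimensional ℂ V]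
variable {ρ : Representation ℂ ↥(chevG2.group K) V} {ψ : AddChar K ℂ}

local notation "Eg" => E C ρ ψ

theorem dvd_three_mul_sum (hq : ∃ n : ℕ, Fintype.card K = 3 ^ n) (φ : K →+ K) (t0 : K)
    (hker : ∀ t, φ t = 0 → t = 0 ∨ t = t0 ∨ t = -t0) (d : K → ℕ) (hd : ∀ β t, d (β + φ t) = d β) :
    Fintype.card K ∣ 3 * ∑ β, d β := by
  classical
  set H := φ.range
  have hsum : Nat.card H ∣ ∑ β, d β := by
    rw [← Finset.sum_fiberwise Finset.univ (fun β : K => (QuotientAddGroup.mk β : K ⧸ H)) d]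
    refine Finset.dvd_sum fun c _ => ?_
    obtain ⟨b, rfl⟩ := QuotientAddGroup.mk_surjective c
    have himg : (Finset.univ.filter fun β : K => (QuotientAddGroup.mk β : K ⧸ H) = QuotientAddGroup.mk b) =
        (Finset.univ : Finset ↥H).image (fun h : ↥H => b + (h : K)) := by
      ext β
      simp only [Finset.mem_filter, Finset.mem_univ, true_and, Finset.mem_image]
      constructor
      · intro e
        have := (QuotientAddGroup.eq.1 e.symm : -b + β ∈ H)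
        exact ⟨⟨-b + β, this⟩, by simp⟩
      · rintro ⟨h, rfl⟩
        exact (QuotientAddGroup.eq.2 (by simp)).symm
    rw [himg, Finset.sum_image (fun x _ y _ e => Subtype.ext (add_left_cancel e))]
    rw [Finset.sum_congr rfl fun (h : ↥H) _ => (show d (b + (h : K)) = d b by
      obtain ⟨t, ht⟩ := h.2
      rw [← ht, hd])]
    rw [Finset.sum_const, Finset.card_univ, smul_eq_mul, Nat.card_eq_fintype_card]
    exact dvd_mul_right _ _
  have hle : Nat.card φ.ker ≤ 3 := by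
    rw [Nat.card_eq_fintype_card, Fintype.card_subtype]
    refine le_trans (Finset.card_le_card (t := {0, t0, -t0}) fun t ht => ?_) (Finset.card_le_three)
    simp only [Finset.mem_filter, Finset.mem_univ, true_and, AddMonoidHom.mem_ker] at ht
    simp [hker t ht]
  have hmul : Nat.card φ.ker * Nat.card H = Fintype.card K := by
    rw [← Nat.card_eq_fintype_card, φ.ker.card_eq_card_quotient_mul_card_addSubgroup, mul_comm,
      Nat.card_congr (QuotientAddGroup.quotientKerEquivRange φ).toEquiv]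
  have h3 : Nat.card φ.ker ∣ 3 := by
    obtain ⟨n, hn⟩ := hq
    have hd3 : Nat.card φ.ker ∣ 3 ^ n := hn ▸ ⟨_, hmul.symm⟩
    obtain ⟨i, -, hi⟩ := (Nat.dvd_prime_pow Nat.prime_three).1 hd3
    rw [hi] at hle ⊢
    rcases i with _ | _ | i
    · simp
    · simp
    · have : 9 ≤ 3 ^ (i + 2) := le_trans (by norm_num) (Nat.pow_le_pow_right (show 0 < 3 by norm_num) (show 2 ≤ i + 2 by omega))
      omega
  rw [← hmul]
  exact mul_dvd_mul h3 hsum

theorem three_bound (hψ : ψ.IsPrimitive) (h3 : (3 : K) = 0) (hq : ∃ n : ℕ, Fintype.card K = 3 ^ n)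
    (h9 : 9 ≤ Fintype.card K) (hf : ∃ x, ρ (gx C 11 1) x ≠ x)
    (hk : Module.finrank ℂ V ≤ Fintype.card K ^ 4 + Fintype.card K ^ 2) :
    Fintype.card K ^ 4 + Fintype.card K ^ 2 - 2 ≤ Module.finrank ℂ V := by
  classical
  obtain ⟨r, hr⟩ : ∃ r, Fintype.card K = r + 1 := ⟨_, (Nat.succ_pred (by omega)).symm⟩
  have h2 : (2 : K) ≠ 0 := fun h => one_ne_zero (α := K) (by linear_combination h3 - h)
  have hcube : ∀ y : K, ∃ t : K, t ^ 3 = y := by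
    refine Finite.injective_iff_surjective.1 fun a b e => ?_
    have hab : (a - b) ^ 3 = 0 := by linear_combination e + (a * b ^ 2 - a ^ 2 * b) * h3
    exact sub_eq_zero.1 (eq_zero_of_pow_eq_zero hab)
  have hnt : ∀ e : K, (∀ t : K, ψ (e * t) = 1) → e = 0 := by
    intro e he
    by_contra hne
    refine hψ hne ?_
    ext t
    rw [AddChar.mulShift_apply, AddChar.one_apply, he]
  have z0 : ∀ {e : K} {s : ℕ} {x : V}, x ∈ Eg s (e * 0) → x ∈ Eg s 0 := fun {e s x} h => by rwa [mul_zero] at h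
  have hsub : ∀ {A B : Submodule ℂ V}, A ≤ B → Module.finrank ℂ ↥A ≤ Module.finrank ℂ ↥B :=
    fun h => Submodule.finrank_mono h
  -- the Weyl elements
  obtain ⟨e10, he10, n10⟩ := nw_act (ρ := ρ) (ψ := ψ) [nb] (r := 10) (r' := 11) (by decide +kernel)
  obtain ⟨e11, he11, n11⟩ := nw_act (ρ := ρ) (ψ := ψ) [nb] (r := 11) (r' := 10) (by decide +kernel)
  obtain ⟨e9, he9, n9⟩ := nw_act (ρ := ρ) (ψ := ψ) [nb] (r := 9) (r' := 9) (by decide +kernel)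
  obtain ⟨e8, he8, n8⟩ := nw_act (ρ := ρ) (ψ := ψ) [nb] (r := 8) (r' := 7) (by decide +kernel)
  obtain ⟨e7, he7, n7⟩ := nw_act (ρ := ρ) (ψ := ψ) [nb] (r := 7) (r' := 8) (by decide +kernel)
  obtain ⟨e5, he5, n5⟩ := nw_act (ρ := ρ) (ψ := ψ) [nb] (r := 5) (r' := 6) (by decide +kernel)
  obtain ⟨a6, ha6, m6⟩ := nw_act (ρ := ρ) (ψ := ψ) [na] (r := 6) (r' := 10) (by decide +kernel)
  obtain ⟨a10, ha10, m10⟩ := nw_act (ρ := ρ) (ψ := ψ) [na] (r := 10) (r' := 6) (by decide +kernel)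
  obtain ⟨a8, ha8, m8⟩ := nw_act (ρ := ρ) (ψ := ψ) [na] (r := 8) (r' := 9) (by decide +kernel)
  obtain ⟨a9, ha9, m9⟩ := nw_act (ρ := ρ) (ψ := ψ) [na] (r := 9) (r' := 8) (by decide +kernel)
  obtain ⟨a11, ha11, m11⟩ := nw_act (ρ := ρ) (ψ := ψ) [na] (r := 11) (r' := 11) (by decide +kernel)
  obtain ⟨a7, -, m7⟩ := nw_act (ρ := ρ) (ψ := ψ) [na] (r := 7) (r' := 4) (by decide +kernel)
  -- the nontrivial characters of the centre
  let P : K → K → Submodule ℂ V := fun l γ => Eg 11 l ⊓ Eg 10 γ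
  let D : K → K → K → Submodule ℂ V := fun l σ τ => Eg 11 l ⊓ Eg 8 σ ⊓ Eg 9 τ
  have hDd : ∀ l σ τ, l ≠ 0 → Module.finrank ℂ ↥(D l σ τ) =
      Fintype.card K * Module.finrank ℂ ↥(D l σ τ ⊓ Eg 10 0) := by
    intro l σ τ hl
    have ht : ∀ γ γ', Module.finrank ℂ ↥(D l σ τ ⊓ Eg 10 γ) ≤ Module.finrank ℂ ↥(D l σ τ ⊓ Eg 10 γ') := fun γ γ' =>
      le_finrank (gx C 6 ((γ - γ') * l⁻¹)) fun x hx =>
        ⟨⟨⟨sh0 (by decide +kernel) _ hx.1.1.1, sh0 (by decide +kernel) _ hx.1.1.2⟩,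
          sh0 (by decide +kernel) _ hx.1.2⟩,
          sh1 (c := 11) (e := 1) (i := 1) (j := 1) (by decide +kernel) hx.2 hx.1.1.1
            fun u => by push_cast; field_simp; ring⟩
    exact decomp_const hψ 10 (D l σ τ) (fun t x hx => ⟨⟨sh0 (by decide +kernel) _ hx.1.1,
      sh0 (by decide +kernel) _ hx.1.2⟩, sh0 (by decide +kernel) _ hx.2⟩) fun a => le_antisymm (ht _ _) (ht _ _)
  let d : K → K → K → ℕ := fun l σ τ => Module.finrank ℂ ↥(D l σ τ ⊓ Eg 10 0)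
  have hd7 : ∀ l σ σ' τ, τ ≠ 0 → d l σ τ ≤ d l σ' τ := fun l σ σ' τ hτ =>
    le_finrank (gx C 7 ((σ' - σ) * (2 * τ)⁻¹)) fun x hx => by
      refine ⟨⟨⟨sh0 (by decide +kernel) _ hx.1.1.1, ?_⟩, ?_⟩, sh0 (by decide +kernel) _ hx.2⟩
      · refine sh (L := [(9, -2, 1, 1), (10, -3, 2, 1), (11, 3, 1, 2)]) (by decide +kernel)
          (f := fun c => if c = 9 then τ else if c = 10 then 0 else l) hx.1.1.2 ?_ fun u => ?_
        · simp only [List.forall_mem_cons, List.not_mem_nil, IsEmpty.forall_iff, implies_true, and_true]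
          exact ⟨hx.1.2, hx.2, hx.1.1.1⟩
        · simp [corr, h3]
          field_simp
          ring
      · exact sh1 (c := 10) (e := 3) (i := 1) (j := 1) (by decide +kernel) hx.1.2 hx.2 fun u => by simp
  have hdT : ∀ (A B : Kˣ) (l l' σ σ' τ τ' : K), (A : K) ^ 3 * (B : K) ^ 2 * l' = l → (A : K) * B * σ' = σ →
      (A : K) ^ 2 * B * τ' = τ → d l σ τ ≤ d l' σ' τ' := fun A B l l' σ σ' τ τ' h1 h2 h3' =>
    le_finrank (tor A B) fun x hx =>
      ⟨⟨⟨tor_act_eq A B 3 2 (by decide +kernel) hx.1.1.1 (by rw [zpow_ofNat, zpow_ofNat]; exact h1),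
        tor_act_eq A B 1 1 (by decide +kernel) hx.1.1.2 (by rw [zpow_one, zpow_one]; exact h2)⟩,
        tor_act_eq A B 2 1 (by decide +kernel) hx.1.2 (by rw [zpow_ofNat, zpow_one]; exact h3')⟩,
        tor_act_zero A B (by decide +kernel) hx.2⟩
  have hdτ : ∀ l l' τ τ', l ≠ 0 → l' ≠ 0 → τ ≠ 0 → τ' ≠ 0 → d l 0 τ ≤ d l' 0 τ' := by
    intro l l' τ τ' hl hl' hτ hτ'
    set a := Units.mk0 (τ * τ'⁻¹) (mul_ne_zero hτ (inv_ne_zero hτ'))
    set b := Units.mk0 (l * l'⁻¹) (mul_ne_zero hl (inv_ne_zero hl'))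
    refine hdT (a ^ 2 * b⁻¹) (b ^ 2 * (a ^ 3)⁻¹) l l' 0 0 τ τ' ?_ (mul_zero _) ?_ <;>
      simp only [a, b, Units.val_mul, Units.val_pow_eq_pow_val, Units.val_inv_eq_inv_val, Units.val_mk0] <;>
      field_simp
  have hd0 : ∀ l l', l ≠ 0 → l' ≠ 0 → d l 0 0 ≤ d l' 0 0 := by
    intro l l' hl hl'
    set b := Units.mk0 (l * l'⁻¹) (mul_ne_zero hl (inv_ne_zero hl'))
    refine hdT b⁻¹ (b ^ 2) l l' 0 0 0 0 ?_ (mul_zero _) (mul_zero _)
    simp only [b, Units.val_pow_eq_pow_val, Units.val_inv_eq_inv_val, Units.val_mk0]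
    field_simp
  have hD7 : ∀ l σ τ, τ ≠ 0 → l ≠ 0 → Module.finrank ℂ ↥(D l σ τ) = Fintype.card K * d 1 0 1 := fun l σ τ hτ hl => by
    rw [hDd l σ τ hl]
    congr 1
    exact (le_antisymm (hd7 l σ 0 τ hτ) (hd7 l 0 σ τ hτ)).trans
      (le_antisymm (hdτ l 1 τ 1 hl one_ne_zero hτ one_ne_zero) (hdτ 1 l 1 τ one_ne_zero hl one_ne_zero hτ))
  have hDn : ∀ l σ τ, Module.finrank ℂ ↥(D l σ τ) ≤ Module.finrank ℂ ↥(D (a11 * l) (a9 * τ) (a8 * σ)) :=
    fun l σ τ => le_finrank (ρ := ρ) (nwG (K := K) [na]) fun x hx =>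
      ⟨⟨m11 _ _ hx.1.1, m9 _ _ hx.2⟩, m8 _ _ hx.1.2⟩
  have hDall : ∀ l σ τ, l ≠ 0 → σ ≠ 0 ∨ τ ≠ 0 → Module.finrank ℂ ↥(D l σ τ) = Fintype.card K * d 1 0 1 := by
    intro l σ τ hl hw
    rcases eq_or_ne τ 0 with rfl | hτ
    · have hσ : σ ≠ 0 := by tauto
      refine le_antisymm ?_ ?_
      · refine (hDn l σ 0).trans ?_
        rw [mul_zero, hD7 _ _ _ (mul_ne_zero ha8 hσ) (mul_ne_zero ha11 hl)]
      · have h := hDn (a11⁻¹ * l) 0 (a9⁻¹ * σ)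
        rw [hD7 _ _ _ (mul_ne_zero (inv_ne_zero ha9) hσ) (mul_ne_zero (inv_ne_zero ha11) hl), mul_zero,
          mul_inv_cancel_left₀ ha11, mul_inv_cancel_left₀ ha9] at h
        exact h
    · exact hD7 l σ τ hτ hl
  have hdall : ∀ l σ τ, l ≠ 0 → σ ≠ 0 ∨ τ ≠ 0 → d l σ τ = d 1 0 1 := fun l σ τ hl hw =>
    Nat.eq_of_mul_eq_mul_left (by omega : 0 < Fintype.card K) ((hDd l σ τ hl).symm.trans (hDall l σ τ hl hw))
  set m1 := d 1 0 1
  set m0 := d 1 0 0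
  -- decompositions of `P l 0`
  have hi98 : ∀ {l σ : K}, ∀ t, ∀ x ∈ P l 0 ⊓ Eg 8 σ, ρ (gx C 9 t) x ∈ P l 0 ⊓ Eg 8 σ := fun {l σ} t x hx =>
    ⟨⟨sh0 (by decide +kernel) _ hx.1.1, sh0 (by decide +kernel) _ hx.1.2⟩,
      sh1 (c := 11) (e := -3) (i := 1) (j := 1) (by decide +kernel) hx.2 hx.1.1 fun u => by simp [h3]⟩
  have hdeq : ∀ l σ τ, Module.finrank ℂ ↥(P l 0 ⊓ Eg 8 σ ⊓ Eg 9 τ) = d l σ τ := fun l σ τ => by
    refine congrArg (fun W : Submodule ℂ V => Module.finrank ℂ ↥W) ?_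
    show Eg 11 l ⊓ Eg 10 0 ⊓ Eg 8 σ ⊓ Eg 9 τ = Eg 11 l ⊓ Eg 8 σ ⊓ Eg 9 τ ⊓ Eg 10 0
    ac_rfl
  have hPM : ∀ l, l ≠ 0 → Module.finrank ℂ ↥(P l 0) = m0 + r * m1 + r * ((r + 1) * m1) := fun l hl => by
    rw [decomp_split (C := C) (ρ := ρ) hψ 8 (P l 0)
      (fun t x hx => ⟨sh0 (by decide +kernel) _ hx.1, sh0 (by decide +kernel) _ hx.2⟩)
      (c := (r + 1) * m1) fun σ hσ => by
        rw [decomp_const (C := C) (ρ := ρ) hψ 9 _ hi98 fun τ => (hdeq l σ τ).trans (hdall l σ τ hl (Or.inl hσ)), hr],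
      decomp_split (C := C) (ρ := ρ) hψ 9 _ hi98 (c := m1)
        fun τ hτ => (hdeq l 0 τ).trans (hdall l 0 τ hl (Or.inr hτ)), hr, Nat.add_sub_cancel, hdeq,
      le_antisymm (hd0 l 1 hl one_ne_zero) (hd0 1 l one_ne_zero hl)]
  set M1 := m0 + r * m1 + r * ((r + 1) * m1)
  have hPall : ∀ l γ, l ≠ 0 → Module.finrank ℂ ↥(P l γ) = M1 := fun l γ hl => by
    rw [← hPM l hl]
    have ht : ∀ γ γ', Module.finrank ℂ ↥(P l γ) ≤ Module.finrank ℂ ↥(P l γ') := fun γ γ' =>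
      le_finrank (gx C 6 ((γ - γ') * l⁻¹)) fun x hx =>
        ⟨sh0 (by decide +kernel) _ hx.1, sh1 (c := 11) (e := 1) (i := 1) (j := 1) (by decide +kernel) hx.2 hx.1
          fun u => by push_cast; field_simp; ring⟩
    exact le_antisymm (ht _ _) (ht _ _)
  have hEl : ∀ l, l ≠ 0 → Module.finrank ℂ ↥(Eg 11 l) = (r + 1) * M1 := fun l hl => by
    rw [decomp_const (C := C) (ρ := ρ) hψ 10 (Eg 11 l) (fun t x hx => sh0 (by decide +kernel) _ hx)
      fun a => hPall l a hl, hr]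
  have hV : Module.finrank ℂ V = Module.finrank ℂ ↥(Eg 11 0) + r * ((r + 1) * M1) := by
    have := decomp_split (C := C) (ρ := ρ) hψ 11 (⊤ : Submodule ℂ V) (fun _ _ _ => Submodule.mem_top)
      (c := (r + 1) * M1) fun a ha => by rw [top_inf_eq]; exact hEl a ha
    rw [top_inf_eq, finrank_top] at this
    rw [this, hr, Nat.add_sub_cancel]
  have hMpos : 0 < M1 := by
    rcases Nat.eq_zero_or_pos M1 with h0 | h0
    · exfalso
      obtain ⟨x, hx⟩ := hf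
      have htop : Eg 11 0 = ⊤ := Submodule.eq_top_of_finrank_eq (by rw [hV, h0]; simp)
      exact hx (mem_E_zero.1 (htop.symm ▸ Submodule.mem_top) 1)
    · exact h0
  -- short root characters do occur
  have hm1 : m1 ≠ 0 := by
    intro h0
    have hM0 : M1 = m0 := by simp [M1, h0]
    have hfix : ∀ l, l ≠ 0 → Eg 11 l ≤ Eg 8 0 ⊓ Eg 9 0 := fun l hl => by
      have h1 : Module.finrank ℂ ↥(D l 0 0) = Module.finrank ℂ ↥(Eg 11 l) := by
        rw [hEl l hl, hM0, hDd l 0 0 hl, hr]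
        congr 1
        exact le_antisymm (hd0 l 1 hl one_ne_zero) (hd0 1 l one_ne_zero hl)
      have h2 := Submodule.eq_of_le_of_finrank_le (inf_le_left.trans inf_le_left : D l 0 0 ≤ Eg 11 l) h1.ge
      exact h2 ▸ le_inf (inf_le_left.trans inf_le_right) inf_le_right
    have hpre : ∀ {l γ : K}, l ≠ 0 → γ ≠ 0 → ∀ x ∈ P l γ, x ∈ Eg 7 0 := by
      intro l γ hl hγ x hx
      have hg : C.G.NPerm (((nwG (K := K) [nb])⁻¹ : ↥(chevG2.group K)) : GL chevG2.Idx K) (C.G.pw [nb]) := by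
        have h := Good.NPerm.inv C.G (nwG_perm (K := K) [nb])
        rwa [← C.G.pw_reverse] at h
      obtain ⟨b10, hb10, hh⟩ := weyl_act (ρ := ρ) (ψ := ψ) hg (r := 10) (r' := 11) (by decide +kernel)
      have hy := (hfix _ (mul_ne_zero hb10 hγ) (hh _ _ hx.2)).1
      have h := z0 (n8 _ _ hy)
      rwa [rho_self_inv] at h
    obtain ⟨x0, hx0, hx00⟩ := ne_bot_of_pos (W := P 1 1) (by rw [hPall 1 1 one_ne_zero]; exact hMpos)
    set x := ρ (nwG (K := K) [na]) x0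
    have hx6 : x ∈ Eg 6 a10 := by simpa using m10 _ _ hx0.2
    have hx11 : x ∈ Eg 11 a11 := by simpa using m11 _ _ hx0.1
    have hx4 : x ∈ Eg 4 0 := z0 (m7 _ _ (hpre one_ne_zero one_ne_zero x0 hx0))
    have hx89 := hfix _ ha11 hx11
    obtain ⟨u, hu⟩ : ∃ u : K, u ∉ ({0, a10 * a11⁻¹, -(a10 * a11⁻¹)} : Finset K) := by
      by_contra! hall
      have := Finset.card_le_card (s := (Finset.univ : Finset K)) (fun u _ => hall u)
      rw [Finset.card_univ] at this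
      have := this.trans Finset.card_le_three
      omega
    simp only [Finset.mem_insert, Finset.mem_singleton, not_or] at hu
    obtain ⟨hu0, hu1, hu2⟩ := hu
    have hy6 : ρ (gx C 10 u) x ∈ Eg 6 (a10 + a11 * u) :=
      sh1 (c := 11) (e := -1) (i := 1) (j := 1) (by decide +kernel) hx6 hx11 fun v => by push_cast; ring
    have hne : a10 + a11 * u ≠ 0 := fun e => hu2 (by field_simp; linear_combination e)
    have hy11 : ρ (gx C 10 u) x ∈ Eg 11 a11 := sh0 (by decide +kernel) _ hx11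
    have hy4 : ρ (gx C 10 u) x ∈ Eg 4 0 := by
      have hg : C.G.NPerm (((nwG (K := K) [na])⁻¹ : ↥(chevG2.group K)) : GL chevG2.Idx K) (C.G.pw [na]) := by
        have h := Good.NPerm.inv C.G (nwG_perm (K := K) [na])
        rwa [← C.G.pw_reverse] at h
      obtain ⟨c6, hc6, h6⟩ := weyl_act (ρ := ρ) (ψ := ψ) hg (r := 6) (r' := 10) (by decide +kernel)
      obtain ⟨c11, hc11, h11⟩ := weyl_act (ρ := ρ) (ψ := ψ) hg (r := 11) (r' := 11) (by decide +kernel)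
      have h := z0 (m7 _ _ (hpre (mul_ne_zero hc11 ha11) (mul_ne_zero hc6 hne) _ ⟨h11 _ _ hy11, h6 _ _ hy6⟩))
      rwa [rho_self_inv] at h
    have hkey : ∀ t : K, ψ ((a11 * u ^ 2 - a10 * u) * t ^ 3) = 1 := fun t => by
      have h := congrArg (fun g => ρ g x) (gx_comm C (r := 4) (s := 10) (by decide +kernel) (by decide +kernel)
        (by decide +kernel) (by decide +kernel) t u)
      simp only [rho_mul] at h
      rw [mem_E_zero.1 hx4, prod_act (ψ := ψ) (f := fun c => if c = 6 then a10 else if c = 11 then a11 else 0)] at h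
      · rw [map_smul, map_smul, mem_E_zero.1 hy4] at h
        have hne0 : ρ (gx C 10 u) x ≠ 0 := fun e => hx00 (rho_inj _ ((rho_inj (gx C 10 u)
          (e.trans (map_zero _).symm)).trans (map_zero _).symm))
        refine smul_left_injective ℂ hne0 ?_
        show ψ _ • ρ (gx C 10 u) x = (1 : ℂ) • ρ (gx C 10 u) x
        rw [one_smul]
        refine Eq.trans ?_ h.symm
        congr 2
        rw [terms, show chevG2.commTerms 4 10 = [(9, 1, 1, 1), (8, -1, 2, 1), (6, 1, 3, 1), (11, -1, 3, 2)] by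
          decide +kernel]
        simp
        ring
      · intro p hp
        rw [terms, show chevG2.commTerms 4 10 = [(9, 1, 1, 1), (8, -1, 2, 1), (6, 1, 3, 1), (11, -1, 3, 2)] by
          decide +kernel] at hp
        simp only [List.map_cons, List.map_nil, List.mem_cons, List.not_mem_nil, or_false] at hp
        rcases hp with rfl | rfl | rfl | rfl
        exacts [hx89.2, hx89.1, hx6, hx11]
    have := hnt _ fun y => by
      obtain ⟨t, rfl⟩ := hcube y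
      exact hkey t
    have hz : u * (a11 * u - a10) = 0 := by linear_combination this
    rcases mul_eq_zero.1 hz with h | h
    · exact hu0 h
    · exact hu1 (by field_simp; linear_combination h)
  -- the characters fixed by the centre
  have hW10 : ∀ γ, γ ≠ 0 → Module.finrank ℂ ↥(Eg 11 0 ⊓ Eg 10 γ) = M1 := fun γ hγ => by
    refine le_antisymm ?_ ?_
    · rw [← hPall (e10 * γ) 0 (mul_ne_zero he10 hγ)]
      exact le_finrank (ρ := ρ) (nwG (K := K) [nb]) fun x hx => ⟨n10 _ _ hx.2, z0 (n11 _ _ hx.1)⟩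
    · rw [← hPall (γ * e11⁻¹) 0 (mul_ne_zero hγ (inv_ne_zero he11))]
      refine le_finrank (ρ := ρ) (nwG (K := K) [nb]) fun x hx => ⟨z0 (n10 _ _ hx.2), ?_⟩
      have := n11 _ _ hx.1
      rwa [mul_comm e11, inv_mul_cancel_right₀ he11] at this
  have hW : Module.finrank ℂ ↥(Eg 11 0) = Module.finrank ℂ ↥(Eg 11 0 ⊓ Eg 10 0) + r * M1 := by
    rw [decomp_split (C := C) (ρ := ρ) hψ 10 (Eg 11 0) (fun t x hx => sh0 (by decide +kernel) _ hx) hW10, hr,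
      Nat.add_sub_cancel]
  rw [hW] at hV
  set N := Module.finrank ℂ ↥(Eg 11 0 ⊓ Eg 10 0)
  have hk' : ((r + 1) * r + r) * M1 + N ≤ (r + 1) ^ 4 + (r + 1) ^ 2 := by
    rw [hV, hr] at hk; linarith
  have hr8 : 8 ≤ r := by omega
  have hm11 : m1 = 1 := by
    by_contra hne
    have h2m : 2 ≤ m1 := by omega
    have hA : 2 * ((r + 1) * r + r) ≤ M1 :=
      calc 2 * ((r + 1) * r + r) ≤ m1 * ((r + 1) * r + r) := Nat.mul_le_mul_right _ h2m
        _ ≤ M1 := by simp only [M1]; nlinarith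
    have hB := Nat.mul_le_mul_left ((r + 1) * r + r) hA
    rw [show (r + 1) ^ 4 + (r + 1) ^ 2 =
      ((r + 1) * r + r + 1) * ((r + 1) * r + r + 1) + ((r + 1) * r + r + 1) by ring] at hk'
    generalize ha : (r + 1) * r + r = a at hA hB hk'
    have h4a : 4 ≤ a := by rw [← ha]; omega
    have := Nat.mul_le_mul_right a h4a
    linarith
  have hM1 : M1 = m0 + (r + 1) * r + r := by simp only [M1, hm11]; ring
  have hm0 : m0 ≤ 3 := by
    by_contra hne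
    have hA : (r + 1) * r + r + 4 ≤ M1 := by omega
    have hB := Nat.mul_le_mul_left ((r + 1) * r + r) hA
    rw [show (r + 1) ^ 4 + (r + 1) ^ 2 =
      ((r + 1) * r + r + 1) * ((r + 1) * r + r + 1) + ((r + 1) * r + r + 1) by ring] at hk'
    generalize ha : (r + 1) * r + r = a at hA hB hk'
    have h4a : 4 ≤ a := by rw [← ha]; omega
    linarith
  -- shifting along `7` on the vectors fixed by the centre
  have h78 : ∀ {γ σ σ' τ : K}, τ ≠ 0 → Module.finrank ℂ ↥(Eg 11 0 ⊓ Eg 10 γ ⊓ Eg 9 τ ⊓ Eg 8 σ) ≤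
      Module.finrank ℂ ↥(Eg 11 0 ⊓ Eg 10 γ ⊓ Eg 9 τ ⊓ Eg 8 σ') := fun {γ σ σ' τ} hτ =>
    le_finrank (gx C 7 ((σ' - σ) * (2 * τ)⁻¹)) fun x hx => by
      refine ⟨⟨⟨sh0 (by decide +kernel) _ hx.1.1.1, sh0 (by decide +kernel) _ hx.1.1.2⟩, ?_⟩, ?_⟩
      · exact sh1 (c := 10) (e := 3) (i := 1) (j := 1) (by decide +kernel) hx.1.2 hx.1.1.2 fun u => by simp [h3]
      · refine sh (L := [(9, -2, 1, 1), (10, -3, 2, 1), (11, 3, 1, 2)]) (by decide +kernel)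
          (f := fun c => if c = 9 then τ else if c = 10 then γ else 0) hx.2 ?_ fun u => ?_
        · simp only [List.forall_mem_cons, List.not_mem_nil, IsEmpty.forall_iff, implies_true, and_true]
          exact ⟨hx.1.2, hx.1.1.2, hx.1.1.1⟩
        · simp [corr, h3]
          field_simp
          ring
  have hi89 : ∀ {γ τ : K}, ∀ t, ∀ x ∈ Eg 11 0 ⊓ Eg 10 γ ⊓ Eg 9 τ, ρ (gx C 8 t) x ∈ Eg 11 0 ⊓ Eg 10 γ ⊓ Eg 9 τ :=
    fun {γ τ} t x hx => ⟨⟨sh0 (by decide +kernel) _ hx.1.1, sh0 (by decide +kernel) _ hx.1.2⟩,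
      sh1 (c := 11) (e := 3) (i := 1) (j := 1) (by decide +kernel) hx.2 hx.1.1 fun u => by simp⟩
  have hi910 : ∀ {γ : K}, ∀ t, ∀ x ∈ Eg 11 0 ⊓ Eg 10 γ, ρ (gx C 9 t) x ∈ Eg 11 0 ⊓ Eg 10 γ :=
    fun {γ} t x hx => ⟨sh0 (by decide +kernel) _ hx.1, sh0 (by decide +kernel) _ hx.2⟩
  let T : K → K → Submodule ℂ V := fun γ σ => Eg 11 0 ⊓ Eg 10 γ ⊓ Eg 9 0 ⊓ Eg 8 σ
  have hi6 : ∀ {γ σ : K}, ∀ t, ∀ x ∈ T γ σ, ρ (gx C 6 t) x ∈ T γ σ := fun {γ σ} t x hx =>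
    ⟨⟨⟨sh0 (by decide +kernel) _ hx.1.1.1,
      sh1 (c := 11) (e := 1) (i := 1) (j := 1) (by decide +kernel) hx.1.1.2 hx.1.1.1 fun u => by simp⟩,
      sh0 (by decide +kernel) _ hx.1.2⟩, sh0 (by decide +kernel) _ hx.2⟩
  have h76 : ∀ γ σ β t, Module.finrank ℂ ↥(T γ σ ⊓ Eg 6 β) ≤
      Module.finrank ℂ ↥(T γ σ ⊓ Eg 6 (β + (σ * t - t ^ 3 * γ))) := fun γ σ β t =>
    le_finrank (gx C 7 t) fun x hx => by
      refine ⟨⟨⟨⟨sh0 (by decide +kernel) _ hx.1.1.1.1, sh0 (by decide +kernel) _ hx.1.1.1.2⟩, ?_⟩, ?_⟩, ?_⟩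
      · exact sh1 (c := 10) (e := 3) (i := 1) (j := 1) (by decide +kernel) hx.1.1.2 hx.1.1.1.2 fun u => by simp [h3]
      · refine sh (L := [(9, -2, 1, 1), (10, -3, 2, 1), (11, 3, 1, 2)]) (by decide +kernel)
          (f := fun c => if c = 10 then γ else 0) hx.1.2 ?_ fun u => by simp [corr, h3]
        simp only [List.forall_mem_cons, List.not_mem_nil, IsEmpty.forall_iff, implies_true, and_true]
        exact ⟨hx.1.1.2, hx.1.1.1.2, hx.1.1.1.1⟩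
      · refine sh (L := [(8, -1, 1, 1), (9, 1, 2, 1), (10, 1, 3, 1), (11, 1, 3, 2)]) (by decide +kernel)
          (f := fun c => if c = 8 then σ else if c = 10 then γ else 0) hx.2 ?_ fun u => ?_
        · simp only [List.forall_mem_cons, List.not_mem_nil, IsEmpty.forall_iff, implies_true, and_true]
          exact ⟨hx.1.2, hx.1.1.2, hx.1.1.1.2, hx.1.1.1.1⟩
        · simp [corr]
          ring
  have hTdvd : ∀ γ σ, γ ≠ 0 → Fintype.card K ∣ 3 * Module.finrank ℂ ↥(T γ σ) := by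
    intro γ σ hγ
    rw [finrank_decomp (C := C) (ρ := ρ) hψ 6 (T γ σ) hi6]
    let φ : K →+ K :=
      { toFun := fun t => σ * t - t ^ 3 * γ
        map_zero' := by simp
        map_add' := fun a b => by linear_combination (-(γ * (a ^ 2 * b + a * b ^ 2))) * h3 }
    obtain ⟨t0, ht0⟩ : ∃ t0 : K, ∀ t, φ t = 0 → t = 0 ∨ t = t0 ∨ t = -t0 := by
      by_cases h : ∃ t, t ≠ 0 ∧ φ t = 0
      · obtain ⟨t0, h00, h0⟩ := h
        refine ⟨t0, fun t ht => ?_⟩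
        by_contra hne
        simp only [not_or] at hne
        have e1 : σ - t ^ 2 * γ = 0 := mul_left_cancel₀ hne.1
          (show t * (σ - t ^ 2 * γ) = t * 0 by
            have : σ * t - t ^ 3 * γ = 0 := ht
            linear_combination this)
        have e2 : σ - t0 ^ 2 * γ = 0 := mul_left_cancel₀ h00
          (show t0 * (σ - t0 ^ 2 * γ) = t0 * 0 by
            have : σ * t0 - t0 ^ 3 * γ = 0 := h0
            linear_combination this)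
        have e3 : t ^ 2 = t0 ^ 2 := mul_right_cancel₀ hγ (by linear_combination e2 - e1)
        rcases sq_eq_sq_iff_eq_or_eq_neg.1 e3 with e | e
        exacts [hne.2.1 e, hne.2.2 e]
      · exact ⟨0, fun t ht => Or.inl (by_contra fun hne => h ⟨t, hne, ht⟩)⟩
    refine dvd_three_mul_sum hq φ t0 ht0 _ fun β t => ?_
    refine le_antisymm ?_ (h76 γ σ β t)
    have h := h76 γ σ (β + φ t) (-t)
    rwa [show β + φ t + (σ * -t - (-t) ^ 3 * γ) = β by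
      show β + (σ * t - t ^ 3 * γ) + _ = β
      ring] at h
  have hqM : Fintype.card K ∣ 3 * M1 := by
    rw [← hW10 1 one_ne_zero, finrank_decomp (C := C) (ρ := ρ) hψ 9 _ hi910, Finset.mul_sum]
    refine Finset.dvd_sum fun τ _ => ?_
    rcases eq_or_ne τ 0 with rfl | hτ
    · rw [finrank_decomp (C := C) (ρ := ρ) hψ 8 _ hi89, Finset.mul_sum]
      exact Finset.dvd_sum fun σ _ => hTdvd 1 σ one_ne_zero
    · rw [decomp_const (C := C) (ρ := ρ) hψ 8 _ hi89 (c := Module.finrank ℂ ↥(Eg 11 0 ⊓ Eg 10 1 ⊓ Eg 9 τ ⊓ Eg 8 0))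
        fun σ => le_antisymm (h78 hτ) (h78 hτ), mul_left_comm]
      exact dvd_mul_right _ _
  have hm01 : m0 = 1 := by
    rw [hr, hM1] at hqM
    obtain ⟨c, hc⟩ := hqM
    have hcz : (3 * (m0 : ℤ) - 3) = ((r : ℤ) + 1) * ((c : ℤ) - 3 * r - 3) := by
      have : (3 * ((m0 : ℤ) + ((r : ℤ) + 1) * r + r)) = ((r : ℤ) + 1) * c := by exact_mod_cast hc
      linear_combination this
    have hd : ((r : ℤ) + 1) ∣ 3 * (m0 : ℤ) - 3 := ⟨_, hcz⟩
    have : 3 * (m0 : ℤ) - 3 = 0 :=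
      Int.eq_zero_of_abs_lt_dvd hd (abs_lt.2 ⟨by omega, by omega⟩)
    omega
  rw [hm01] at hM1
  -- the characters with `9` trivial
  have hQ0 : ∀ γ, γ ≠ 0 → Module.finrank ℂ ↥(Eg 11 0 ⊓ Eg 10 γ ⊓ Eg 9 0) = r + 1 := by
    intro γ hγ
    have hP9 : ∀ l, l ≠ 0 → Module.finrank ℂ ↥(P l 0 ⊓ Eg 9 0) = r + 1 := fun l hl => by
      rw [decomp_split (C := C) (ρ := ρ) hψ 8 _ (fun t x hx => ?_) (c := 1) fun σ hσ => ?_, hr, Nat.add_sub_cancel,
        inf_right_comm, hdeq, le_antisymm (hd0 l 1 hl one_ne_zero) (hd0 1 l one_ne_zero hl)]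
      · show m0 + r * 1 = r + 1
        omega
      · exact ⟨⟨sh0 (by decide +kernel) _ hx.1.1, sh0 (by decide +kernel) _ hx.1.2⟩,
          sh1 (c := 11) (e := 3) (i := 1) (j := 1) (by decide +kernel) hx.2 hx.1.1 fun u => by simp [h3]⟩
      · rw [inf_right_comm, hdeq, hdall l σ 0 hl (Or.inl hσ)]
        exact hm11
    refine le_antisymm ?_ ?_
    · rw [← hP9 (e10 * γ) (mul_ne_zero he10 hγ)]
      exact le_finrank (ρ := ρ) (nwG (K := K) [nb]) fun x hx =>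
        ⟨⟨n10 _ _ hx.1.2, z0 (n11 _ _ hx.1.1)⟩, z0 (n9 _ _ hx.2)⟩
    · rw [← hP9 (γ * e11⁻¹) (mul_ne_zero hγ (inv_ne_zero he11))]
      refine le_finrank (ρ := ρ) (nwG (K := K) [nb]) fun x hx => ⟨⟨z0 (n10 _ _ hx.1.2), ?_⟩, z0 (n9 _ _ hx.2)⟩
      have := n11 _ _ hx.1.1
      rwa [mul_comm e11, inv_mul_cancel_right₀ he11] at this
  have hT0 : ∀ γ σ, γ ≠ 0 → σ ≠ 0 → Module.finrank ℂ ↥(T γ σ) = 0 := by
    intro γ σ hγ hσ
    by_contra hne
    have htor : ∀ A : Kˣ, Module.finrank ℂ ↥(T γ σ) ≤ Module.finrank ℂ ↥(T γ (σ * (A : K) ^ 2)) := fun A =>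
      le_finrank (tor A (A ^ 3)⁻¹) fun x hx =>
        ⟨⟨⟨tor_act_zero _ _ (by decide +kernel) hx.1.1.1,
          tor_act_eq _ _ 3 1 (by decide +kernel) hx.1.1.2 (by
            rw [zpow_ofNat, zpow_one, Units.val_inv_eq_inv_val, Units.val_pow_eq_pow_val,
              mul_inv_cancel₀ (pow_ne_zero 3 A.ne_zero), one_mul])⟩,
          tor_act_zero _ _ (by decide +kernel) hx.1.2⟩,
          tor_act_eq _ _ 1 1 (by decide +kernel) hx.2 (by
            rw [zpow_one, zpow_one, Units.val_inv_eq_inv_val, Units.val_pow_eq_pow_val]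
            field_simp)⟩
    set S := (Finset.univ : Finset Kˣ).image fun A : Kˣ => σ * (A : K) ^ 2
    have hcard : r ≤ 2 * S.card := by
      have h := Finset.card_le_mul_card_image (f := fun A : Kˣ => σ * (A : K) ^ 2) (Finset.univ : Finset Kˣ) 2
        fun b hb => by
          obtain ⟨A, -, rfl⟩ := Finset.mem_image.1 hb
          refine le_trans (Finset.card_le_card (t := {A, -A}) fun B hB => ?_) Finset.card_le_two
          simp only [Finset.mem_filter, Finset.mem_univ, true_and] at hB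
          have e := mul_left_cancel₀ hσ hB
          rcases sq_eq_sq_iff_eq_or_eq_neg.1 e with e | e
          · simp [Units.ext e]
          · simp [show B = -A from Units.ext (by simpa using e)]
      rw [Finset.card_univ, Fintype.card_units, hr, Nat.add_sub_cancel] at h
      exact h
    have hsum : S.card * (r + 1) ≤ 3 * (r + 1) := by
      rw [← smul_eq_mul]
      refine le_trans (Finset.card_nsmul_le_sum S (fun s => 3 * Module.finrank ℂ ↥(T γ s)) _ fun s hs => ?_) ?_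
      · obtain ⟨A, -, rfl⟩ := Finset.mem_image.1 hs
        rw [← hr]
        exact Nat.le_of_dvd (by have := htor A; omega) (hTdvd γ _ hγ)
      · rw [← Finset.mul_sum, ← hQ0 γ hγ, finrank_decomp (C := C) (ρ := ρ) hψ 8 _ hi89]
        exact Nat.mul_le_mul_left 3 (Finset.sum_le_sum_of_subset (Finset.subset_univ _))
    have := Nat.le_of_mul_le_mul_right hsum (by omega)
    omega
  have hT00 : ∀ γ, γ ≠ 0 → Module.finrank ℂ ↥(T γ 0) = r + 1 := fun γ hγ => by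
    have h := decomp_split (C := C) (ρ := ρ) hψ 8 _ (hi89 (γ := γ) (τ := 0)) fun σ hσ => hT0 γ σ hγ hσ
    rw [hQ0 γ hγ, mul_zero, add_zero] at h
    exact h.symm
  have hY : ∀ γ, γ ≠ 0 → Module.finrank ℂ ↥(T γ 0 ⊓ Eg 6 0) = 1 := fun γ hγ => by
    have heq : ∀ β β', Module.finrank ℂ ↥(T γ 0 ⊓ Eg 6 β) ≤ Module.finrank ℂ ↥(T γ 0 ⊓ Eg 6 β') := fun β β' => by
      obtain ⟨t, ht⟩ := hcube ((β - β') * γ⁻¹)
      have h := h76 γ 0 β t
      rwa [show β + (0 * t - t ^ 3 * γ) = β' by rw [ht]; field_simp; ring] at h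
    have h := decomp_const (C := C) (ρ := ρ) hψ 6 (T γ 0) hi6 (c := Module.finrank ℂ ↥(T γ 0 ⊓ Eg 6 0))
      fun a => le_antisymm (heq _ _) (heq _ _)
    rw [hT00 γ hγ, hr] at h
    exact Nat.eq_of_mul_eq_mul_left (by omega : 0 < r + 1) (h.symm.trans (mul_one _).symm)
  -- the line `v`-characters inside `U0`
  let U00 : Submodule ℂ V := Eg 11 0 ⊓ Eg 10 0 ⊓ Eg 9 0
  have hb1 : ∀ β, β ≠ 0 → 1 ≤ Module.finrank ℂ ↥(U00 ⊓ Eg 8 0 ⊓ Eg 6 β) := fun β hβ => by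
    rw [← hY _ (mul_ne_zero hβ (inv_ne_zero ha10))]
    refine le_finrank (ρ := ρ) (nwG (K := K) [na]) fun x hx => ?_
    have h := m10 _ _ hx.1.1.1.2
    rw [mul_comm a10, inv_mul_cancel_right₀ ha10] at h
    exact ⟨⟨⟨⟨z0 (m11 _ _ hx.1.1.1.1), z0 (m6 _ _ hx.2)⟩, z0 (m8 _ _ hx.1.2)⟩, z0 (m9 _ _ hx.1.1.2)⟩, h⟩
  have hQτ : ∀ γ τ, γ ≠ 0 → τ ≠ 0 → Module.finrank ℂ ↥(Eg 11 0 ⊓ Eg 10 γ ⊓ Eg 9 τ ⊓ Eg 8 0) = 1 := by
    intro γ τ hγ hτ
    have hP9 : ∀ l τ, l ≠ 0 → τ ≠ 0 → Module.finrank ℂ ↥(P l 0 ⊓ Eg 9 τ) = r + 1 := fun l τ hl hτ => by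
      rw [decomp_const (C := C) (ρ := ρ) hψ 8 _ (fun t x hx => ?_) (c := 1) fun σ => ?_, hr, mul_one]
      · exact ⟨⟨sh0 (by decide +kernel) _ hx.1.1, sh0 (by decide +kernel) _ hx.1.2⟩,
          sh1 (c := 11) (e := 3) (i := 1) (j := 1) (by decide +kernel) hx.2 hx.1.1 fun u => by simp [h3]⟩
      · rw [inf_right_comm, hdeq, hdall l σ τ hl (Or.inr hτ)]
        exact hm11
    have hdim : Module.finrank ℂ ↥(Eg 11 0 ⊓ Eg 10 γ ⊓ Eg 9 τ) = r + 1 := by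
      refine le_antisymm ?_ ?_
      · rw [← hP9 (e10 * γ) (e9 * τ) (mul_ne_zero he10 hγ) (mul_ne_zero he9 hτ)]
        exact le_finrank (ρ := ρ) (nwG (K := K) [nb]) fun x hx =>
          ⟨⟨n10 _ _ hx.1.2, z0 (n11 _ _ hx.1.1)⟩, n9 _ _ hx.2⟩
      · rw [← hP9 (γ * e11⁻¹) (τ * e9⁻¹) (mul_ne_zero hγ (inv_ne_zero he11)) (mul_ne_zero hτ (inv_ne_zero he9))]
        refine le_finrank (ρ := ρ) (nwG (K := K) [nb]) fun x hx => ⟨⟨z0 (n10 _ _ hx.1.2), ?_⟩, ?_⟩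
        · have := n11 _ _ hx.1.1
          rwa [mul_comm e11, inv_mul_cancel_right₀ he11] at this
        · have := n9 _ _ hx.2
          rwa [mul_comm e9, inv_mul_cancel_right₀ he9] at this
    have h := decomp_const (C := C) (ρ := ρ) hψ 8 _ (hi89 (γ := γ) (τ := τ))
      (c := Module.finrank ℂ ↥(Eg 11 0 ⊓ Eg 10 γ ⊓ Eg 9 τ ⊓ Eg 8 0)) fun σ => le_antisymm (h78 hτ) (h78 hτ)
    rw [hdim, hr] at h
    exact Nat.eq_of_mul_eq_mul_left (by omega : 0 < r + 1) (h.symm.trans (mul_one _).symm)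
  have hZ1 : ∀ σ β, σ ≠ 0 → β ≠ 0 → 1 ≤ Module.finrank ℂ ↥(U00 ⊓ Eg 8 σ ⊓ Eg 6 β) := by
    intro σ β hσ hβ
    set X : Submodule ℂ V := Eg 11 0 ⊓ Eg 9 0 ⊓ Eg 8 σ ⊓ Eg 6 β
    have hX : 1 ≤ Module.finrank ℂ ↥X := by
      rw [← hQτ (β * a10⁻¹) (σ * a9⁻¹) (mul_ne_zero hβ (inv_ne_zero ha10)) (mul_ne_zero hσ (inv_ne_zero ha9))]
      refine le_finrank (ρ := ρ) (nwG (K := K) [na]) fun x hx => ?_
      have h9' := m9 _ _ hx.1.2
      rw [mul_comm a9, inv_mul_cancel_right₀ ha9] at h9'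
      have h10' := m10 _ _ hx.1.1.2
      rw [mul_comm a10, inv_mul_cancel_right₀ ha10] at h10'
      exact ⟨⟨⟨z0 (m11 _ _ hx.1.1.1), z0 (m8 _ _ hx.2)⟩, h9'⟩, h10'⟩
    rw [decomp_split (C := C) (ρ := ρ) hψ 10 X (fun t x hx => ?_) (c := 0) fun γ hγ => ?_, mul_zero, add_zero] at hX
    · refine hX.trans (hsub fun x hx => ?_)
      exact ⟨⟨⟨⟨hx.1.1.1.1, hx.2⟩, hx.1.1.1.2⟩, hx.1.1.2⟩, hx.1.2⟩
    · exact ⟨⟨⟨sh0 (by decide +kernel) _ hx.1.1.1, sh0 (by decide +kernel) _ hx.1.1.2⟩,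
        sh0 (by decide +kernel) _ hx.1.2⟩,
        sh1 (c := 11) (e := -1) (i := 1) (j := 1) (by decide +kernel) hx.2 hx.1.1.1 fun u => by simp⟩
    · exact Nat.eq_zero_of_le_zero ((hsub (fun x hx => ⟨⟨⟨hx.1.1.1.1, hx.2⟩, hx.1.1.1.2⟩, hx.1.1.2⟩ :
        X ⊓ Eg 10 γ ≤ T γ σ)).trans (hT0 γ σ hγ hσ).le)
  have hi60 : ∀ {σ : K}, ∀ t, ∀ x ∈ U00 ⊓ Eg 8 σ, ρ (gx C 6 t) x ∈ U00 ⊓ Eg 8 σ := fun {σ} t x hx => hi6 t x hx
  have hZeq : ∀ σ β β', σ ≠ 0 → Module.finrank ℂ ↥(U00 ⊓ Eg 8 σ ⊓ Eg 6 β) ≤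
      Module.finrank ℂ ↥(U00 ⊓ Eg 8 σ ⊓ Eg 6 β') := fun σ β β' hσ => by
    have h := h76 0 σ β ((β' - β) * σ⁻¹)
    rwa [show β + (σ * ((β' - β) * σ⁻¹) - ((β' - β) * σ⁻¹) ^ 3 * 0) = β' by field_simp; ring] at h
  have hS : ∀ σ, σ ≠ 0 → Module.finrank ℂ ↥(U00 ⊓ Eg 8 σ) =
      (r + 1) * Module.finrank ℂ ↥(U00 ⊓ Eg 8 σ ⊓ Eg 6 1) := fun σ hσ => by
    rw [decomp_const (C := C) (ρ := ρ) hψ 6 _ hi60 fun a => le_antisymm (hZeq σ a 1 hσ) (hZeq σ 1 a hσ), hr]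
  have hSge : ∀ σ, σ ≠ 0 → r + 1 ≤ Module.finrank ℂ ↥(U00 ⊓ Eg 8 σ) := fun σ hσ => by
    rw [hS σ hσ]; exact Nat.le_mul_of_pos_right _ (hZ1 σ 1 hσ one_ne_zero)
  have hU9 : ∀ τ, τ ≠ 0 → r + 1 ≤ Module.finrank ℂ ↥(Eg 11 0 ⊓ Eg 10 0 ⊓ Eg 9 τ) := by
    intro τ hτ
    have hσ : τ * a8⁻¹ ≠ 0 := mul_ne_zero hτ (inv_ne_zero ha8)
    set Y : Submodule ℂ V := Eg 11 0 ⊓ Eg 9 τ ⊓ Eg 8 0
    have hY1 : r + 1 ≤ Module.finrank ℂ ↥Y := by
      refine (hSge _ hσ).trans (le_finrank (ρ := ρ) (nwG (K := K) [na]) fun x hx => ?_)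
      have h := m8 _ _ hx.2
      rw [mul_comm a8, inv_mul_cancel_right₀ ha8] at h
      exact ⟨⟨z0 (m11 _ _ hx.1.1.1), h⟩, z0 (m9 _ _ hx.1.2)⟩
    rw [decomp_split (C := C) (ρ := ρ) hψ 10 Y (fun t x hx => ⟨⟨sh0 (by decide +kernel) _ hx.1.1,
      sh0 (by decide +kernel) _ hx.1.2⟩, sh0 (by decide +kernel) _ hx.2⟩) (c := 1) fun γ hγ => ?_, hr,
      Nat.add_sub_cancel, mul_one] at hY1
    · rw [decomp_const (C := C) (ρ := ρ) hψ 8 _ (hi89 (γ := 0) (τ := τ))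
        (c := Module.finrank ℂ ↥(Eg 11 0 ⊓ Eg 10 0 ⊓ Eg 9 τ ⊓ Eg 8 0)) fun σ => le_antisymm (h78 hτ) (h78 hτ), hr]
      refine Nat.le_mul_of_pos_right _ (lt_of_lt_of_le (show 0 < Module.finrank ℂ ↥(Y ⊓ Eg 10 0) by omega)
        (hsub fun x hx => ⟨⟨⟨hx.1.1.1, hx.2⟩, hx.1.1.2⟩, hx.1.2⟩))
    · rw [← hQτ γ τ hγ hτ]
      refine congrArg (fun W : Submodule ℂ V => Module.finrank ℂ ↥W) ?_
      show Eg 11 0 ⊓ Eg 9 τ ⊓ Eg 8 0 ⊓ Eg 10 γ = Eg 11 0 ⊓ Eg 10 γ ⊓ Eg 9 τ ⊓ Eg 8 0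
      ac_rfl
  have hN1 : Module.finrank ℂ ↥U00 + r * (r + 1) ≤ N := by
    have := decomp_ge (C := C) (ρ := ρ) hψ 9 (Eg 11 0 ⊓ Eg 10 0) hi910 hU9
    rwa [hr, Nat.add_sub_cancel] at this
  have hSeq : ∀ σ σ', σ ≠ 0 → σ' ≠ 0 →
      Module.finrank ℂ ↥(U00 ⊓ Eg 8 σ) ≤ Module.finrank ℂ ↥(U00 ⊓ Eg 8 σ') := fun σ σ' hσ hσ' =>
    le_finrank (tor 1 (Units.mk0 (σ * σ'⁻¹) (mul_ne_zero hσ (inv_ne_zero hσ')))) fun x hx =>
      ⟨⟨⟨tor_act_zero _ _ (by decide +kernel) hx.1.1.1, tor_act_zero _ _ (by decide +kernel) hx.1.1.2⟩,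
        tor_act_zero _ _ (by decide +kernel) hx.1.2⟩,
        tor_act_eq _ _ 1 1 (by decide +kernel) hx.2 (by
          rw [zpow_one, zpow_one, Units.val_one, one_mul, Units.val_mk0]
          field_simp)⟩
  have hi8U : ∀ t, ∀ x ∈ U00, ρ (gx C 8 t) x ∈ U00 := fun t x hx => hi89 t x hx
  have hNle : N ≤ 2 * (r + 1) ^ 2 := by rw [hM1] at hk'; nlinarith
  have hS1 : ∀ σ, σ ≠ 0 → Module.finrank ℂ ↥(U00 ⊓ Eg 8 σ) = r + 1 := by
    intro σ hσ
    refine le_antisymm ?_ (hSge σ hσ)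
    by_contra hgt
    have h2a : 2 * (r + 1) ≤ Module.finrank ℂ ↥(U00 ⊓ Eg 8 σ) := by
      rw [hS σ hσ] at hgt ⊢
      have : 1 < Module.finrank ℂ ↥(U00 ⊓ Eg 8 σ ⊓ Eg 6 1) := by
        by_contra hh
        have := Nat.mul_le_mul_left (r + 1) (not_lt.1 hh)
        omega
      rw [mul_comm 2]
      exact Nat.mul_le_mul_left _ this
    have := decomp_ge (C := C) (ρ := ρ) hψ 8 U00 hi8U fun a ha => h2a.trans (hSeq σ a hσ ha)
    rw [hr, Nat.add_sub_cancel] at this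
    nlinarith
  -- vectors fixed by the long root parabolic radical
  let Q0 : Submodule ℂ V := U00 ⊓ Eg 8 0 ⊓ Eg 6 0
  obtain ⟨A0, hA0⟩ : ∃ A : Kˣ, A ≠ 1 := by
    by_contra! h
    have : Fintype.card Kˣ ≤ 1 := Fintype.card_le_one_iff.2 fun a b => (h a).trans (h b).symm
    rw [Fintype.card_units] at this
    omega
  have h77 : ∀ {σ : K}, ∀ t, ∀ x ∈ U00 ⊓ Eg 8 σ, ρ (gx C 7 t) x ∈ U00 ⊓ Eg 8 σ := fun {σ} t x hx => by
    refine ⟨⟨⟨sh0 (by decide +kernel) _ hx.1.1.1, sh0 (by decide +kernel) _ hx.1.1.2⟩, ?_⟩, ?_⟩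
    · exact sh1 (c := 10) (e := 3) (i := 1) (j := 1) (by decide +kernel) hx.1.2 hx.1.1.2 fun u => by simp
    · refine sh (L := [(9, -2, 1, 1), (10, -3, 2, 1), (11, 3, 1, 2)]) (by decide +kernel)
        (f := fun _ => 0) hx.2 ?_ fun u => by simp [corr]
      simp only [List.forall_mem_cons, List.not_mem_nil, IsEmpty.forall_iff, implies_true, and_true]
      exact ⟨hx.1.2, hx.1.1.2, hx.1.1.1⟩
  have hi7Q : ∀ t, ∀ x ∈ Q0, ρ (gx C 7 t) x ∈ Q0 := fun t x hx => by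
    refine ⟨h77 t x hx.1, ?_⟩
    refine sh (L := [(8, -1, 1, 1), (9, 1, 2, 1), (10, 1, 3, 1), (11, 1, 3, 2)]) (by decide +kernel)
      (f := fun _ => 0) hx.2 ?_ fun u => by simp [corr]
    simp only [List.forall_mem_cons, List.not_mem_nil, IsEmpty.forall_iff, implies_true, and_true]
    exact ⟨hx.1.2, hx.1.1.2, hx.1.1.1.2, hx.1.1.1.1⟩
  have hF : ∀ σ, σ ≠ 0 → 1 ≤ Module.finrank ℂ ↥(Q0 ⊓ Eg 7 (e8 * σ)) := by
    intro σ hσ
    have ht : ∀ a a', Module.finrank ℂ ↥(U00 ⊓ Eg 8 σ ⊓ Eg 7 a) ≤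
        Module.finrank ℂ ↥(U00 ⊓ Eg 8 σ ⊓ Eg 7 a') := fun a a' =>
      le_finrank (gx C 6 ((a - a') * σ⁻¹)) fun x hx => by
        refine ⟨hi60 _ x hx.1, ?_⟩
        refine sh (L := [(8, 1, 1, 1), (9, 1, 1, 2), (10, -1, 1, 3), (11, -2, 2, 3)]) (by decide +kernel)
          (f := fun c => if c = 8 then σ else 0) hx.2 ?_ fun u => ?_
        · simp only [List.forall_mem_cons, List.not_mem_nil, IsEmpty.forall_iff, implies_true, and_true]
          exact ⟨hx.1.2, hx.1.1.2, hx.1.1.1.2, hx.1.1.1.1⟩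
        · simp [corr]
          field_simp
          ring
    set F : Submodule ℂ V := U00 ⊓ Eg 8 σ ⊓ Eg 7 0
    have hF1 : Module.finrank ℂ ↥F = 1 := by
      have h := decomp_const (C := C) (ρ := ρ) hψ 7 (U00 ⊓ Eg 8 σ) h77 (c := Module.finrank ℂ ↥F)
        fun a => le_antisymm (ht _ _) (ht _ _)
      rw [hS1 σ hσ, hr] at h
      exact Nat.eq_of_mul_eq_mul_left (by omega : 0 < r + 1) (h.symm.trans (mul_one _).symm)
    have hi5 : ∀ t, ∀ x ∈ F, ρ (gx C 5 t) x ∈ F := fun t x hx => by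
      refine ⟨⟨⟨⟨?_, sh0 (by decide +kernel) _ hx.1.1.1.2⟩, sh0 (by decide +kernel) _ hx.1.1.2⟩, ?_⟩,
        sh0 (by decide +kernel) _ hx.2⟩
      · exact sh1 (c := 10) (e := 1) (i := 1) (j := 1) (by decide +kernel) hx.1.1.1.1 hx.1.1.1.2 fun u => by simp
      · refine sh (L := [(7, 1, 1, 1), (9, -1, 1, 2), (11, 1, 1, 3), (10, 2, 2, 3)]) (by decide +kernel)
          (f := fun _ => 0) hx.1.2 ?_ fun u => by simp [corr]
        simp only [List.forall_mem_cons, List.not_mem_nil, IsEmpty.forall_iff, implies_true, and_true]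
        exact ⟨hx.2, hx.1.1.2, hx.1.1.1.1, hx.1.1.1.2⟩
    obtain ⟨g5, h5, -⟩ := exists_char hψ 5 F hi5 hF1
    have e5 : g5 = 0 := weight_zero (W := F) hψ (tor A0 A0⁻¹) (by rw [hF1]; exact one_pos)
      (fun x hx => ⟨⟨⟨⟨tor_act_zero _ _ (by decide +kernel) hx.1.1.1.1,
        tor_act_zero _ _ (by decide +kernel) hx.1.1.1.2⟩, tor_act_zero _ _ (by decide +kernel) hx.1.1.2⟩,
        tor_act_eq _ _ 1 1 (by decide +kernel) hx.1.2 (by
          rw [zpow_one, zpow_one, ← Units.val_mul, mul_inv_cancel, Units.val_one, one_mul])⟩,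
        tor_act_zero _ _ (by decide +kernel) hx.2⟩)
      (c := ((A0 : K))⁻¹) (fun e => hA0 (Units.ext (inv_eq_one.1 e))) h5 fun x hx => by
        refine tor_act_eq _ _ 0 (-1) (by decide +kernel) hx ?_
        simp
    refine hF1.ge.trans (le_finrank (ρ := ρ) (nwG (K := K) [nb]) fun x hx => ?_)
    exact ⟨⟨⟨⟨⟨z0 (n10 _ _ hx.1.1.1.2), z0 (n11 _ _ hx.1.1.1.1)⟩, z0 (n9 _ _ hx.1.1.2)⟩, z0 (n7 _ _ hx.2)⟩,
      z0 (n5 _ _ (e5 ▸ h5 hx))⟩, n8 _ _ hx.1.2⟩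
  have hQ0ge : r ≤ Module.finrank ℂ ↥Q0 := by
    have := decomp_ge (C := C) (ρ := ρ) hψ 7 Q0 hi7Q (c := 1) fun a ha => by
      have h := hF (e8⁻¹ * a) (mul_ne_zero (inv_ne_zero he8) ha)
      rwa [mul_inv_cancel_left₀ he8] at h
    rw [hr, Nat.add_sub_cancel, mul_one] at this
    omega
  have hS0 : r + r ≤ Module.finrank ℂ ↥(U00 ⊓ Eg 8 0) := by
    have := decomp_ge (C := C) (ρ := ρ) hψ 6 (U00 ⊓ Eg 8 0) hi60 (c := 1) hb1
    rw [hr, Nat.add_sub_cancel, mul_one] at this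
    have h2 : Module.finrank ℂ ↥Q0 + r ≤ Module.finrank ℂ ↥(U00 ⊓ Eg 8 0) := this
    omega
  have hU00 : r + r + r * (r + 1) ≤ Module.finrank ℂ ↥U00 := by
    have := decomp_ge (C := C) (ρ := ρ) hψ 8 U00 hi8U (c := r + 1) hSge
    rw [hr, Nat.add_sub_cancel] at this
    omega
  rw [hr, hV, hM1]
  have hN2 : r + r + r * (r + 1) + r * (r + 1) ≤ N := le_trans (Nat.add_le_add_right hU00 _) hN1
  rw [Nat.sub_le_iff_le_add]
  nlinarith

end CfsgLib.MinDeg.GTwo
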