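import Cfsg.Agent.Lib.MinDeg.Tools
import Cfsg.Agent.Lib.Lie.Laced.Pairing
import Cfsg.Agent.Lib.Lie.Chev.Borel
import Cfsg.Agent.Lib.Lie.Chev.Gen
import Mathlib.RepresentationTheory.Irreducible

/-!
# Simply laced data: root combinatorics and the action on eigenspaces of root subgroups
-/

set_option autoImplicit false
set_option linter.unusedSectionVars false

namespace CfsgLib.MinDeg.LacedRoot

open Cfsg.Lie CfsgLib.Lie.Chev CfsgLib.Lie.Laced CfsgLib.MinDeg.RootSpace
open scoped MatrixGroups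

variable {D : ChevalleyDatum}

section comb

variable {C : Full D}

/-- the height of a root -/
def hg (C : Full D) (r : Fin D.nroots) : ℤ := ∑ j, C.G.rho r j

theorem hg_add {a b z : Fin D.nroots} (e : C.G.rho z = C.G.rho a + C.G.rho b) : hg C z = hg C a + hg C b := by
  simp [hg, e, Finset.sum_add_distrib]

theorem hg_negr (r : Fin D.nroots) : hg C (C.G.negr r) = - hg C r := by
  simp [hg, C.G.rho_negr]

theorem hg_simp (i : Fin D.rank) : hg C (C.G.simp' i) = 1 := by
  simp [hg, C.G.rho_simp]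

theorem hg_pos {r : Fin D.nroots} (hr : D.IsPosRoot r.val) : 0 < hg C r := by
  obtain ⟨j, hj⟩ := Function.ne_iff.1 (C.G.rho_ne_zero r)
  exact Finset.sum_pos' (fun l _ => C.G.rho_nonneg hr l)
    ⟨j, Finset.mem_univ j, lt_of_le_of_ne (C.G.rho_nonneg hr j) (Ne.symm hj)⟩

theorem pos_of_hg {r : Fin D.nroots} (h : 0 < hg C r) : D.IsPosRoot r.val := by
  obtain ⟨j, -, hj⟩ := Finset.exists_lt_of_sum_lt (f := fun _ => (0 : ℤ)) (by simpa [hg] using h)
  exact C.G.isPosRoot_of_coord hj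

theorem pos_add {a b z : Fin D.nroots} (ha : D.IsPosRoot a.val) (hb : D.IsPosRoot b.val)
    (e : C.G.rho z = C.G.rho a + C.G.rho b) : D.IsPosRoot z.val :=
  pos_of_hg (C := C) (by rw [hg_add e]; exact add_pos (hg_pos ha) (hg_pos hb))

theorem ip_simp (i : Fin D.rank) (s : Fin D.nroots) : ip D (C.G.simp' i) s = cart D i s := by
  rw [ip, Finset.sum_eq_single i (fun j _ hj => by rw [C.G.coroot_simp, if_neg hj, zero_mul]) (by simp),
    C.G.coroot_simp, if_pos rfl, one_mul]

theorem ip_eq_sum (r s : Fin D.nroots) : ip D r s = ∑ j, C.G.rho s j * ip D r (C.G.simp' j) := by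
  simp only [ip, C.G.cart_eq _ s, Finset.mul_sum]
  rw [Finset.sum_comm]
  exact Finset.sum_congr rfl fun j _ => Finset.sum_congr rfl fun i _ => by ring

theorem ip_w_right (i : Fin D.rank) (r s : Fin D.nroots) :
    ip D r (C.G.w i s) = ip D r s - cart D i s * ip D r (C.G.simp' i) := by
  simp only [ip, C.G.cart_w i, mul_sub, Finset.sum_sub_distrib, Finset.mul_sum]
  congr 1
  exact Finset.sum_congr rfl fun j _ => by ring

theorem hg_w (i : Fin D.rank) (r : Fin D.nroots) : hg C (C.G.w i r) = hg C r - cart D i r := by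
  simp [hg, C.G.rho_w, Finset.sum_sub_distrib, ← Finset.mul_sum]

variable (hL : IsLaced D C)
include hL

theorem ip_w (i : Fin D.rank) (r s : Fin D.nroots) : ip D (C.G.w i r) (C.G.w i s) = ip D r s := by
  have h : ∀ x, ip D (C.G.w i r) x = ip D r x - cart D i r * cart D i x := fun x => by
    rw [hL.1 (C.G.w i r), ip_w_right, hL.1 x, hL.1 x, ip_simp]
  rw [ip_w_right, h, h, hL.1 r (C.G.simp' i), ip_simp, C.G.cart_simp]
  ring

theorem eq_of_ip_two {r s : Fin D.nroots} (h : ip D r s = 2) : s = r := by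
  by_contra hne
  have hn : s ≠ C.G.negr r := fun e => by rw [e, ip_negr, hL.2.1] at h; omega
  rcases ip_le hL r s hne hn with e | e | e <;> omega

theorem ne_negr_of_nonneg {r s : Fin D.nroots} (h : 0 ≤ ip D r s) : r ≠ C.G.negr s := fun e => by
  rw [e, hL.1, ip_negr, hL.2.1] at h; omega

theorem no_sum_of_nonneg {r s z : Fin D.nroots} (h : 0 ≤ ip D r s) :
    C.G.rho z ≠ C.G.rho r + C.G.rho s := fun e => by have := ip_sum_eq hL e; omega

theorem ip_ge_neg_one {r s : Fin D.nroots} (h : r ≠ C.G.negr s) : -1 ≤ ip D r s := by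
  by_cases hsr : s = r
  · rw [hsr, hL.2.1]; omega
  · rcases ip_le hL r s hsr (fun e => h (by rw [e, C.G.negr_negr])) with e | e | e <;> omega

/-- a positive root that is not fundamental descends by a fundamental reflection -/
theorem exists_desc {r : Fin D.nroots} (hr : D.IsPosRoot r.val) (hns : ∀ i, r ≠ C.G.simp' i) :
    ∃ i, cart D i r = 1 ∧ D.IsPosRoot (C.G.w i r).val := by
  have h2 : 0 < ∑ j, C.G.rho r j * ip D r (C.G.simp' j) := by
    rw [← ip_eq_sum, hL.2.1]; norm_num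
  obtain ⟨j, -, hj⟩ := Finset.exists_lt_of_sum_lt (f := fun _ => (0 : ℤ)) (by simpa using h2)
  have hp : 0 < ip D r (C.G.simp' j) := pos_of_mul_pos_right hj (C.G.rho_nonneg hr j)
  refine ⟨j, ?_, C.G.w_pos hr (hns j)⟩
  rw [← ip_simp, hL.1]
  rcases ip_le hL r (C.G.simp' j) (fun e => hns j e.symm)
    (fun e => C.G.negr_simp_not_pos j (by rw [e, C.G.negr_negr]; exact hr)) with e | e | e <;> omega

theorem simple_of_hg {r : Fin D.nroots} (hr : D.IsPosRoot r.val) (h1 : hg C r = 1) :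
    ∃ i, r = C.G.simp' i := by
  by_contra hns
  simp only [not_exists] at hns
  obtain ⟨i, hc, hp⟩ := exists_desc hL hr hns
  have := hg_pos (C := C) hp
  rw [hg_w, hc, h1] at this
  omega

end comb

section action

variable (C : Full D) {K : Type*} [Field K]

/-- a root element -/
noncomputable abbrev X (r : Fin D.nroots) (t : K) : ↥(D.group K) := gx C r.val t

/-- `n_{p_i}` as an element of the group -/
noncomputable def nG (i : Fin D.rank) : ↥(D.group K) := ⟨C.G.nU i, C.G.nU_mem_group i⟩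

/-- `h_r(c)` as an element of the group -/
noncomputable def hG (r : Fin D.nroots) (c : Kˣ) : ↥(D.group K) :=
  ⟨C.G.hd r c, C.G.diagonal_le_group (C.G.hd_mem_H r c)⟩

variable {C}

theorem X_coe (r : Fin D.nroots) (t : K) : (X C r t : GL D.Idx K) = C.G.xu r t := gx_coe C r.isLt t

variable {V : Type*} [AddCommGroup V] [Module ℂ V]
variable (C) (ρ : Representation ℂ ↥(D.group K) V) (ψ : AddChar K ℂ)

/-- the vectors fixed by the root subgroups of a set -/
noncomputable def Z (S : Set (Fin D.nroots)) : Submodule ℂ V := ⨅ u ∈ S, E C ρ ψ u.val 0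

/-- a root subgroup preserves a subspace -/
def Inv (r : Fin D.nroots) (W : Submodule ℂ V) : Prop := ∀ t, ∀ x ∈ W, ρ (X C r t) x ∈ W

/-- the eigenspace of a root subgroup, indexed by a root -/
noncomputable abbrev Er (r : Fin D.nroots) (a : K) : Submodule ℂ V := E C ρ ψ r.val a

variable {C ρ ψ}

local notation "Eg" => Er C ρ ψ

theorem mem_Z {S : Set (Fin D.nroots)} {x : V} : x ∈ Z C ρ ψ S ↔ ∀ u ∈ S, x ∈ Eg u 0 := by
  simp [Z, Submodule.mem_iInf]

theorem Z_mono {S T : Set (Fin D.nroots)} (h : S ⊆ T) : Z C ρ ψ T ≤ Z C ρ ψ S := fun _ hx =>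
  mem_Z.2 fun u hu => mem_Z.1 hx u (h hu)

theorem Inv.inf {r : Fin D.nroots} {W W' : Submodule ℂ V} (h : Inv C ρ r W) (h' : Inv C ρ r W') :
    Inv C ρ r (W ⊓ W') := fun t x hx => ⟨h t x hx.1, h' t x hx.2⟩

variable (hL : IsLaced D C)
include hL

theorem comm0 {r s : Fin D.nroots} (h : 0 ≤ ip D r s) (t u : K) :
    X C s u * X C r t = X C r t * X C s u := by
  by_cases hsr : s = r
  · subst hsr
    rw [← gx_add, ← gx_add, add_comm]
  have hsn : s ≠ C.G.negr r := fun e => ne_negr_of_nonneg hL h (by rw [e, C.G.negr_negr])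
  rcases hL.2.2 r s hsr hsn with ⟨e, -⟩ | ⟨z, c, -, -, h'⟩
  · rw [gx_comm C r.isLt s.isLt (fun e => hsr (Fin.ext e))
      (fun e => hsn (Fin.ext (e.trans (C.G.negr_val r).symm))), terms, e]
    simp
  · omega

theorem comm1 {r s z : Fin D.nroots} (e : C.G.rho z = C.G.rho r + C.G.rho s) :
    ∃ c : K, c ≠ 0 ∧ ∀ t u : K, X C s u * X C r t = X C r t * X C s u * X C z (c * t * u) := by
  have hip := ip_sum_eq hL e
  have hsr : s ≠ r := fun h => by rw [h, hL.2.1] at hip; omega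
  have hsn : s ≠ C.G.negr r := fun h => by rw [h, ip_negr, hL.2.1] at hip; omega
  rcases hL.2.2 r s hsr hsn with ⟨-, h⟩ | ⟨z', c, ec, hc, -⟩
  · omega
  obtain ⟨-, -, hz', hzr⟩ := C.commTerms_weight (r := r) (s := s) (c := (z', c, 1, 1)) (by rw [ec]; simp)
  have hzz : (⟨z', hz'⟩ : Fin D.nroots) = z := C.G.rho_injective (by rw [e]; simpa using hzr)
  refine ⟨-(c : K), ?_, fun t u => ?_⟩
  · rcases Int.natAbs_eq c with h | h <;> rw [h, hc] <;> simp
  · rw [gx_comm C r.isLt s.isLt (fun e => hsr (Fin.ext e))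
      (fun e => hsn (Fin.ext (e.trans (C.G.negr_val r).symm))), terms, ec]
    subst hzz
    simp

theorem pres0 {r u : Fin D.nroots} (h : 0 ≤ ip D r u) {b : K} {x : V} (t : K) (hx : x ∈ Eg u b) :
    ρ (X C r t) x ∈ Eg u b := by
  refine mem_E.2 fun v => ?_
  rw [← rho_mul, comm0 hL h, rho_mul, mem_E.1 hx, map_smul]

theorem pres1 {r u z : Fin D.nroots} (e : C.G.rho z = C.G.rho r + C.G.rho u) :
    ∃ c : K, c ≠ 0 ∧ ∀ (t a b : K) (x : V), x ∈ Eg u b → x ∈ Eg z a →
      ρ (X C r t) x ∈ Eg u (b + a * c * t) := by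
  obtain ⟨c, hc, h⟩ := comm1 (K := K) hL e
  refine ⟨c, hc, fun t a b x hu hz => mem_E.2 fun v => ?_⟩
  rw [← rho_mul, h, rho_mul, mem_E.1 hz, map_smul, rho_mul, mem_E.1 hu, map_smul, smul_smul,
    ← AddChar.map_add_eq_mul]
  congr 2
  ring

theorem pres {r u : Fin D.nroots} (hne : r ≠ C.G.negr u) {b : K} {x : V} (t : K) (hx : x ∈ Eg u b)
    (hz : ∀ z, C.G.rho z = C.G.rho r + C.G.rho u → x ∈ Eg z 0) : ρ (X C r t) x ∈ Eg u b := by
  rcases le_or_gt 0 (ip D r u) with h | h
  · exact pres0 hL h t hx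
  · obtain ⟨z, e⟩ := exists_sum hL (r := r) (s := u) (by have := ip_ge_neg_one hL hne; omega)
    obtain ⟨c, -, hc⟩ := pres1 (K := K) (ρ := ρ) (ψ := ψ) hL e
    have := hc t 0 b x hx (hz z e)
    rwa [zero_mul, zero_mul, add_zero] at this

theorem inv_Z {r : Fin D.nroots} {S : Set (Fin D.nroots)}
    (h : ∀ u ∈ S, r ≠ C.G.negr u ∧ ∀ z, C.G.rho z = C.G.rho r + C.G.rho u → z ∈ S) :
    Inv C ρ r (Z C ρ ψ S) := fun t _ hx =>
  mem_Z.2 fun u hu => pres hL (h u hu).1 t (mem_Z.1 hx u hu) fun z e => mem_Z.1 hx z ((h u hu).2 z e)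

theorem inv_E {r u : Fin D.nroots} (h : 0 ≤ ip D r u) (b : K) : Inv C ρ r (Eg u b) :=
  fun t _ hx => pres0 hL h t hx

omit hL in
theorem mono_act {g : ↥(D.group K)} {π : Equiv.Perm (Fin D.nroots)} (h : C.G.NPerm (g : GL D.Idx K) π)
    (r : Fin D.nroots) :
    ∃ ε : K, ε ≠ 0 ∧ ∀ (a : K) (x : V), x ∈ Eg r a → ρ g x ∈ Eg (π r) (ε * a) := by
  obtain ⟨c, hc⟩ := h r
  exact ⟨(c : K)⁻¹, inv_ne_zero c.ne_zero, fun a x hx =>
    conj_act r.isLt (π r).isLt c.ne_zero hc hx⟩

omit hL in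
theorem mono_zero {g : ↥(D.group K)} {π : Equiv.Perm (Fin D.nroots)} (h : C.G.NPerm (g : GL D.Idx K) π)
    {u : Fin D.nroots} {x : V} (hx : x ∈ Eg (π⁻¹ u) 0) : ρ g x ∈ Eg u 0 := by
  obtain ⟨ε, -, he⟩ := mono_act (ρ := ρ) (ψ := ψ) h (π⁻¹ u)
  have := he 0 x hx
  rwa [mul_zero, Equiv.Perm.inv_def, Equiv.apply_symm_apply] at this

omit hL in
theorem nG_perm (i : Fin D.rank) : C.G.NPerm ((nG C i : ↥(D.group K)) : GL D.Idx K) (C.G.sP i) := C.G.nPerm_nU i

omit hL in
theorem n_act (i : Fin D.rank) (r : Fin D.nroots) :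
    ∃ ε : K, ε ≠ 0 ∧ ∀ (a : K) (x : V), x ∈ Eg r a → ρ (nG C i) x ∈ Eg (C.G.w i r) (ε * a) :=
  mono_act (nG_perm i) r

omit hL in
theorem n_zero (i : Fin D.rank) {u : Fin D.nroots} {x : V} (hx : x ∈ Eg (C.G.w i u) 0) :
    ρ (nG C i) x ∈ Eg u 0 := by
  refine mono_zero (nG_perm i) ?_
  rwa [C.G.sP_inv, C.G.sP_apply]

omit hL in
theorem hG_act (r q : Fin D.nroots) (c : Kˣ) {a : K} {x : V} (hx : x ∈ Eg q a) :
    ρ (hG C r c) x ∈ Eg q ((((c ^ ip D r q : Kˣ) : K))⁻¹ * a) :=
  conj_act q.isLt q.isLt (Units.ne_zero _) (fun t => hd_conj r q c t) hx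

omit hL in
/-- a vector fixed by the fundamental root elements and their negatives spans a trivial subrepresentation -/
theorem no_fixed [FiniteDimensional ℂ V] (hρ : ρ.IsIrreducible) (hk : 2 ≤ Module.finrank ℂ V) {x : V}
    (h : ∀ i t, ρ (X C (C.G.simp' i) t) x = x ∧ ρ (X C (C.G.negr (C.G.simp' i)) t) x = x) : x = 0 := by
  by_contra hx
  let S : Subgroup ↥(D.group K) :=
    { carrier := {g | ρ g x = x}
      one_mem' := by simp
      mul_mem' := fun {a b} ha hb => by
        show ρ (a * b) x = x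
        rw [rho_mul, hb, ha]
      inv_mem' := fun {a} ha => by
        have := congrArg (ρ a⁻¹) (ha : ρ a x = x)
        rw [rho_inv_self] at this
        exact this.symm }
  have hle : D.group K ≤ S.map (D.group K).subtype := by
    refine le_of_eq_of_le C.G.group_eq_simple ((Subgroup.closure_le _).2 ?_)
    rintro g ⟨i, t, rfl | rfl⟩
    · exact ⟨X C (C.G.simp' i) t, (h i t).1, X_coe _ t⟩
    · exact ⟨X C (C.G.negr (C.G.simp' i)) t, (h i t).2, X_coe _ t⟩
  have hall : ∀ g, ρ g x = x := fun g => by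
    obtain ⟨y, hy, e⟩ := hle g.2
    exact (Subtype.ext e : y = g) ▸ hy
  haveI := hρ
  let W : Subrepresentation ρ := ⟨ℂ ∙ x, fun g v hv => by
    obtain ⟨a, rfl⟩ := Submodule.mem_span_singleton.1 hv
    rw [map_smul, hall]
    exact Submodule.smul_mem _ _ (Submodule.mem_span_singleton_self x)⟩
  rcases IsSimpleOrder.eq_bot_or_eq_top W with hW | hW
  · exact hx (Submodule.span_singleton_eq_bot.1 (congrArg Subrepresentation.toSubmodule hW))
  · have h1 : Module.finrank ℂ ↥(ℂ ∙ x) = Module.finrank ℂ V := by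
      rw [show (ℂ ∙ x) = (⊤ : Submodule ℂ V) from congrArg Subrepresentation.toSubmodule hW, finrank_top]
    rw [finrank_span_singleton hx] at h1
    omega

/-- the partners of a list of roots shift each other's characters -/
theorem block [Fintype K] [FiniteDimensional ℂ V] (hψ : ψ.IsPrimitive) {s : Fin D.nroots} {c : K}
    (hc : c ≠ 0) : ∀ (L : List (Fin D.nroots)), L.Nodup → (∀ u ∈ L, ip D s u = 1) →
      L.Pairwise (fun u v => 0 ≤ ip D u v) → ∀ W : Submodule ℂ V, W ≤ Eg s c →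
      (∀ u ∈ L, Inv C ρ u W) →
      (∀ u ∈ L, ∀ r, C.G.rho s = C.G.rho u + C.G.rho r → Inv C ρ r W) →
      Module.finrank ℂ W =
        Fintype.card K ^ L.length * Module.finrank ℂ ↥(W ⊓ Z C ρ ψ {u | u ∈ L}) := by
  intro L
  induction L with
  | nil =>
    intro _ _ _ W _ _ _
    have : Z C ρ ψ {u | u ∈ ([] : List (Fin D.nroots))} = ⊤ :=
      eq_top_iff.2 fun x _ => mem_Z.2 fun u hu => absurd hu (List.not_mem_nil)
    rw [this, inf_top_eq]
    simp
  | cons u L ih =>
    intro hnd hs hpw W hW hiu hir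
    rw [List.nodup_cons] at hnd
    rw [List.pairwise_cons] at hpw
    have hs1 : ip D s u = 1 := hs u List.mem_cons_self
    obtain ⟨r, hr⟩ := exists_diff hL (r := u) (t := s) (by rw [hL.1]; exact hs1)
    have hsum : C.G.rho s = C.G.rho r + C.G.rho u := by rw [hr, add_comm]
    obtain ⟨e, he, hsh⟩ := pres1 (K := K) (ρ := ρ) (ψ := ψ) hL hsum
    have hmove : ∀ b b', Module.finrank ℂ ↥(W ⊓ Eg u b) ≤ Module.finrank ℂ ↥(W ⊓ Eg u b') := fun b b' =>
      le_finrank (X C r ((b' - b) * (c * e)⁻¹)) fun x hx => by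
        refine ⟨hir u List.mem_cons_self r hr _ x hx.1, ?_⟩
        have h := hsh ((b' - b) * (c * e)⁻¹) c b x hx.2 (hW hx.1)
        rwa [show b + c * e * ((b' - b) * (c * e)⁻¹) = b' by
          rw [mul_comm (c * e), inv_mul_cancel_right₀ (mul_ne_zero hc he), add_sub_cancel]] at h
    have h1 := decomp_const hψ u.val W (hiu u List.mem_cons_self) (c := Module.finrank ℂ ↥(W ⊓ Eg u 0))
      fun b => le_antisymm (hmove _ _) (hmove _ _)
    have h2 := ih hnd.2 (fun v hv => hs v (List.mem_cons_of_mem _ hv)) hpw.2 (W ⊓ Eg u 0)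
      (inf_le_left.trans hW)
      (fun v hv => (hiu v (List.mem_cons_of_mem _ hv)).inf (inv_E hL (by rw [hL.1]; exact hpw.1 v hv) 0))
      fun v hv w hw => by
        refine (hir v (List.mem_cons_of_mem _ hv) w hw).inf (inv_E hL ?_ 0)
        have ha := ip_add (C := C) u hw
        rw [hL.1 u s, hs1] at ha
        have hb : ip D u v ≤ 1 := by
          have hne : v ≠ u := fun e => hnd.1 (e ▸ hv)
          have hn : v ≠ C.G.negr u := fun e => by
            have := hpw.1 v hv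
            rw [e, ip_negr, hL.2.1] at this
            omega
          rcases ip_le hL u v hne hn with e | e | e <;> omega
        rw [hL.1]
        omega
    have h3 : W ⊓ Eg u 0 ⊓ Z C ρ ψ {w | w ∈ L} = W ⊓ Z C ρ ψ {w | w ∈ u :: L} := by
      ext x
      simp [mem_Z, and_assoc]
    rw [h1, h2, h3, List.length_cons, pow_succ']
    ring

end action

end CfsgLib.MinDeg.LacedRoot
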