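import Cfsg.Agent.Lib.MinDeg.LacedRank
import Cfsg.Agent.Lib.Lie.Laced.Classify

/-!
# Simply laced minimal degrees: certificates for the root data, on the fast tables
-/

set_option autoImplicit false
set_option linter.unusedSectionVars false

namespace CfsgLib.MinDeg.LacedRoot

open Cfsg.Lie CfsgLib.Lie.Chev CfsgLib.Lie.Laced
open scoped MatrixGroups

variable (D : ChevalleyDatum) (f : Fast)

/-- membership in a packed set -/
noncomputable def bitB (Z v : ℕ) : Bool := Nat.beq (Nat.land (Nat.shiftRight Z v) 1) 1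

/-- adding to a packed set -/
noncomputable def setB (Z v : ℕ) : ℕ := Nat.lor Z (Nat.shiftLeft 1 v)

/-- the packed set of a list -/
noncomputable def packB (l : List ℕ) : ℕ := List.rec 0 (fun v _ ih => setB ih v) l

/-- a root preserving the line, given the roots killed so far -/
noncomputable def presB (U : List ℕ) (Z a : ℕ) : Bool :=
  allList U fun u => !(Nat.beq a (f.negs.get u)) && allList (commTermsF D f a u) fun c => bitB Z c.1

/-- one step of the closure -/
noncomputable def stepB (U : List ℕ) (Z : ℕ) (s : ℕ × ℕ × ℕ) : Bool :=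
  Nat.blt s.1 D.nroots && Nat.blt s.2.1 D.nroots && Nat.blt s.2.2 D.nroots &&
    !(Nat.beq s.2.2 s.2.1) && !(Nat.beq s.2.2 (f.negs.get s.2.1)) &&
    presB D f U Z s.2.1 && presB D f U Z s.2.2 &&
    match commTermsF D f s.2.1 s.2.2 with
    | [c] => Nat.beq c.1 s.1
    | _ => false

/-- the closure along a list of steps, with a final test -/
noncomputable def closeB (U : List ℕ) (fin : ℕ → Bool) (steps : List (ℕ × ℕ × ℕ)) : ℕ → Bool :=
  List.rec (fun Z => fin Z) (fun s _ ih Z => stepB D f U Z s && ih (setB Z s.1)) steps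

/-- the final test: all positive roots but the node and the allowed simple roots are killed -/
noncomputable def finB (j : ℕ) (allowed : List ℕ) (Z : ℕ) : Bool :=
  allLt D.nroots fun r => !(posB D f r) || Nat.beq r (f.simples.get j) || bitB Z r ||
    allowed.any fun i => Nat.beq r (f.simples.get i)

/-- the roots pairing to one with a fundamental root -/
noncomputable def spB (j : ℕ) : List ℕ :=
  (List.range D.nroots).filter fun r => posB D f r && intBeq (ipF f (f.simples.get j) r) 1

/-- the check of a node -/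
noncomputable def chkNode (j : ℕ) (sp : List ℕ) (allowed : List ℕ) (steps : List (ℕ × ℕ × ℕ)) : Bool :=
  (spB D f j == sp) && closeB D f (f.simples.get j :: sp) (finB D f j allowed) steps (packB sp)

/-- the height from the fast tables -/
noncomputable def hgF (r : ℕ) : ℕ := (f.rho.get r).sum.toNat

/-- the heights of the positive roots -/
noncomputable def heightsB : List ℕ := ((List.range D.nroots).filter (posB D f)).map (hgF f)

/-- the coordinate lists have the right length -/
noncomputable def lenB : Bool := allLt D.nroots fun r => Nat.beq (f.rho.get r).length D.rank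

variable {D f}

theorem bitB_iff (Z v : ℕ) : bitB Z v = true ↔ Z.testBit v = true := by
  rw [bitB, Nat.beq_eq, Nat.testBit_eq_decide_div_mod_eq, decide_eq_true_eq]
  show (Z >>> v) &&& 1 = 1 ↔ _
  rw [Nat.and_one_is_mod, Nat.shiftRight_eq_div_pow]

theorem bitB_setB {Z v w : ℕ} (h : bitB (setB Z v) w = true) : w = v ∨ bitB Z w = true := by
  rw [bitB_iff] at h ⊢
  have h' : (Z ||| 1 <<< v).testBit w = true := h
  rw [Nat.testBit_or, Nat.one_shiftLeft, Nat.testBit_two_pow, Bool.or_eq_true, decide_eq_true_eq] at h'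
  exact h'.symm.imp (fun e => e.symm) id

theorem bitB_packB {l : List ℕ} {w : ℕ} (h : bitB (packB l) w = true) : w ∈ l := by
  induction l with
  | nil => rw [bitB_iff] at h; simp [packB] at h
  | cons v l ih =>
    rcases bitB_setB h with rfl | h'
    · exact List.mem_cons_self
    · exact List.mem_cons_of_mem _ (ih h')

variable (C : Full D) (h : RowsOK D f) (hk : KeysOK D)
include h

theorem posB_iff {r : Fin D.nroots} : posB D f r.val = true ↔ D.IsPosRoot r.val := by
  refine ⟨posB_spec h, fun hp => ?_⟩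
  simp only [posB, Bool.and_eq_true, Nat.blt_eq]
  refine ⟨r.isLt, ?_⟩
  rw [h.cor r.val r.isLt]
  have hall : ∀ (l : List (ℕ × ℤ)) (g : ℕ × ℤ → Bool), (∀ e ∈ l, g e = true) → allList l g = true := by
    intro l g hg
    induction l with
    | nil => rfl
    | cons e l ih =>
      show cond (g e) (allList l g) false = true
      rw [hg e List.mem_cons_self, cond_true, ih fun x hx => hg x (List.mem_cons_of_mem _ hx)]
  refine hall _ _ fun e he => ?_
  obtain ⟨i, hi, rfl⟩ := List.mem_map.1 he
  have hi' : i < (D.coroot.getD r.val #[]).size := by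
    rw [h.corsize r.val r.isLt]; exact List.mem_range.1 hi
  have hm : (D.coroot.getD r.val #[]).getD i 0 ∈ (D.coroot.getD r.val #[]).toList := by
    generalize D.coroot.getD r.val #[] = A at hi' ⊢
    have := List.getElem_mem (l := A.toList) (n := i) (by simpa using hi')
    simpa [Array.getD, hi'] using this
  exact decide_eq_true (hp.2 _ hm)

theorem simples_eq (i : Fin D.rank) : f.simples.get i.val = (C.G.simp' i).val := by
  rw [h.simples i.val i.isLt, C.G.simp_val]
  rfl

theorem ipF_simple (i : Fin D.rank) (s : Fin D.nroots) :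
    ipF f (f.simples.get i.val) s.val = ip D (C.G.simp' i) s := by
  rw [simples_eq C h, ipF_eq h]

theorem spB_spec (j : Fin D.rank) (r : ℕ) :
    r ∈ spB D f j.val ↔ ∃ hr : r < D.nroots, (⟨r, hr⟩ : Fin D.nroots) ∈ spSet C j := by
  simp only [spB, List.mem_filter, List.mem_range, Bool.and_eq_true, spSet, Set.mem_setOf_eq]
  constructor
  · rintro ⟨hr, hp, hi⟩
    exact ⟨hr, (posB_iff h (r := ⟨r, hr⟩)).1 hp, (ipF_simple C h j ⟨r, hr⟩).symm.trans (intBeq_spec hi)⟩
  · rintro ⟨hr, hp, hi⟩
    refine ⟨hr, (posB_iff h (r := ⟨r, hr⟩)).2 hp, ?_⟩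
    rw [show ipF f (f.simples.get j.val) r = 1 from (ipF_simple C h j ⟨r, hr⟩).trans hi]
    rfl

include hk

theorem presB_spec (hL : IsLaced D C) {j : Fin D.rank} {U : List ℕ} {Z a : ℕ} (ha : a < D.nroots)
    (hU : ∀ u : Fin D.nroots, (u = C.G.simp' j ∨ u ∈ spSet C j) → u.val ∈ U)
    (hZ : ∀ w, bitB Z w = true → ∃ hw : w < D.nroots, Killed C j ⟨w, hw⟩)
    (hp : presB D f U Z a = true) :
    (∀ u, (u = C.G.simp' j ∨ u ∈ spSet C j) → (⟨a, ha⟩ : Fin D.nroots) ≠ C.G.negr u) ∧
      ∀ u z, (u = C.G.simp' j ∨ u ∈ spSet C j) → C.G.rho z = C.G.rho ⟨a, ha⟩ + C.G.rho u → Killed C j z := by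
  unfold presB at hp
  constructor
  · intro u hu e
    have := allList_spec hp _ (hU u hu)
    simp only [Bool.and_eq_true, Bool.not_eq_true', ← Bool.not_eq_true, Nat.beq_eq, h.negs u.val u.isLt] at this
    exact this.1 ((congrArg Fin.val e).trans (C.G.negr_val u))
  · intro u z hu e
    have := allList_spec hp _ (hU u hu)
    simp only [Bool.and_eq_true] at this
    have hne : u ≠ ⟨a, ha⟩ := fun he => by
      have h' := ip_sum_eq hL e
      rw [he, hL.2.1] at h'
      omega
    have hnn : u ≠ C.G.negr ⟨a, ha⟩ := fun he => by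
      have h' := ip_sum_eq hL e
      rw [he, ip_negr, hL.2.1] at h'
      omega
    rcases hL.2.2 ⟨a, ha⟩ u hne hnn with ⟨-, h'⟩ | ⟨z', c, ec, -, -⟩
    · have := ip_sum_eq hL e; omega
    obtain ⟨-, -, hz', hzr⟩ := C.commTerms_weight (r := ⟨a, ha⟩) (s := u) (c := (z', c, 1, 1)) (by rw [ec]; simp)
    have hzz : (⟨z', hz'⟩ : Fin D.nroots) = z := C.G.rho_injective (by rw [e]; simpa using hzr)
    have h2 := allList_spec this.2 (z', c, 1, 1) (by rw [commTermsF_eq h hk ha u.isLt, ec]; simp)
    obtain ⟨hw, hK⟩ := hZ _ h2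
    exact hzz ▸ hK

theorem stepB_spec (hL : IsLaced D C) {j : Fin D.rank} {U : List ℕ} {Z : ℕ} {s : ℕ × ℕ × ℕ}
    (hU : ∀ u : Fin D.nroots, (u = C.G.simp' j ∨ u ∈ spSet C j) → u.val ∈ U)
    (hZ : ∀ w, bitB Z w = true → ∃ hw : w < D.nroots, Killed C j ⟨w, hw⟩)
    (hs : stepB D f U Z s = true) : ∃ hw : s.1 < D.nroots, Killed C j ⟨s.1, hw⟩ := by
  obtain ⟨v, a, b⟩ := s
  simp only [stepB, Bool.and_eq_true, Nat.blt_eq, Bool.not_eq_true', ← Bool.not_eq_true, Nat.beq_eq] at hs
  obtain ⟨⟨⟨⟨⟨⟨⟨hv, ha⟩, hb⟩, hne⟩, hnn⟩, hpa⟩, hpb⟩, hm⟩ := hs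
  refine ⟨hv, ?_⟩
  rw [h.negs a ha] at hnn
  have hne' : (⟨b, hb⟩ : Fin D.nroots) ≠ ⟨a, ha⟩ := fun e => hne (congrArg Fin.val e)
  have hnn' : (⟨b, hb⟩ : Fin D.nroots) ≠ C.G.negr ⟨a, ha⟩ := fun e =>
    hnn ((congrArg Fin.val e).trans (C.G.negr_val ⟨a, ha⟩))
  rw [commTermsF_eq h hk ha hb] at hm
  rcases hL.2.2 ⟨a, ha⟩ ⟨b, hb⟩ hne' hnn' with ⟨e, -⟩ | ⟨z', c, ec, -, -⟩
  · simp only at e
    rw [e] at hm
    simp at hm
  · obtain ⟨-, -, hz', hzr⟩ := C.commTerms_weight (r := ⟨a, ha⟩) (s := ⟨b, hb⟩) (c := (z', c, 1, 1))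
      (by rw [ec]; simp)
    simp only at ec
    rw [ec] at hm
    simp only [Nat.beq_eq] at hm
    subst hm
    obtain ⟨ha1, ha2⟩ := presB_spec C h hk hL ha hU hZ hpa
    obtain ⟨hb1, hb2⟩ := presB_spec C h hk hL hb hU hZ hpb
    exact Killed.step (by simpa using hzr) ha1 hb1 ha2 hb2

theorem node_spec (hL : IsLaced D C) (j : Fin D.rank) {sp allowed : List ℕ} {steps : List (ℕ × ℕ × ℕ)}
    (hal : ∀ i ∈ allowed, i < D.rank) (hc : chkNode D f j.val sp allowed steps = true)
    (v : Fin D.nroots) (hv : D.IsPosRoot v.val) (hne : v ≠ C.G.simp' j) :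
    Killed C j v ∨ ∃ i : Fin D.rank, i.val ∈ allowed ∧ v = C.G.simp' i := by
  simp only [chkNode, Bool.and_eq_true, beq_iff_eq] at hc
  obtain ⟨hsp, hcl⟩ := hc
  have hU : ∀ u : Fin D.nroots, (u = C.G.simp' j ∨ u ∈ spSet C j) → u.val ∈ f.simples.get j.val :: sp := by
    rintro u (rfl | hu)
    · rw [simples_eq C h]; exact List.mem_cons_self
    · rw [← hsp]; exact List.mem_cons_of_mem _ ((spB_spec C h j u.val).2 ⟨u.isLt, hu⟩)
  have hclose : ∀ (steps : List (ℕ × ℕ × ℕ)) (Z : ℕ),
      (∀ w, bitB Z w = true → ∃ hw : w < D.nroots, Killed C j ⟨w, hw⟩) →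
      closeB D f (f.simples.get j.val :: sp) (finB D f j.val allowed) steps Z = true →
      ∃ Z', (∀ w, bitB Z' w = true → ∃ hw : w < D.nroots, Killed C j ⟨w, hw⟩) ∧
        finB D f j.val allowed Z' = true := by
    intro steps
    induction steps with
    | nil => exact fun Z hZ hc => ⟨Z, hZ, hc⟩
    | cons s l ih =>
      intro Z hZ hc
      change (stepB D f _ Z s && closeB D f _ _ l (setB Z s.1)) = true at hc
      rw [Bool.and_eq_true] at hc
      refine ih _ (fun w hw => ?_) hc.2
      rcases bitB_setB hw with rfl | hw'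
      · exact stepB_spec C h hk hL hU hZ hc.1
      · exact hZ w hw'
  obtain ⟨Z', hZ', hfin⟩ := hclose steps (packB sp) (fun w hw => by
    have hm := bitB_packB hw
    rw [← hsp] at hm
    obtain ⟨hr, hs⟩ := (spB_spec C h j w).1 hm
    exact ⟨hr, Killed.base hs⟩) hcl
  have hr := allLt_spec hfin v.val v.isLt
  simp only [Bool.or_eq_true, Bool.not_eq_true', ← Bool.not_eq_true, (posB_iff h).2 hv, not_true,
    false_or, Nat.beq_eq, List.any_eq_true] at hr
  rcases hr with (hr | hr) | ⟨i, hi, hr⟩
  · exact absurd (Fin.ext (hr.trans (simples_eq C h j))) hne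
  · obtain ⟨_, hK⟩ := hZ' _ hr
    exact Or.inl hK
  · exact Or.inr ⟨⟨i, hal i hi⟩, hi, Fin.ext (hr.trans (simples_eq C h ⟨i, hal i hi⟩))⟩

omit hk in
theorem hgF_eq (hρ : ∀ r j, C.G.rho r j = rhoD D f r j) (hlen : lenB D f = true) (r : Fin D.nroots) :
    (hg C r).toNat = hgF f r.val := by
  have key : ∀ (l : List ℤ) (n : ℕ), l.length = n → ∑ j : Fin n, l.getD j.val 0 = l.sum := by
    intro l
    induction l with
    | nil => intro n hn; subst hn; simp
    | cons a l ih =>
      intro n hn
      subst hn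
      rw [List.sum_cons, ← ih l.length rfl]
      exact Fin.sum_univ_succ _
  have hl := allLt_spec hlen r.val r.isLt
  rw [Nat.beq_eq] at hl
  simp only [hg, hρ, rhoD, hgF]
  rw [key _ _ hl]

omit hk in
/-- the count as a sum over the list of heights -/
theorem sum_heights (hρ : ∀ r j, C.G.rho r j = rhoD D f r j) (hlen : lenB D f = true) {L : List ℕ}
    (hp : (heightsB D f).Perm L) (g : ℕ → ℕ) :
    ∑ s ∈ posF D, g ((hg C s).toNat - 1) = (L.map fun a => g (a - 1)).sum := by
  classical
  rw [← (hp.map _).sum_eq, heightsB, List.map_map]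
  have e : ((List.finRange D.nroots).filter fun r => posB D f r.val).map Fin.val =
      (List.range D.nroots).filter (posB D f) := by
    rw [← List.map_coe_finRange_eq_range, List.filter_map]
    rfl
  rw [← e, List.map_map, ← List.sum_toFinset _ ((List.nodup_finRange _).filter _)]
  refine Finset.sum_congr ?_ fun s _ => by rw [hgF_eq C h hρ hlen s]; rfl
  ext s
  simp [posF, posB_iff h]

/-- the root system data from the certificates -/
theorem exists_lsys (hL : IsLaced D C) (adj : Fin D.rank → Fin D.rank → Bool) (N : ℕ) (hN : 0 < N)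
    (hadj : ∀ i j : Fin D.rank, i ≠ j →
      intBeq (ipF f (f.simples.get i.val) (f.simples.get j.val)) (if adj i j then -1 else 0) = true)
    (hirr : ∀ i, adj i i = false) (hnbr : ∀ i, ∃ k, adj i k = true) (root : Fin D.rank)
    (hdepth : ∃ d : Fin D.rank → ℕ, ∀ i, i ≠ root → ∃ j, adj j i = true ∧ d j < d i)
    (sp : Fin D.rank → List ℕ) (hlen : ∀ j, (sp j).length = N) (full : List (Fin D.rank))
    (steps : Fin D.rank → List (ℕ × ℕ × ℕ))
    (hchk : ∀ j : Fin D.rank,
      chkNode D f j.val (sp j) (if j ∈ full then [] else full.map Fin.val) (steps j) = true) :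
    ∃ S : LSys C N, S.adj = adj := by
  obtain ⟨d, hd⟩ := hdepth
  have hspeq : ∀ j : Fin D.rank, spB D f j.val = sp j := fun j => by
    have := hchk j
    simp only [chkNode, Bool.and_eq_true, beq_iff_eq] at this
    exact this.1
  have hfull : ∀ i ∈ full, FullNode C i := fun i hi v hv hne => by
    rcases node_spec C h hk hL i (by rw [if_pos hi]; simp) (hchk i) v hv hne with hK | ⟨k, hk', -⟩
    · exact hK
    · rw [if_pos hi] at hk'; simp at hk'
  refine ⟨
    { laced := hL
      adj := adj
      adj_ip := fun i j hij => ?_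
      adj_ne := fun i j hij e => ?_
      nbr := hnbr
      root := root
      conn := fun P h0 hstep => ?_
      sp := fun j => (List.finRange D.nroots).filter fun r =>
        posB D f r.val && intBeq (ipF f (f.simples.get j.val) r.val) 1
      sp_nodup := fun j => (List.nodup_finRange _).filter _
      sp_mem := fun j u => ?_
      sp_len := fun j => ?_
      npos := hN
      killed := fun j v hv hne => ?_ }, rfl⟩
  · have := intBeq_spec (hadj i j hij)
    rwa [simples_eq C h j, ipF_simple C h] at this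
  · subst e
    rw [hirr] at hij
    exact Bool.false_ne_true hij
  · intro i
    induction hi : d i using Nat.strong_induction_on generalizing i with
    | _ n ih =>
      by_cases hir : i = root
      · exact hir ▸ h0
      · obtain ⟨j, hj, hlt⟩ := hd i hir
        exact hstep j i hj (ih (d j) (hi ▸ hlt) j rfl)
  · have := spB_spec C h j u.val
    rw [spB, List.mem_filter, List.mem_range] at this
    simp only [List.mem_filter, List.mem_finRange, true_and]
    exact ⟨fun hu => (this.1 ⟨u.isLt, hu⟩).2, fun hu => (this.2 ⟨u.isLt, hu⟩).2⟩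
  · rw [← hlen j, ← hspeq j, spB, ← List.map_coe_finRange_eq_range, List.filter_map, List.length_map]
    rfl
  · rcases node_spec C h hk hL j (fun i hi => by
      split_ifs at hi
      · simp at hi
      · obtain ⟨k, -, rfl⟩ := List.mem_map.1 hi; exact k.isLt) (hchk j) v hv hne with hK | ⟨i, hi, e⟩
    · exact Or.inl hK
    · right
      refine ⟨i, e, hfull i ?_⟩
      split_ifs at hi
      · simp at hi
      · obtain ⟨k, hk', ek⟩ := List.mem_map.1 hi
        exact (Fin.ext ek : k = i) ▸ hk'

section tree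

variable {n : ℕ}

/-- one round of spreading an equality -/
def grow (adj : Fin n → Fin n → Bool) (L : List (Fin n)) : List (Fin n) :=
  (List.finRange n).filter fun k => decide (k ∈ L) ||
    L.any fun x => L.any fun y => !(x == y) && adj x k && !(adj y k) && !(k == y)

/-- repeated rounds -/
def growN (adj : Fin n → Fin n → Bool) : ℕ → List (Fin n) → List (Fin n)
  | 0, L => L
  | m + 1, L => growN adj m (grow adj L)

omit h hk in
theorem spreads_of (adj : Fin n → Fin n → Bool) (m : ℕ)
    (hc : ∀ i j : Fin n, i ≠ j → ∀ k, k ∈ growN adj m [i, j]) : TreeOperators.Spreads adj := by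
  intro R hr hs ht hstep i j hij hR
  have key : ∀ (m : ℕ) (L : List (Fin n)), (∀ x ∈ L, R i x) → ∀ x ∈ growN adj m L, R i x := by
    intro m
    induction m with
    | zero => exact fun L hL => hL
    | succ m ih =>
      refine fun L hL => ih _ fun k hk => ?_
      simp only [grow, List.mem_filter, Bool.or_eq_true, decide_eq_true_eq, List.any_eq_true, Bool.and_eq_true,
        Bool.not_eq_true', beq_eq_false_iff_ne] at hk
      rcases hk.2 with hk' | ⟨x, hx, y, hy, ⟨⟨hxy, hxk⟩, hyk⟩, hky⟩
      · exact hL k hk'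
      · exact ht i x k (hL x hx) (hstep x y k hxy (ht x i y (hs i x (hL x hx)) (hL y hy)) hxk hyk hky)
  have hall : ∀ k, R i k := fun k => key m [i, j] (by simp [hr i, hR]) k (hc i j hij k)
  exact fun k l => ht k i l (hs i k (hall k)) (hall l)

end tree

omit h hk in
/-- one step along an arm of the tree equations -/
theorem arm_step {q : ℂ} {P P' P'' x y s c c' : ℂ} (hP : (q + 1) * P' - q * P = P'') (hs : P' * s + q * P * x = 0)
    (he : (q + 1) * x + s + c' * y = 0) (hc : c * c' = q) : P'' * (c * x) + q * P' * y = 0 := by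
  subst hP
  linear_combination c * P' * he - c * hs - P' * y * hc

omit h hk in
/-- the end of an arm -/
theorem arm_end {q : ℂ} {x y c c' : ℂ} (he : (q + 1) * x + c' * y = 0) (hc : c * c' = q) :
    (q + 1) * (c * x) + q * 1 * y = 0 := by
  linear_combination c * he - y * hc

end CfsgLib.MinDeg.LacedRoot
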