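import Cfsg.Agent.Lib.MinDeg.LacedLine

/-!
# Representations of small degree of simply laced groups: the count over the positive roots

Every positive root of height `h` gives, for each nontrivial character, at least `q ^ (h - 1)` dimensions.
-/

set_option autoImplicit false
set_option linter.unusedSectionVars false

namespace CfsgLib.MinDeg.LacedRoot

open Cfsg.Lie CfsgLib.Lie.Chev CfsgLib.Lie.Laced CfsgLib.MinDeg.RootSpace
open scoped MatrixGroups

variable {D : ChevalleyDatum} {C : Full D} {K : Type*} [Field K] [Fintype K]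
variable {V : Type*} [AddCommGroup V] [Module ℂ V] [FiniteDimensional ℂ V]
variable {ρ : Representation ℂ ↥(D.group K) V} {ψ : AddChar K ℂ} {N : ℕ} {S : LSys C N}

local notation "Eg" => Er C ρ ψ
local notation "Zs" => Z C ρ ψ
local notation "α" => C.G.simp'

/-- the positive roots -/
noncomputable def posF (D : ChevalleyDatum) : Finset (Fin D.nroots) :=
  Finset.univ.filter fun v => D.IsPosRoot v.val

theorem mem_posF {v : Fin D.nroots} : v ∈ posF D ↔ D.IsPosRoot v.val := by simp [posF]

namespace Small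

variable (H : Small ρ ψ S)
include H

theorem pattern : ∀ (n : ℕ) (s : Fin D.nroots), D.IsPosRoot s.val → hg C s = (n : ℤ) →
    ∃ L : List (Fin D.nroots), L.Nodup ∧ L.length + 1 = n ∧
      (∀ u ∈ L, D.IsPosRoot u.val ∧ ip D s u = 1 ∧ hg C u < hg C s) ∧
      L.Pairwise (fun u v => 0 ≤ ip D u v) ∧
      ∀ c : K, c ≠ 0 → ∃ x, x ≠ 0 ∧ x ∈ Eg s c ∧ (∀ u ∈ L, x ∈ Eg u 0) ∧
        ∀ v : Fin D.nroots, D.IsPosRoot v.val → hg C s ≤ hg C v → v ≠ s → x ∈ Eg v 0 := by
  intro n
  induction n with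
  | zero => intro s hs h; have := hg_pos (C := C) hs; omega
  | succ n ih =>
    intro s hs h
    by_cases hsimp : ∃ i, s = α i
    · obtain ⟨i, rfl⟩ := hsimp
      rw [hg_simp] at h
      refine ⟨[], List.nodup_nil, by simp; omega, by simp, List.Pairwise.nil, fun c hc => ?_⟩
      obtain ⟨x, hx, hx0⟩ := ne_bot_of_pos (W := Y C ρ ψ i c) (by rw [H.dim_Y i hc]; exact one_pos)
      exact ⟨x, hx0, hx.1, by simp, fun v hv _ hne => mem_Z.1 hx.2 v ⟨hv, hne⟩⟩
    simp only [not_exists] at hsimp
    obtain ⟨i, hi, hp⟩ := exists_desc S.laced hs hsimp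
    set s' := C.G.w i s with hs'
    have hws : C.G.w i s' = s := C.G.w_w i s
    have hh : hg C s' = (n : ℤ) := by rw [hs', hg_w, hi, h]; push_cast; ring
    have hci : cart D i s' = -1 := by
      rw [← ip_simp (C := C), hs', ip_w_right, ip_simp, ip_simp, hi, C.G.cart_simp]; norm_num
    obtain ⟨L, hnd, hlen, hL, hpw, hwit⟩ := ih s' hp hh
    have hne : ∀ u ∈ L, u ≠ α i := fun u hu e => by
      have := (hL u hu).2.1
      rw [e, S.laced.1, ip_simp, hci] at this
      omega
    refine ⟨s' :: L.map (C.G.w i), List.nodup_cons.2 ⟨?_, hnd.map (C.G.w_injective i)⟩, ?_, ?_, ?_, ?_⟩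
    · intro hm
      obtain ⟨u, hu, e⟩ := List.mem_map.1 hm
      have h1 : u = s := by rw [← C.G.w_w i u, e, hws]
      have := (hL u hu).2.2
      rw [h1, h, hh] at this
      push_cast at this
      omega
    · simp [hlen]
    · intro u hu
      rcases List.mem_cons.1 hu with rfl | hu
      · refine ⟨hp, ?_, by omega⟩
        conv_lhs => rw [← hws]
        rw [S.laced.1, ip_w_right, S.laced.2.1, hci, S.laced.1, ip_simp, hci]
        norm_num
      · obtain ⟨u₀, hu₀, rfl⟩ := List.mem_map.1 hu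
        refine ⟨C.G.w_pos (hL u₀ hu₀).1 (hne u₀ hu₀), ?_, ?_⟩
        · conv_lhs => rw [← hws]
          rw [ip_w S.laced]
          exact (hL u₀ hu₀).2.1
        · have := (hL u₀ hu₀).2.2
          have h1 := ip_ge_neg_one S.laced (pos_ne_negr' (C := C) (C.G.simp_pos i) (hL u₀ hu₀).1)
          rw [ip_simp] at h1
          rw [hg_w]
          omega
    · refine List.pairwise_cons.2 ⟨fun u hu => ?_, List.pairwise_map.2 (hpw.imp fun h => by rwa [ip_w S.laced])⟩
      obtain ⟨u₀, hu₀, rfl⟩ := List.mem_map.1 hu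
      have e : ip D s' (C.G.w i u₀) = ip D (C.G.w i s') u₀ := by
        rw [← ip_w S.laced i s', C.G.w_w i u₀]
      rw [e, S.laced.1, ip_w_right, S.laced.1 u₀, (hL u₀ hu₀).2.1, hci, S.laced.1 u₀, ip_simp]
      have h1 := ip_ge_neg_one S.laced (pos_ne_negr' (C := C) (C.G.simp_pos i) (hL u₀ hu₀).1)
      rw [ip_simp] at h1
      omega
    · intro c hc
      obtain ⟨ε, hε, hn⟩ := n_act (C := C) (ρ := ρ) (ψ := ψ) i s'
      rw [hws] at hn
      obtain ⟨x, hx0, hxs, hxL, hxh⟩ := hwit (ε⁻¹ * c) (mul_ne_zero (inv_ne_zero hε) hc)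
      refine ⟨ρ (nG C i) x, fun e => hx0 (rho_inj _ (e.trans (map_zero _).symm)), ?_, fun u hu => ?_,
        fun v hv hvh hvs => ?_⟩
      · have := hn _ x hxs
        rwa [mul_inv_cancel_left₀ hε] at this
      · rcases List.mem_cons.1 hu with rfl | hu
        · exact n_zero i (hxh _ (by rw [hws]; exact hs) (by rw [hws]; omega) (by
            rw [hws]; intro e; rw [← e] at hh; omega))
        · obtain ⟨u₀, hu₀, rfl⟩ := List.mem_map.1 hu
          exact n_zero i (by rw [C.G.w_w]; exact hxL u₀ hu₀)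
      · have hva : v ≠ α i := fun e => by
          rw [e, hg_simp] at hvh
          have := hg_pos (C := C) hp
          omega
        refine n_zero i (hxh _ (C.G.w_pos hv hva) ?_ fun e => hvs (C.G.w_injective i e))
        have h1 : cart D i v ≤ 1 := by
          rw [← ip_simp (C := C)]
          rcases ip_le S.laced (α i) v hva (pos_ne_negr' (C := C) hv (C.G.simp_pos i)) with e | e | e <;> omega
        rw [hg_w i v, hh]
        omega

theorem piece {s : Fin D.nroots} (hs : D.IsPosRoot s.val) (T : Set (Fin D.nroots))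
    (hT : ∀ v ∈ T, D.IsPosRoot v.val ∧ v ≠ s ∧ hg C s ≤ hg C v)
    (hup : ∀ v : Fin D.nroots, D.IsPosRoot v.val → hg C s < hg C v → v ∈ T) :
    Inv C ρ s (Zs T) ∧ ∀ c : K, c ≠ 0 →
      Fintype.card K ^ ((hg C s).toNat - 1) ≤ Module.finrank ℂ ↥(Zs T ⊓ Eg s c) := by
  have hinv : ∀ r : Fin D.nroots, D.IsPosRoot r.val → Inv C ρ r (Zs T) := fun r hr =>
    inv_Z S.laced fun v hv => ⟨pos_ne_negr' hr (hT v hv).1, fun z e => hup z (pos_add hr (hT v hv).1 e) (by
      have := hg_pos (C := C) hr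
      have := (hT v hv).2.2
      rw [hg_add e]
      omega)⟩
  refine ⟨hinv s hs, fun c hc => ?_⟩
  obtain ⟨n, hn⟩ : ∃ n : ℕ, hg C s = (n : ℤ) := ⟨_, (Int.toNat_of_nonneg (hg_pos hs).le).symm⟩
  obtain ⟨L, hnd, hlen, hL, hpw, hwit⟩ := H.pattern n s hs hn
  have hb := block (ρ := ρ) S.laced H.prim hc L hnd (fun u hu => (hL u hu).2.1) hpw (Zs T ⊓ Eg s c) inf_le_right
    (fun u hu => (hinv u (hL u hu).1).inf (inv_E S.laced (by rw [S.laced.1, (hL u hu).2.1]; norm_num) c))
    fun u hu r hr => by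
      refine (hinv r (pos_of_hg (C := C) ?_)).inf (inv_E S.laced ?_ c)
      · have := hg_add hr
        have := (hL u hu).2.2
        omega
      · have := ip_add (C := C) s hr
        rw [S.laced.2.1, (hL u hu).2.1] at this
        rw [S.laced.1]
        omega
  obtain ⟨x, hx0, hxs, hxL, hxh⟩ := hwit c hc
  have hpos : 0 < Module.finrank ℂ ↥(Zs T ⊓ Eg s c ⊓ Zs {u | u ∈ L}) :=
    finrank_pos_iff'.2 ((Submodule.ne_bot_iff _).2 ⟨x, ⟨⟨mem_Z.2 fun v hv =>
      hxh v (hT v hv).1 (hT v hv).2.2 (hT v hv).2.1, hxs⟩, mem_Z.2 hxL⟩, hx0⟩)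
  rw [hb, show (hg C s).toNat - 1 = L.length by rw [hn]; omega]
  exact Nat.le_mul_of_pos_right _ hpos

theorem count : (∑ s ∈ posF D, (Fintype.card K - 1) * Fintype.card K ^ ((hg C s).toNat - 1)) +
    Module.finrank ℂ ↥(Zs {v | D.IsPosRoot v.val}) ≤ Module.finrank ℂ V := by
  classical
  suffices ∀ (n : ℕ) (T : Finset (Fin D.nroots)), T ⊆ posF D → (posF D \ T).card = n →
      (∀ v ∈ T, ∀ u ∈ posF D, u ∉ T → hg C u ≤ hg C v) →
      (∑ s ∈ posF D \ T, (Fintype.card K - 1) * Fintype.card K ^ ((hg C s).toNat - 1)) +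
        Module.finrank ℂ ↥(Zs {v | D.IsPosRoot v.val}) ≤ Module.finrank ℂ ↥(Zs (T : Set (Fin D.nroots))) by
    have h := this _ ∅ (Finset.empty_subset _) rfl (by simp)
    rw [Finset.sdiff_empty] at h
    exact h.trans (Submodule.finrank_le _)
  intro n
  induction n with
  | zero =>
    intro T hT hc _
    rw [Finset.card_eq_zero] at hc
    rw [hc, Finset.sum_empty, zero_add]
    refine Submodule.finrank_mono (Z_mono fun v hv => mem_posF.1 (hT hv))
  | succ n ih =>
    intro T hT hc hup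
    obtain ⟨s, hs, hmax⟩ := Finset.exists_max_image (posF D \ T) (hg C) (Finset.card_pos.1 (by omega))
    rw [Finset.mem_sdiff] at hs
    obtain ⟨hinv, hpc⟩ := H.piece (mem_posF.1 hs.1) (T : Set (Fin D.nroots))
      (fun v hv => ⟨mem_posF.1 (hT hv), fun e => hs.2 (e ▸ hv), hup v hv s hs.1 hs.2⟩)
      fun v hv hlt => by
        by_contra hvT
        have := hmax v (Finset.mem_sdiff.2 ⟨mem_posF.2 hv, hvT⟩)
        omega
    have h1 := decomp_ge (C := C) (ρ := ρ) H.prim s.val (Zs (T : Set (Fin D.nroots))) hinv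
      (c := Fintype.card K ^ ((hg C s).toNat - 1)) hpc
    have e : Zs (T : Set (Fin D.nroots)) ⊓ Eg s 0 = Zs (↑(insert s T) : Set (Fin D.nroots)) := by
      ext x
      simp [mem_Z, and_comm]
    have e2 : posF D \ T = insert s (posF D \ insert s T) := by
      ext v
      simp only [Finset.mem_sdiff, Finset.mem_insert]
      constructor
      · intro h
        by_cases hv : v = s
        · exact Or.inl hv
        · exact Or.inr ⟨h.1, by simp [hv, h.2]⟩
      · rintro (rfl | h)
        exacts [hs, ⟨h.1, fun h' => h.2 (Or.inr h')⟩]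
    have hns : s ∉ posF D \ insert s T := by simp
    have hc' : (posF D \ insert s T).card = n := by
      rw [e2, Finset.card_insert_of_notMem hns] at hc
      omega
    have h2 := ih (insert s T) (Finset.insert_subset hs.1 hT) hc' fun v hv u hu huT => by
      rw [Finset.mem_insert] at hv
      have huT' : u ∉ T := fun h => huT (Finset.mem_insert_of_mem h)
      rcases hv with rfl | hv
      · exact hmax u (Finset.mem_sdiff.2 ⟨hu, huT'⟩)
      · exact hup v hv u hu huT'
    rw [e2, Finset.sum_insert hns]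
    rw [← e] at h2
    unfold Er at h2
    omega

end Small

end CfsgLib.MinDeg.LacedRoot
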