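import Cfsg.Agent.Lib.MinDeg.LacedCusp

/-!
# Representations of small degree of simply laced groups: the Hecke operators

`T i` is the sum over the fundamental root subgroup after `n_i`, on the vectors fixed by the positive
unipotent group; on those also fixed by the torus it is quadratic, and the braid relations hold.
-/

set_option autoImplicit false
set_option linter.unusedSectionVars false

namespace CfsgLib.MinDeg.LacedRoot

open Cfsg.Lie CfsgLib.Lie.Chev CfsgLib.Lie.Laced CfsgLib.MinDeg.RootSpace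
open scoped MatrixGroups

variable {D : ChevalleyDatum} {C : Full D} {K : Type*} [Field K] [Fintype K]
variable {V : Type*} [AddCommGroup V] [Module ℂ V] [FiniteDimensional ℂ V]
variable {ρ : Representation ℂ ↥(D.group K) V} {ψ : AddChar K ℂ}

local notation "Eg" => Er C ρ ψ
local notation "Zs" => Z C ρ ψ
local notation "α" => C.G.simp'

/-- an element of the torus -/
def InH (g : ↥(D.group K)) : Prop := (g : GL D.Idx K) ∈ D.diagonalSubgroup K

variable (C ρ ψ) in
/-- the vectors fixed by the positive root subgroups -/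
noncomputable def U0 : Submodule ℂ V := Z C ρ ψ {v | D.IsPosRoot v.val}

variable (C ρ ψ) in
/-- those fixed also by the torus -/
noncomputable def W1 : Submodule ℂ V :=
  U0 C ρ ψ ⊓ ⨅ g ∈ {g : ↥(D.group K) | InH g}, Module.End.eigenspace (ρ g) 1

theorem mem_W1 {x : V} : x ∈ W1 C ρ ψ ↔ x ∈ U0 C ρ ψ ∧ ∀ g : ↥(D.group K), InH g → ρ g x = x := by
  simp [W1, Submodule.mem_iInf, Module.End.mem_eigenspace_iff]

variable (C ρ) in
/-- the operator of a fundamental reflection -/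
noncomputable def T (i : Fin D.rank) : Module.End ℂ V :=
  (∑ t : K, ρ (X C (C.G.simp' i) t)) * ρ (nG C i)

theorem T_apply (i : Fin D.rank) (x : V) :
    T C ρ i x = ∑ t : K, ρ (X C (α i) t) (ρ (nG C i) x) := by
  simp [T, LinearMap.sum_apply]

/-- a monomial element permutes the sums over root subgroups -/
theorem conj_sum {g : ↥(D.group K)} {π : Equiv.Perm (Fin D.nroots)} (h : C.G.NPerm (g : GL D.Idx K) π)
    (r : Fin D.nroots) (z : V) :
    ρ g (∑ t : K, ρ (X C r t) z) = ∑ t : K, ρ (X C (π r) t) (ρ g z) := by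
  obtain ⟨d, hd⟩ := h r
  have e : ∀ t, X C (π r) ((d : K) * t) * g = g * X C r t := fun t => Subtype.ext (by
    show (X C (π r) ((d : K) * t) : GL D.Idx K) * (g : GL D.Idx K) = (g : GL D.Idx K) * (X C r t : GL D.Idx K)
    rw [X_coe, X_coe, ← hd, inv_mul_cancel_right])
  rw [map_sum]
  refine Fintype.sum_equiv (Equiv.mulLeft₀ (d : K) d.ne_zero) _ _ fun t => ?_
  rw [← rho_mul, ← rho_mul]
  exact congrArg (fun h => ρ h z) (e t).symm

theorem InH.perm {g : ↥(D.group K)} (h : InH g) : C.G.NPerm (g : GL D.Idx K) 1 := C.G.nPerm_H h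

theorem InH.zero {g : ↥(D.group K)} (h : InH g) {u : Fin D.nroots} {x : V} (hx : x ∈ Eg u 0) :
    ρ g x ∈ Eg u 0 :=
  mono_zero h.perm (by rwa [inv_one, Equiv.Perm.one_apply])

theorem InH.U0 {g : ↥(D.group K)} (h : InH g) {x : V} (hx : x ∈ U0 C ρ ψ) : ρ g x ∈ U0 C ρ ψ :=
  mem_Z.2 fun u hu => h.zero (mem_Z.1 hx u hu)

theorem InH.hG (r : Fin D.nroots) (t : Kˣ) : InH (hG C r t : ↥(D.group K)) := C.G.hd_mem_H r t

theorem InH.conj {g : ↥(D.group K)} (h : InH g) (i : Fin D.rank) :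
    InH ((nG C i)⁻¹ * g * nG C i) ∧ InH (nG C i * g * (nG C i)⁻¹) := by
  have hn := C.G.nU_mem_normalizer (K := K) i
  exact ⟨(Subgroup.mem_normalizer_iff''.1 hn _).1 h, (Subgroup.mem_normalizer_iff.1 hn _).1 h⟩

theorem InH.nsq (i : Fin D.rank) : InH (nG C i * nG C i : ↥(D.group K)) := C.G.nU_sq i

theorem InH.inv {g : ↥(D.group K)} (h : InH g) : InH g⁻¹ := inv_mem h

/-- monomial elements with the same permutation agree on the vectors fixed by the torus -/
theorem act_eq_of_perm {g g' : ↥(D.group K)} {π : Equiv.Perm (Fin D.nroots)}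
    (hm : (g : GL D.Idx K) ∈ D.monomialSubgroup K) (hm' : (g' : GL D.Idx K) ∈ D.monomialSubgroup K)
    (h : C.G.NPerm (g : GL D.Idx K) π) (h' : C.G.NPerm (g' : GL D.Idx K) π)
    {x : V} (hx : ∀ g : ↥(D.group K), InH g → ρ g x = x) : ρ g x = ρ g' x := by
  have hH : InH (g⁻¹ * g') := C.G.mem_H_of_nPerm_one (mul_mem (inv_mem hm) hm') (by
    have := Good.NPerm.mul C.G (Good.NPerm.inv C.G h) h'
    rwa [inv_mul_cancel] at this)
  conv_lhs => rw [← hx _ hH]
  rw [← rho_mul, mul_inv_cancel_left]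

theorem mono_mul {g g' : ↥(D.group K)} (h : (g : GL D.Idx K) ∈ D.monomialSubgroup K)
    (h' : (g' : GL D.Idx K) ∈ D.monomialSubgroup K) :
    ((g * g' : ↥(D.group K)) : GL D.Idx K) ∈ D.monomialSubgroup K := by
  rw [Subgroup.coe_mul]; exact mul_mem h h'

theorem perm_mul {g g' : ↥(D.group K)} {π σ : Equiv.Perm (Fin D.nroots)}
    (h : C.G.NPerm (g : GL D.Idx K) π) (h' : C.G.NPerm (g' : GL D.Idx K) σ) :
    C.G.NPerm ((g * g' : ↥(D.group K)) : GL D.Idx K) (π * σ) := by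
  rw [Subgroup.coe_mul]; exact Good.NPerm.mul C.G h h'

theorem nG_mono (i : Fin D.rank) :
    ((nG C i : ↥(D.group K)) : GL D.Idx K) ∈ D.monomialSubgroup K := C.G.nU_mem_monomial i

theorem H_T {g : ↥(D.group K)} (h : InH g) (i : Fin D.rank) (x : V) :
    ρ g (T C ρ i x) = T C ρ i (ρ ((nG C i)⁻¹ * g * nG C i) x) := by
  rw [T_apply, T_apply, conj_sum h.perm, Equiv.Perm.one_apply]
  refine Finset.sum_congr rfl fun t _ => ?_
  rw [← rho_mul g, ← rho_mul (nG C i)]
  congr 3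
  group

theorem n_X_neg (i : Fin D.rank) (z : V) :
    ρ (nG C i) (∑ t : K, ρ (X C (α i) t) z) = ∑ t : K, ρ (X C (C.G.negr (α i)) t) (ρ (nG C i) z) := by
  rw [conj_sum (nG_perm i), C.G.sP_apply, C.G.w_simp]

theorem T_n_inv (i : Fin D.rank) (x : V) :
    ∑ t : K, ρ (X C (α i) t) (ρ (nG C i)⁻¹ x) =
      T C ρ i (ρ (nG C i * nG C i)⁻¹ x) := by
  rw [T_apply]
  refine Finset.sum_congr rfl fun t _ => ?_
  rw [← rho_mul (nG C i)]
  congr 3
  group

theorem sum_neg_eq (i : Fin D.rank) (x : V) :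
    ∑ t : K, ρ (X C (C.G.negr (α i)) t) x = ρ (nG C i) (T C ρ i (ρ (nG C i * nG C i)⁻¹ x)) := by
  rw [← T_n_inv, n_X_neg, rho_self_inv]

theorem nR_simp (i : Fin D.rank) {t : K} (ht : t ≠ 0) :
    nR C (α i) t = hG C (α i) (Units.mk0 t ht) * nG C i := Subtype.ext (by
  show C.G.nE (α i) t = C.G.hd (α i) (Units.mk0 t ht) * C.G.nU i
  rw [← C.G.nE_simp, Units.val_mk0])

theorem neg_act (i : Fin D.rank) {s : K} (hs : s ≠ 0) {x : V} (hx : x ∈ Eg (α i) 0) :
    ρ (X C (C.G.negr (α i)) s) x = ρ (X C (α i) s⁻¹)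
      (ρ (hG C (α i) (Units.mk0 (-s⁻¹) (neg_ne_zero.2 (inv_ne_zero hs)))) (ρ (nG C i) x)) := by
  rw [X_opp, rho_mul, rho_mul, mem_E_zero.1 hx, nR_simp i (neg_ne_zero.2 (inv_ne_zero hs)), rho_mul]

theorem fix_of_neg (i : Fin D.rank) {x : V} (h1 : x ∈ Eg (α i) 0) (h2 : x ∈ Eg (C.G.negr (α i)) 0) :
    ρ (nG C i) x = x := by
  have e : nG C (K := K) i = X C (α i) 1 * X C (C.G.negr (α i)) (-1) * X C (α i) 1 := Subtype.ext (by
    show C.G.nU i = _
    rw [Subgroup.coe_mul, Subgroup.coe_mul, X_coe, X_coe, Good.nU])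
  rw [e, rho_mul, rho_mul, mem_E_zero.1 h1, mem_E_zero.1 h2, mem_E_zero.1 h1]

theorem simp_fix {i : Fin D.rank} {x : V} (hx : x ∈ U0 C ρ ψ) : x ∈ Eg (α i) 0 :=
  mem_Z.1 hx _ (C.G.simp_pos i)

variable {N : ℕ} {S : LSys C N}

namespace LSys

variable (S)
include S

theorem T_mem (i : Fin D.rank) {x : V} (hx : x ∈ U0 C ρ ψ) : T C ρ i x ∈ U0 C ρ ψ := by
  rw [T_apply]
  have h1 : ρ (nG C i) x ∈ Zs {v | D.IsPosRoot v.val ∧ v ≠ α i} :=
    n_others i (Z_mono (T := {v | D.IsPosRoot v.val}) (fun v hv => hv.1) hx)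
  refine mem_Z.2 fun v hv => ?_
  by_cases hv' : v = α i
  · subst hv'
    exact sum_mem_zero (α i) _
  · have h2 : (∑ t : K, ρ (X C (α i) t) (ρ (nG C i) x)) ∈ Zs {v | D.IsPosRoot v.val ∧ v ≠ α i} :=
      Submodule.sum_mem _ fun t _ => S.inv_others (ρ := ρ) (ψ := ψ) i (α i) (Or.inl rfl) t _ h1
    exact mem_Z.1 h2 v ⟨hv, hv'⟩

theorem T_W1 (i : Fin D.rank) {x : V} (hx : x ∈ W1 C ρ ψ) : T C ρ i x ∈ W1 C ρ ψ := by
  rw [mem_W1] at hx ⊢
  exact ⟨S.T_mem i hx.1, fun g hg => by rw [H_T hg, hx.2 _ (hg.conj i).1]⟩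

open Classical in
/-- the translates under the opposite root subgroup, averaged -/
theorem avg_neg (i : Fin D.rank) {x : V} (hx : x ∈ Eg (α i) 0) :
    ∃ g : K → ↥(D.group K), (∀ s, InH (g s)) ∧
      ∑ r : K, ρ (X C (α i) r) (∑ s : K, ρ (X C (C.G.negr (α i)) s) x) =
        (Fintype.card K : ℂ) • x + ∑ s ∈ Finset.univ.erase (0 : K), ρ (g s) (T C ρ i x) := by
  classical
  refine ⟨fun s => if hs : s = 0 then 1 else hG C (α i) (Units.mk0 (-s⁻¹) (neg_ne_zero.2 (inv_ne_zero hs))),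
    fun s => ?_, ?_⟩
  · simp only
    split_ifs
    exacts [one_mem _, InH.hG _ _]
  simp only [map_sum]
  rw [Finset.sum_comm, ← Finset.add_sum_erase _ _ (Finset.mem_univ (0 : K))]
  congr 1
  · rw [show X C (C.G.negr (α i)) (0 : K) = 1 from gx_zero C _, map_one, Module.End.one_apply,
      Finset.sum_congr rfl fun r _ => mem_E_zero.1 hx r, Finset.sum_const, Finset.card_univ,
      Nat.cast_smul_eq_nsmul]
  · refine Finset.sum_congr rfl fun s hs => ?_
    have hs0 := Finset.ne_of_mem_erase hs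
    rw [dif_neg hs0, neg_act i hs0 hx, sum_absorb, T_apply,
      conj_sum (InH.hG (α i) _).perm, Equiv.Perm.one_apply]

theorem T_inj (i : Fin D.rank) {x : V} (hx : x ∈ Eg (α i) 0) (h0 : T C ρ i x = 0) : x = 0 := by
  obtain ⟨g, -, hg⟩ := S.avg_neg i hx
  have hc := ((InH.nsq (C := C) (K := K) i).inv.conj (C := C) i).2
  have h1 := H_T (C := C) (ρ := ρ) hc i x
  rw [h0, map_zero, show (nG C i)⁻¹ * (nG C i * (nG C i * nG C i)⁻¹ * (nG C i)⁻¹) * nG C i =
    (nG C i * nG C i : ↥(D.group K))⁻¹ by group] at h1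
  simp only [h0, sum_neg_eq i x, ← h1, map_zero, Finset.sum_const_zero, add_zero] at hg
  exact (smul_eq_zero.1 hg.symm).resolve_left (Nat.cast_ne_zero.2 Fintype.card_ne_zero)

theorem sum_neg_W1 (i : Fin D.rank) {x : V} (hx : x ∈ W1 C ρ ψ) :
    ∑ t : K, ρ (X C (C.G.negr (α i)) t) x = ρ (nG C i) (T C ρ i x) := by
  rw [sum_neg_eq, (mem_W1.1 hx).2 _ (InH.nsq i).inv]

theorem T_sq (i : Fin D.rank) {x : V} (hx : x ∈ W1 C ρ ψ) :
    T C ρ i (T C ρ i x) = (Fintype.card K : ℂ) • x + ((Fintype.card K : ℂ) - 1) • T C ρ i x := by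
  classical
  obtain ⟨g, hgH, hg⟩ := S.avg_neg i (simp_fix (mem_W1.1 hx).1)
  rw [T_apply, ← S.sum_neg_W1 i hx, hg, Finset.sum_congr rfl fun s _ => (mem_W1.1 (S.T_W1 i hx)).2 _ (hgH s),
    Finset.sum_const, Finset.card_erase_of_mem (Finset.mem_univ _), Finset.card_univ,
    ← Nat.cast_smul_eq_nsmul ℂ, Nat.cast_sub Fintype.card_pos, Nat.cast_one]

theorem fix_of_T (i : Fin D.rank) {x : V} (hx : x ∈ W1 C ρ ψ) (h : T C ρ i x = (Fintype.card K : ℂ) • x) :
    ρ (nG C i) x = x ∧ x ∈ Eg (C.G.negr (α i)) 0 := by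
  classical
  obtain ⟨hx0, hxH⟩ := mem_W1.1 hx
  set y := ρ (nG C i) x
  have hy : ∀ t : Kˣ, ρ (hG C (α i) t) y = y := fun t => by
    show ρ _ (ρ (nG C i) x) = _
    rw [← rho_mul, show hG C (α i) t * nG C i = nG C i * ((nG C i)⁻¹ * hG C (α i) t * nG C i) by group, rho_mul,
      hxH _ ((InH.hG (α i) t).conj i).1]
  have h1 := S.sum_neg_W1 i hx
  rw [h, map_smul] at h1
  have h2 : ∑ s : K, ρ (X C (C.G.negr (α i)) s) x = x + (T C ρ i x - y) := by
    have e : ∀ s : K, s ≠ 0 → ρ (X C (C.G.negr (α i)) s) x = ρ (X C (α i) s⁻¹) y := fun s hs => by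
      rw [neg_act i hs (simp_fix hx0), hy]
    rw [T_apply, ← Finset.add_sum_erase _ _ (Finset.mem_univ (0 : K)),
      Finset.sum_congr rfl fun s hs => e s (Finset.ne_of_mem_erase hs)]
    rw [show X C (C.G.negr (α i)) (0 : K) = 1 from gx_zero C _, map_one, Module.End.one_apply]
    congr 1
    rw [← Fintype.sum_equiv (Equiv.inv K) (fun s => ρ (X C (α i) s⁻¹) y) (fun s => ρ (X C (α i) s) y) (fun s => rfl),
      ← Finset.add_sum_erase _ _ (Finset.mem_univ (0 : K)), inv_zero,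
      show X C (α i) (0 : K) = 1 from gx_zero C _, map_one, Module.End.one_apply, add_sub_cancel_left]
  rw [h1, h] at h2
  have h3 : ((Fintype.card K : ℂ) + 1) • (y - x) = 0 := by
    have : (Fintype.card K : ℂ) • y + y - ((Fintype.card K : ℂ) • x + x) = 0 := by rw [h2]; abel
    rw [← this]
    module
  have hyx : y = x := sub_eq_zero.1 ((smul_eq_zero.1 h3).resolve_left
    (by exact_mod_cast Nat.succ_ne_zero (Fintype.card K)))
  refine ⟨hyx, ?_⟩
  rw [← hyx]
  refine n_zero i ?_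
  rw [C.G.w_negr, C.G.w_simp, C.G.negr_negr]
  exact simp_fix hx0

theorem T_comm {i j : Fin D.rank} (hij : i ≠ j) (h : S.adj i j = false) {x : V} (hx : x ∈ W1 C ρ ψ) :
    T C ρ i (T C ρ j x) = T C ρ j (T C ρ i x) := by
  have h0 : ip D (α i) (α j) = 0 := by rw [S.adj_ip i j hij, h]; simp
  have hw : ∀ i j : Fin D.rank, ip D (α i) (α j) = 0 → C.G.w i (α j) = α j := fun i j h0 => by
    refine C.G.rho_injective ?_
    rw [C.G.rho_w, ← ip_simp, h0, zero_smul, sub_zero]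
  have h0' : ip D (α j) (α i) = 0 := by rw [S.laced.1, h0]
  have hperm : C.G.sP i * C.G.sP j = C.G.sP j * C.G.sP i := by
    refine Equiv.ext fun r => C.G.rho_injective ?_
    simp only [Equiv.Perm.mul_apply, C.G.sP_apply, C.G.rho_w, C.G.cart_w, ← ip_simp (C := C) i (α j),
      ← ip_simp (C := C) j (α i), h0, h0']
    module
  have hN := act_eq_of_perm (C := C) (g := (nG C i * nG C j : ↥(D.group K))) (g' := (nG C j * nG C i : ↥(D.group K)))
    (mono_mul (nG_mono i) (nG_mono j)) (mono_mul (nG_mono j) (nG_mono i))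
    (perm_mul (nG_perm i) (nG_perm j)) (by rw [hperm]; exact perm_mul (nG_perm j) (nG_perm i)) (mem_W1.1 hx).2
  rw [rho_mul, rho_mul] at hN
  rw [T_apply i (T C ρ j x), T_apply j x, conj_sum (nG_perm i), C.G.sP_apply, hw i j h0, T_apply j (T C ρ i x),
    T_apply i x, conj_sum (nG_perm j), C.G.sP_apply, hw j i h0', hN]
  simp only [map_sum]
  rw [Finset.sum_comm]
  refine Finset.sum_congr rfl fun s _ => Finset.sum_congr rfl fun t _ => ?_
  rw [← rho_mul, comm0 S.laced (le_of_eq h0'.symm), rho_mul]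

theorem T_braid {a b : Fin D.rank} (hab : S.adj a b = true) {x : V} (hx : x ∈ W1 C ρ ψ) :
    T C ρ a (T C ρ b (T C ρ a x)) = T C ρ b (T C ρ a (T C ρ b x)) := by
  have hba := S.adj_symm hab
  have hne := S.adj_ne a b hab
  have hL := S.laced
  set cc := C.G.w a (α b) with hcc
  have hrc : C.G.rho cc = C.G.rho (α a) + C.G.rho (α b) := S.rho_adj hab
  have hwb : C.G.w b (α a) = cc := C.G.rho_injective (by rw [hrc, S.rho_adj hba, add_comm])
  have h1 : cart D a (α b) = -1 := by rw [← ip_simp (C := C), S.adj_ip a b hne, hab, if_pos rfl]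
  have h2 : cart D b (α a) = -1 := by rw [← ip_simp (C := C), S.adj_ip b a hne.symm, hba, if_pos rfl]
  have hperm : C.G.sP a * (C.G.sP b * C.G.sP a) = C.G.sP b * (C.G.sP a * C.G.sP b) := by
    refine Equiv.ext fun r => C.G.rho_injective ?_
    simp only [Equiv.Perm.mul_apply, C.G.sP_apply, C.G.rho_w, C.G.cart_w, h1, h2, C.G.cart_simp]
    module
  have hN := act_eq_of_perm (C := C) (g := (nG C a * (nG C b * nG C a) : ↥(D.group K)))
    (g' := (nG C b * (nG C a * nG C b) : ↥(D.group K)))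
    (mono_mul (nG_mono a) (mono_mul (nG_mono b) (nG_mono a)))
    (mono_mul (nG_mono b) (mono_mul (nG_mono a) (nG_mono b)))
    (perm_mul (nG_perm a) (perm_mul (nG_perm b) (nG_perm a)))
    (by rw [hperm]; exact perm_mul (nG_perm b) (perm_mul (nG_perm a) (nG_perm b))) (mem_W1.1 hx).2
  simp only [rho_mul] at hN
  have e : ∀ (a b : Fin D.rank), C.G.w b (α a) = C.G.w a (α b) → ∀ z,
      T C ρ a (T C ρ b (T C ρ a z)) = ∑ r : K, ρ (X C (α a) r) (∑ s : K, ρ (X C (C.G.w a (α b)) s)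
        (∑ t : K, ρ (X C (α b) t) (ρ (nG C a) (ρ (nG C b) (ρ (nG C a) z))))) := by
    intro a b hw z
    simp only [T_apply]
    refine Finset.sum_congr rfl fun r _ => congrArg _ ?_
    rw [conj_sum (nG_perm a), C.G.sP_apply]
    refine Finset.sum_congr rfl fun s _ => congrArg _ ?_
    rw [conj_sum (nG_perm b), C.G.sP_apply, conj_sum (nG_perm a), C.G.sP_apply, hw, C.G.w_w]
  rw [e a b hwb, e b a hwb.symm, hwb, ← hcc, hN]
  set z := ρ (nG C b) (ρ (nG C a) (ρ (nG C b) x))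
  have hipac : 0 ≤ ip D (α a) cc := by
    rw [ip_add (C := C) (α a) hrc, hL.2.1, ip_simp, h1]; norm_num
  have hipbc : 0 ≤ ip D (α b) cc := by
    rw [ip_add (C := C) (α b) hrc, hL.2.1, ip_simp, h2]; norm_num
  obtain ⟨k, -, hk⟩ := comm1 (K := K) hL hrc
  simp only [map_sum]
  conv_rhs => rw [Finset.sum_comm, Finset.sum_congr rfl fun s _ => Finset.sum_comm, Finset.sum_comm]
  refine Finset.sum_congr rfl fun r _ => ?_
  conv_rhs => rw [Finset.sum_comm]
  conv_lhs => rw [Finset.sum_comm]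
  refine Finset.sum_congr rfl fun t _ => ?_
  refine (Fintype.sum_equiv (Equiv.addRight (k * r * t)) _ _ fun s => ?_).symm
  have hg : X C (α b) t * (X C cc s * X C (α a) r) =
      X C (α a) r * (X C cc (s + k * r * t) * X C (α b) t) := by
    have h3 : ∀ u v : K, X C cc u * X C (α b) v = X C (α b) v * X C cc u := fun u v => comm0 hL hipbc v u
    have h4 : ∀ u v : K, X C cc u * X C (α a) v = X C (α a) v * X C cc u := fun u v => comm0 hL hipac v u
    calc X C (α b) t * (X C cc s * X C (α a) r) = X C cc s * (X C (α b) t * X C (α a) r) := by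
          rw [← mul_assoc, ← h3, mul_assoc]
      _ = X C cc s * (X C (α a) r * X C (α b) t * X C cc (k * r * t)) := by rw [hk]
      _ = X C (α a) r * (X C cc s * X C (α b) t * X C cc (k * r * t)) := by
          simp only [← mul_assoc, h4]
      _ = X C (α a) r * (X C cc (s + k * r * t) * X C (α b) t) := by
          rw [mul_assoc (X C cc s), ← h3, ← mul_assoc (X C cc s), ← gx_add]
  simp only [Equiv.coe_addRight, ← rho_mul]
  rw [hg]

end LSys

namespace Small

variable (H : Small ρ ψ S)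
include H

/-- the image of `T i - q` on the vectors fixed by the Borel subgroup comes from one line -/
theorem exists_line_map (i : Fin D.rank) : ∃ L : ↥(W1 C ρ ψ) →ₗ[ℂ] ↥(Y C ρ ψ i (1 : K)),
    ∀ x, L x = 0 → T C ρ i (x : V) = (Fintype.card K : ℂ) • (x : V) := by
  have hinv := S.inv_others (ρ := ρ) (ψ := ψ) i (α i) (Or.inl rfl)
  have hn : ∀ x ∈ W1 C ρ ψ, ρ (nG C i) x ∈ Zs {v | D.IsPosRoot v.val ∧ v ≠ α i} := fun x hx =>
    n_others i (Z_mono (T := {v | D.IsPosRoot v.val}) (fun v hv => hv.1) (mem_W1.1 hx).1)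
  refine ⟨LinearMap.codRestrict _ ((proj C ρ ψ (α i).val 1).comp ((ρ (nG C i)).comp (W1 C ρ ψ).subtype))
    fun x => ⟨proj_mem_E _ _ _, proj_mem 1 hinv (hn x.1 x.2)⟩, ?_⟩
  rintro ⟨x, hx⟩ hL
  have h1 : proj C ρ ψ (α i).val 1 (ρ (nG C i) x) = 0 := congrArg Subtype.val hL
  obtain ⟨hx0, hxH⟩ := mem_W1.1 hx
  obtain ⟨k, hk⟩ := S.nbr i
  have hall : ∀ c : K, c ≠ 0 → proj C ρ ψ (α i).val c (ρ (nG C i) x) = 0 := fun c hc => by
    set g := hG C (α k) (Units.mk0 c hc)
    have hgx : ρ g (ρ (nG C i) x) = ρ (nG C i) x := by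
      rw [← rho_mul, show g * nG C i = nG C i * ((nG C i)⁻¹ * g * nG C i) by group, rho_mul,
        hxH _ ((InH.hG (α k) _).conj i).1]
    have hg : ∀ t : K, X C (α i) (c⁻¹ * t) * g = g * X C (α i) t := fun t => Subtype.ext (by
      show (X C (α i) (c⁻¹ * t) : GL D.Idx K) * (g : GL D.Idx K) = (g : GL D.Idx K) * (X C (α i) t : GL D.Idx K)
      rw [X_coe, X_coe]
      have := hd_conj (C := C) (α k) (α i) (Units.mk0 c hc) t
      rw [S.laced.1, S.adj_ip i k (S.adj_ne i k hk), hk, if_pos rfl, zpow_neg_one, Units.val_inv_eq_inv_val,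
        Units.val_mk0] at this
      rw [← this]
      exact inv_mul_cancel_right _ _)
    have : ρ g (proj C ρ ψ (α i).val 1 (ρ (nG C i) x)) = proj C ρ ψ (α i).val c (ρ (nG C i) x) := by
      simp only [proj, LinearMap.smul_apply, LinearMap.sum_apply, map_smul, map_sum]
      congr 1
      refine Fintype.sum_equiv (Equiv.mulLeft₀ c⁻¹ (inv_ne_zero hc)) _ _ fun t => ?_
      rw [← rho_mul g, ← hg, rho_mul, hgx]
      congr 2
      show -(1 * t) = -(c * (c⁻¹ * t))
      rw [one_mul, mul_inv_cancel_left₀ hc]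
    rw [← this, h1, map_zero]
  have h2 : ρ (nG C i) x ∈ Eg (α i) 0 := by
    have hs := sum_proj (C := C) (ρ := ρ) H.prim (α i).val (ρ (nG C i) x)
    rw [Finset.sum_eq_single 0 (fun c _ hc => hall c hc) (fun h => absurd (Finset.mem_univ _) h)] at hs
    rw [← hs]
    exact proj_mem_E _ _ _
  have h3 : x ∈ Eg (C.G.negr (α i)) 0 := by
    have := n_zero (u := C.G.negr (α i)) i (by rw [C.G.w_negr, C.G.w_simp, C.G.negr_negr]; exact h2)
    rwa [← rho_mul, hxH _ (InH.nsq i)] at this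
  show T C ρ i x = _
  rw [T_apply, fix_of_neg i (simp_fix hx0) h3, Finset.sum_congr rfl fun t _ => mem_E_zero.1 (simp_fix hx0) t,
    Finset.sum_const, Finset.card_univ, Nat.cast_smul_eq_nsmul]

end Small

end CfsgLib.MinDeg.LacedRoot
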