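import Cfsg.Agent.Lib.MinDeg.LacedBase

/-!
# Representations of small degree of simply laced groups: the lines of pure vectors

For a representation of degree below `2 (q - 1) (q ^ N + q ^ (N - 1))`, the vectors on which a fundamental
root subgroup acts by a nontrivial character, and all other positive root subgroups trivially, form lines.
-/

set_option autoImplicit false
set_option linter.unusedSectionVars false

namespace CfsgLib.MinDeg.LacedRoot

open Cfsg.Lie CfsgLib.Lie.Chev CfsgLib.Lie.Laced CfsgLib.MinDeg.RootSpace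
open scoped MatrixGroups

variable {D : ChevalleyDatum} (C : Full D)

/-- the positive roots pairing to one with a fundamental root -/
def spSet (j : Fin D.rank) : Set (Fin D.nroots) :=
  {u | D.IsPosRoot u.val ∧ ip D (C.G.simp' j) u = 1}

/-- the roots shown to act trivially on the line of the node `j` -/
inductive Killed (j : Fin D.rank) : Fin D.nroots → Prop
  | base {u : Fin D.nroots} (h : u ∈ spSet C j) : Killed j u
  | step {v a b : Fin D.nroots} (e : C.G.rho v = C.G.rho a + C.G.rho b)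
      (ha1 : ∀ u, (u = C.G.simp' j ∨ u ∈ spSet C j) → a ≠ C.G.negr u)
      (hb1 : ∀ u, (u = C.G.simp' j ∨ u ∈ spSet C j) → b ≠ C.G.negr u)
      (ha : ∀ u z, (u = C.G.simp' j ∨ u ∈ spSet C j) → C.G.rho z = C.G.rho a + C.G.rho u → Killed j z)
      (hb : ∀ u z, (u = C.G.simp' j ∨ u ∈ spSet C j) → C.G.rho z = C.G.rho b + C.G.rho u → Killed j z) :
      Killed j v

/-- the closure kills all positive roots but the fundamental root itself -/
def FullNode (j : Fin D.rank) : Prop := ∀ v, D.IsPosRoot v.val → v ≠ C.G.simp' j → Killed C j v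

/-- what is needed from the root system -/
structure LSys (N : ℕ) where
  laced : IsLaced D C
  adj : Fin D.rank → Fin D.rank → Bool
  adj_ip : ∀ i j, i ≠ j → ip D (C.G.simp' i) (C.G.simp' j) = if adj i j then -1 else 0
  adj_ne : ∀ i j, adj i j = true → i ≠ j
  nbr : ∀ i, ∃ k, adj i k = true
  root : Fin D.rank
  conn : ∀ P : Fin D.rank → Prop, P root → (∀ i j, adj i j = true → P i → P j) → ∀ i, P i
  sp : Fin D.rank → List (Fin D.nroots)
  sp_nodup : ∀ j, (sp j).Nodup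
  sp_mem : ∀ j u, u ∈ sp j ↔ u ∈ spSet C j
  sp_len : ∀ j, (sp j).length = N
  npos : 0 < N
  killed : ∀ j v, D.IsPosRoot v.val → v ≠ C.G.simp' j →
    Killed C j v ∨ ∃ i, v = C.G.simp' i ∧ FullNode C i

variable {C} {K : Type*} [Field K] [Fintype K]
variable {V : Type*} [AddCommGroup V] [Module ℂ V] [FiniteDimensional ℂ V]
variable (ρ : Representation ℂ ↥(D.group K) V) (ψ : AddChar K ℂ)

/-- the standing hypotheses -/
structure Small {N : ℕ} (S : LSys C N) : Prop where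
  prim : ψ.IsPrimitive
  irr : ρ.IsIrreducible
  two_le : 2 ≤ Module.finrank ℂ V
  small : Module.finrank ℂ V < 2 * ((Fintype.card K - 1) * (Fintype.card K ^ N + Fintype.card K ^ (N - 1)))

variable {ρ ψ} {N : ℕ} {S : LSys C N}

local notation "Eg" => Er C ρ ψ
local notation "Zs" => Z C ρ ψ
local notation "α" => C.G.simp'

/-- the eigenvectors of a fundamental root subgroup fixed by the attached half -/
noncomputable def F (C : Full D) (ρ : Representation ℂ ↥(D.group K) V) (ψ : AddChar K ℂ) (j : Fin D.rank)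
    (c : K) : Submodule ℂ V :=
  Er C ρ ψ (C.G.simp' j) c ⊓ Z C ρ ψ (spSet C j)

/-- the pure vectors of a node -/
noncomputable def Y (C : Full D) (ρ : Representation ℂ ↥(D.group K) V) (ψ : AddChar K ℂ) (j : Fin D.rank)
    (c : K) : Submodule ℂ V :=
  Er C ρ ψ (C.G.simp' j) c ⊓ Z C ρ ψ {v | D.IsPosRoot v.val ∧ v ≠ C.G.simp' j}

theorem pos_ne_negr' {r s : Fin D.nroots} (hr : D.IsPosRoot r.val) (hs : D.IsPosRoot s.val) :
    r ≠ C.G.negr s := fun e => by
  have h1 := hg_pos (C := C) hr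
  have h2 := hg_pos (C := C) hs
  rw [e, hg_negr] at h1
  omega

namespace LSys

variable (S)
include S

theorem ip_simple {i j : Fin D.rank} (h : i ≠ j) : ip D (α i) (α j) = -1 ∨ ip D (α i) (α j) = 0 := by
  rw [S.adj_ip i j h]
  split_ifs <;> simp

theorem sp_not_simple {j : Fin D.rank} {u : Fin D.nroots} (hu : u ∈ spSet C j) (i : Fin D.rank) : u ≠ α i := by
  rintro rfl
  by_cases h : j = i
  · subst h
    have := hu.2
    rw [S.laced.2.1] at this
    omega
  · rcases S.ip_simple h with e | e <;> rw [hu.2] at e <;> omega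

theorem sp_hg {j : Fin D.rank} {u : Fin D.nroots} (hu : u ∈ spSet C j) : 2 ≤ hg C u := by
  by_contra h
  have := hg_pos (C := C) hu.1
  obtain ⟨i, hi⟩ := simple_of_hg S.laced hu.1 (by omega)
  exact S.sp_not_simple hu i hi

theorem sp_ip {j : Fin D.rank} {u v : Fin D.nroots} (hu : u ∈ spSet C j) (hv : v ∈ spSet C j) :
    0 ≤ ip D u v := by
  by_contra h
  have hne := pos_ne_negr' (C := C) hu.1 hv.1
  obtain ⟨z, e⟩ := exists_sum S.laced (r := u) (s := v) (by have := ip_ge_neg_one S.laced hne; omega)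
  have h2 := ip_add (C := C) (α j) e
  rw [hu.2, hv.2] at h2
  have h3 := hg_add e
  rw [eq_of_ip_two S.laced h2, hg_simp] at h3
  have := hg_pos (C := C) hu.1
  have := hg_pos (C := C) hv.1
  omega

theorem sp_pairwise (j : Fin D.rank) : (S.sp j).Pairwise fun u v => 0 ≤ ip D u v :=
  List.Pairwise.imp_of_mem (fun ha hb _ => S.sp_ip ((S.sp_mem j _).1 ha) ((S.sp_mem j _).1 hb)) (S.sp_nodup j)

theorem dim_E (hψ : ψ.IsPrimitive) (j : Fin D.rank) {c : K} (hc : c ≠ 0) :
    Module.finrank ℂ ↥(Eg (α j) c) = Fintype.card K ^ N * Module.finrank ℂ ↥(F C ρ ψ j c) := by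
  have h := block (ρ := ρ) S.laced hψ hc (S.sp j) (S.sp_nodup j) (fun u hu => ((S.sp_mem j u).1 hu).2)
    (S.sp_pairwise j) (Eg (α j) c) le_rfl
    (fun u hu => inv_E S.laced (by rw [S.laced.1, ((S.sp_mem j u).1 hu).2]; norm_num) c)
    fun u hu r hr => inv_E S.laced (by
      have := ip_add (C := C) (α j) hr
      rw [S.laced.2.1, ((S.sp_mem j u).1 hu).2] at this
      rw [S.laced.1]
      omega) c
  have e : Eg (α j) c ⊓ Zs {u | u ∈ S.sp j} = F C ρ ψ j c := by
    rw [F, show {u | u ∈ S.sp j} = spSet C j from Set.ext (S.sp_mem j)]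
  rw [h, S.sp_len, e]

theorem dim_scale (j : Fin D.rank) {c c' : K} (hc : c ≠ 0) (hc' : c' ≠ 0) :
    Module.finrank ℂ ↥(Eg (α j) c) ≤ Module.finrank ℂ ↥(Eg (α j) c') := by
  obtain ⟨k, hk⟩ := S.nbr j
  refine le_finrank (ρ := ρ) (hG C (α k) (Units.mk0 (c' * c⁻¹) (mul_ne_zero hc' (inv_ne_zero hc)))) fun x hx => ?_
  have h := hG_act (α k) (α j) (Units.mk0 (c' * c⁻¹) (mul_ne_zero hc' (inv_ne_zero hc))) hx
  rw [S.laced.1, S.adj_ip j k (S.adj_ne j k hk), hk, if_pos rfl, zpow_neg_one, Units.val_inv_eq_inv_val,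
    inv_inv, Units.val_mk0, inv_mul_cancel_right₀ hc] at h
  exact h

theorem w_w_adj {i j : Fin D.rank} (h : S.adj i j = true) : C.G.w i (C.G.w j (α i)) = α j := by
  have hji : ip D (α j) (α i) = -1 := by
    rw [S.laced.1, S.adj_ip i j (S.adj_ne i j h), h, if_pos rfl]
  have h1 : cart D j (α i) = -1 := by rw [← ip_simp, hji]
  have h2 : cart D i (C.G.w j (α i)) = 1 := by
    rw [← ip_simp, ip_w_right, h1, S.laced.2.1, S.laced.1, hji]
    norm_num
  refine C.G.rho_injective ?_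
  rw [C.G.rho_w, h2, C.G.rho_w, h1, C.G.rho_simp, C.G.rho_simp]
  module

theorem dim_adj {i j : Fin D.rank} (h : S.adj i j = true) {c : K} (hc : c ≠ 0) :
    ∃ c', c' ≠ 0 ∧ Module.finrank ℂ ↥(Eg (α i) c) ≤ Module.finrank ℂ ↥(Eg (α j) c') := by
  obtain ⟨ε, hε, h1⟩ := n_act (C := C) (ρ := ρ) (ψ := ψ) j (α i)
  obtain ⟨δ, hδ, h2⟩ := n_act (C := C) (ρ := ρ) (ψ := ψ) i (C.G.w j (α i))
  rw [S.w_w_adj h] at h2
  exact ⟨δ * (ε * c), mul_ne_zero hδ (mul_ne_zero hε hc),
    le_finrank (ρ := ρ) (nG C i * nG C j) fun x hx => by rw [rho_mul]; exact h2 _ _ (h1 _ _ hx)⟩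

theorem adj_symm {i j : Fin D.rank} (h : S.adj i j = true) : S.adj j i = true := by
  have hne := S.adj_ne i j h
  have h1 := S.adj_ip i j hne
  have h2 := S.adj_ip j i hne.symm
  rw [S.laced.1, h, if_pos rfl] at h1
  rw [h1] at h2
  by_contra hn
  rw [if_neg hn] at h2
  omega

theorem dim_const (j : Fin D.rank) {c : K} (hc : c ≠ 0) :
    Module.finrank ℂ ↥(Eg (α j) c) = Module.finrank ℂ ↥(Eg (α S.root) (1 : K)) := by
  revert j c
  suffices ∀ j (c : K), c ≠ 0 → Module.finrank ℂ ↥(Eg (α j) c) = Module.finrank ℂ ↥(Eg (α S.root) (1 : K)) from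
    fun j c hc => this j c hc
  refine S.conn _ (fun c hc => le_antisymm (S.dim_scale _ hc one_ne_zero) (S.dim_scale _ one_ne_zero hc))
    fun i j hij ih c hc => le_antisymm ?_ ?_
  · obtain ⟨c', hc', h⟩ := S.dim_adj (ρ := ρ) (ψ := ψ) (S.adj_symm hij) hc
    exact h.trans (le_of_eq (ih c' hc'))
  · obtain ⟨c', hc', h⟩ := S.dim_adj (ρ := ρ) (ψ := ψ) hij one_ne_zero
    exact (le_of_eq (ih 1 one_ne_zero).symm).trans (h.trans (S.dim_scale j hc' hc))

theorem dim_pos_root {r : Fin D.nroots} (hr : D.IsPosRoot r.val) {c : K} (hc : c ≠ 0) :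
    Module.finrank ℂ ↥(Eg r c) = Module.finrank ℂ ↥(Eg (α S.root) (1 : K)) := by
  suffices ∀ (n : ℕ) (r : Fin D.nroots), D.IsPosRoot r.val → hg C r = (n : ℤ) → ∀ c : K, c ≠ 0 →
      Module.finrank ℂ ↥(Eg r c) = Module.finrank ℂ ↥(Eg (α S.root) (1 : K)) from
    this (hg C r).toNat r hr (Int.toNat_of_nonneg (hg_pos hr).le).symm c hc
  intro n
  induction n with
  | zero => intro r hr h; have := hg_pos (C := C) hr; omega
  | succ n ih =>
    intro r hr h c hc
    by_cases hs : ∃ i, r = α i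
    · obtain ⟨i, rfl⟩ := hs
      exact S.dim_const i hc
    simp only [not_exists] at hs
    obtain ⟨i, hi, hp⟩ := exists_desc S.laced hr hs
    have ih' := ih (C.G.w i r) hp (by rw [hg_w, hi, h]; push_cast; ring)
    obtain ⟨ε, hε, h1⟩ := n_act (C := C) (ρ := ρ) (ψ := ψ) i r
    obtain ⟨δ, hδ, h2⟩ := n_act (C := C) (ρ := ρ) (ψ := ψ) i (C.G.w i r)
    rw [C.G.w_w] at h2
    refine le_antisymm ((le_finrank (ρ := ρ) (nG C i) fun x hx => h1 c x hx).trans (le_of_eq (ih' _ (mul_ne_zero hε hc)))) ?_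
    rw [← ih' (δ⁻¹ * c) (mul_ne_zero (inv_ne_zero hδ) hc)]
    refine le_finrank (ρ := ρ) (nG C i) fun x hx => ?_
    have := h2 _ x hx
    rwa [mul_inv_cancel_left₀ hδ] at this

end LSys

namespace Small

variable (H : Small ρ ψ S)
include H

theorem fixed_top (h0 : Module.finrank ℂ ↥(Eg (α S.root) (1 : K)) = 0) : False := by
  have htop : ∀ i, Eg (α i) (0 : K) = ⊤ := fun i => by
    refine Submodule.eq_top_of_finrank_eq ?_
    have := decomp_split (C := C) (ρ := ρ) H.prim (α i).val (⊤ : Submodule ℂ V) (fun _ _ _ => Submodule.mem_top)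
      (c := 0) fun a ha => by rw [top_inf_eq]; exact (S.dim_const i ha).trans h0
    rw [top_inf_eq, finrank_top, mul_zero, add_zero] at this
    exact this.symm
  obtain ⟨x, hx⟩ := Module.finrank_pos_iff_exists_ne_zero.1 (lt_of_lt_of_le (by norm_num) H.two_le)
  refine hx (no_fixed H.irr H.two_le fun i t => ⟨mem_E_zero.1 (show x ∈ Eg (α i) 0 by rw [htop i]; trivial) t, ?_⟩)
  have h := n_zero (C := C) (ρ := ρ) (ψ := ψ) i (u := C.G.negr (α i)) (x := ρ (nG C i)⁻¹ x) (by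
    rw [C.G.w_negr, C.G.w_simp, C.G.negr_negr, htop i]; trivial)
  rw [rho_self_inv] at h
  exact mem_E_zero.1 h t

theorem dim_F (j : Fin D.rank) {c : K} (hc : c ≠ 0) : Module.finrank ℂ ↥(F C ρ ψ j c) = 1 := by
  have hq : 2 ≤ Fintype.card K := Fintype.one_lt_card
  have hE := S.dim_E (ρ := ρ) H.prim j hc
  rw [S.dim_const j hc] at hE
  set f := Module.finrank ℂ ↥(F C ρ ψ j c) with hfdef
  have hf0 : f ≠ 0 := fun h0 => H.fixed_top (by rw [hE, h0, mul_zero])
  obtain ⟨v, hv⟩ := List.exists_mem_of_length_pos (l := S.sp j) (by rw [S.sp_len]; exact S.npos)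
  have hv' := (S.sp_mem j v).1 hv
  have h1 := decomp_split (C := C) (ρ := ρ) H.prim v.val (⊤ : Submodule ℂ V) (fun _ _ _ => Submodule.mem_top)
    (c := Fintype.card K ^ N * f) fun a ha => by
      rw [top_inf_eq]
      exact (S.dim_pos_root hv'.1 ha).trans hE
  rw [top_inf_eq, finrank_top] at h1
  have hinv : Inv C ρ (α j) (Eg v 0) := inv_E S.laced (by rw [hv'.2]; norm_num) 0
  have h2 := decomp_ge (C := C) (ρ := ρ) H.prim (α j).val (Eg v 0) hinv (c := Fintype.card K ^ (N - 1) * f)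
    fun a ha => ?_
  · have h3 : Fintype.card K ^ N * f + Fintype.card K ^ (N - 1) * f =
        (Fintype.card K ^ N + Fintype.card K ^ (N - 1)) * f := by ring
    have hlow : (Fintype.card K - 1) * (Fintype.card K ^ N + Fintype.card K ^ (N - 1)) * f ≤
        Module.finrank ℂ V := by
      rw [mul_assoc, ← h3, mul_add, h1]
      have : (Fintype.card K - 1) * (Fintype.card K ^ (N - 1) * f) ≤ Module.finrank ℂ ↥(Eg v 0) :=
        le_trans le_add_self h2
      show _ ≤ Module.finrank ℂ ↥(E C ρ ψ v.val 0) + _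
      unfold Er at this
      omega
    by_contra h1'
    have hf2 : 2 ≤ f := by omega
    have := Nat.mul_le_mul_left ((Fintype.card K - 1) * (Fintype.card K ^ N + Fintype.card K ^ (N - 1))) hf2
    have := H.small
    nlinarith
  · have ha' : Module.finrank ℂ ↥(F C ρ ψ j a) = f := by
      have := S.dim_E (ρ := ρ) H.prim j ha
      rw [S.dim_const j ha, hE] at this
      exact (Nat.eq_of_mul_eq_mul_left (pow_pos (by omega) N) this).symm
    have hb := block (ρ := ρ) S.laced H.prim ha ((S.sp j).erase v) ((S.sp_nodup j).erase v)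
      (fun u hu => ((S.sp_mem j u).1 (List.mem_of_mem_erase hu)).2)
      ((S.sp_pairwise j).sublist (List.erase_sublist)) (Eg (α j) a ⊓ Eg v 0) inf_le_left
      (fun u hu => by
        have hu' := (S.sp_mem j u).1 (List.mem_of_mem_erase hu)
        exact (inv_E S.laced (by rw [S.laced.1, hu'.2]; norm_num) a).inf
          (inv_E S.laced (S.sp_ip hu' hv') 0))
      fun u hu r hr => by
        have hu' := (S.sp_mem j u).1 (List.mem_of_mem_erase hu)
        have hne : u ≠ v := ((S.sp_nodup j).mem_erase_iff.1 hu).1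
        have e1 := ip_add (C := C) (α j) hr
        have e2 := ip_add (C := C) v hr
        rw [S.laced.2.1, hu'.2] at e1
        rw [S.laced.1 v (α j), hv'.2] at e2
        have : ip D v u ≤ 1 := by
          rcases ip_le S.laced v u hne (pos_ne_negr' hu'.1 hv'.1) with e | e | e <;> omega
        exact (inv_E S.laced (by rw [S.laced.1]; omega) a).inf (inv_E S.laced (by rw [S.laced.1]; omega) 0)
    rw [List.length_erase_of_mem hv, S.sp_len] at hb
    have e : Eg (α j) a ⊓ Eg v 0 ⊓ Zs {u | u ∈ (S.sp j).erase v} = F C ρ ψ j a := by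
      ext x
      simp only [F, Submodule.mem_inf, mem_Z, Set.mem_setOf_eq, (S.sp_nodup j).mem_erase_iff, ← S.sp_mem]
      constructor
      · rintro ⟨⟨h1, h2⟩, h3⟩
        refine ⟨h1, fun u hu => ?_⟩
        by_cases e : u = v
        · exact e ▸ h2
        · exact h3 u ⟨e, hu⟩
      · rintro ⟨h1, h2⟩
        exact ⟨⟨h1, h2 v hv⟩, fun u hu => h2 u hu.2⟩
    rw [e, ha'] at hb
    rw [inf_comm]
    exact le_of_eq hb.symm

omit H in
theorem comm_scalar {a b z : Fin D.nroots} (hL : IsLaced D C) (e : C.G.rho z = C.G.rho a + C.G.rho b) {x : V}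
    (ha : ∀ t, ∃ m : ℂ, ρ (X C a t) x = m • x) (hb : ∀ t, ∃ m : ℂ, ρ (X C b t) x = m • x) : x ∈ Eg z 0 := by
  obtain ⟨c, hc, h⟩ := comm1 (K := K) hL e
  refine mem_E_zero.2 fun s => ?_
  obtain ⟨m, hm⟩ := ha (c⁻¹ * s)
  obtain ⟨n, hn⟩ := hb 1
  have h1 : X C b 1 * X C a (c⁻¹ * s) = X C a (c⁻¹ * s) * X C b 1 * X C z s := by
    rw [h, mul_one, mul_inv_cancel_left₀ hc]
  have h2 := congrArg (fun g => ρ g x) h1
  simp only [rho_mul, hm, map_smul, hn, smul_smul] at h2
  refine rho_inj (ρ := ρ) (X C b (1 : K)) (rho_inj (ρ := ρ) (X C a (c⁻¹ * s)) ?_)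
  rw [← h2, hn, map_smul, hm, smul_smul, mul_comm]

theorem scalar_of_inv {j : Fin D.rank} {c : K} (hc : c ≠ 0) {r : Fin D.nroots}
    (hr : Inv C ρ r (F C ρ ψ j c)) {x : V} (hx : x ∈ F C ρ ψ j c) (t : K) :
    ∃ m : ℂ, ρ (X C r t) x = m • x := by
  by_cases hx0 : x = 0
  · exact ⟨0, by simp [hx0]⟩
  obtain ⟨m, hm⟩ := exists_smul_eq_of_finrank_eq_one (H.dim_F j hc)
    (x := (⟨x, hx⟩ : ↥(F C ρ ψ j c))) (fun e => hx0 (congrArg Subtype.val e)) ⟨_, hr t x hx⟩
  exact ⟨m, (congrArg Subtype.val hm).symm⟩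

theorem inv_F {j : Fin D.rank} {c : K} {r : Fin D.nroots}
    (hne : ∀ u, (u = α j ∨ u ∈ spSet C j) → r ≠ C.G.negr u)
    (hz : ∀ u z, (u = α j ∨ u ∈ spSet C j) → C.G.rho z = C.G.rho r + C.G.rho u → F C ρ ψ j c ≤ Eg z 0) :
    Inv C ρ r (F C ρ ψ j c) := fun t x hx =>
  ⟨pres S.laced (hne _ (Or.inl rfl)) t hx.1 fun z e => hz _ z (Or.inl rfl) e hx,
    mem_Z.2 fun u hu => pres S.laced (hne u (Or.inr hu)) t (mem_Z.1 hx.2 u hu)
      fun z e => hz u z (Or.inr hu) e hx⟩

theorem killed_zero {j : Fin D.rank} {c : K} (hc : c ≠ 0) {v : Fin D.nroots} (h : Killed C j v) :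
    F C ρ ψ j c ≤ Eg v 0 := by
  induction h with
  | base h => exact fun x hx => mem_Z.1 hx.2 _ h
  | step e ha1 hb1 _ _ iha ihb =>
    exact fun x hx => comm_scalar S.laced e (H.scalar_of_inv hc (H.inv_F ha1 iha) hx)
      (H.scalar_of_inv hc (H.inv_F hb1 ihb) hx)

theorem F_le_Y_full {j : Fin D.rank} (hj : FullNode C j) {c : K} (hc : c ≠ 0) :
    F C ρ ψ j c ≤ Y C ρ ψ j c := fun x hx =>
  ⟨hx.1, mem_Z.2 fun v hv => H.killed_zero hc (hj v hv.1 hv.2) hx⟩

theorem sum_zero {f : Fin D.nroots → K} {x : V} (hx : x ≠ 0)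
    (hf : ∀ v, D.IsPosRoot v.val → x ∈ Eg v (f v)) {v : Fin D.nroots} (hv : D.IsPosRoot v.val)
    (hns : ∀ i, v ≠ α i) : f v = 0 := by
  by_contra hne
  obtain ⟨i, hi, hp⟩ := exists_desc S.laced hv hns
  have e : C.G.rho v = C.G.rho (α i) + C.G.rho (C.G.w i v) := by
    rw [C.G.rho_w, hi, C.G.rho_simp, one_smul]
    abel
  exact hx (eq_zero_of_mem H.prim hne (hf v hv)
    (comm_scalar S.laced e (fun t => ⟨_, mem_E.1 (hf _ (C.G.simp_pos i)) t⟩) fun t => ⟨_, mem_E.1 (hf _ hp) t⟩))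

theorem mem_F_of_eigen {f : Fin D.nroots → K} {x : V} (hx : x ≠ 0)
    (hf : ∀ v, D.IsPosRoot v.val → x ∈ Eg v (f v)) (i : Fin D.rank) : x ∈ F C ρ ψ i (f (α i)) :=
  ⟨hf _ (C.G.simp_pos i), mem_Z.2 fun u hu => by
    rw [← H.sum_zero hx hf hu.1 (S.sp_not_simple hu)]
    exact hf u hu.1⟩

theorem F_le_Y (j : Fin D.rank) {c : K} (hc : c ≠ 0) : F C ρ ψ j c ≤ Y C ρ ψ j c := by
  have hnz : ∀ z : Fin D.nroots, D.IsPosRoot z.val → 2 ≤ hg C z → F C ρ ψ j c ≤ Eg z 0 := fun z hz h2 => by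
    have hns : ∀ i, z ≠ α i := fun i e => by rw [e, hg_simp] at h2; omega
    rcases S.killed j z hz (hns j) with h | ⟨i, hi, -⟩
    · exact H.killed_zero hc h
    · exact absurd hi (hns i)
  have hinv : ∀ v : Fin D.nroots, D.IsPosRoot v.val → Inv C ρ v (F C ρ ψ j c) := fun v hv => by
    have hu : ∀ u, (u = α j ∨ u ∈ spSet C j) → D.IsPosRoot u.val := by
      rintro u (rfl | hu)
      exacts [C.G.simp_pos j, hu.1]
    refine H.inv_F (fun u h => pos_ne_negr' hv (hu u h)) fun u z h e => hnz z (pos_add hv (hu u h) e) ?_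
    rw [hg_add e]
    have := hg_pos (C := C) hv
    have := hg_pos (C := C) (hu u h)
    omega
  intro x hx
  refine ⟨hx.1, mem_Z.2 fun v hv => ?_⟩
  by_cases hx0 : x = 0
  · simp [hx0]
  rcases S.killed j v hv.1 hv.2 with h | ⟨i, rfl, hi⟩
  · exact H.killed_zero hc h hx
  have hch : ∀ v : Fin D.nroots, ∃ a, D.IsPosRoot v.val → F C ρ ψ j c ≤ Eg v a := fun v => by
    by_cases hv : D.IsPosRoot v.val
    · obtain ⟨a, ha, -⟩ := exists_char H.prim v.val (F C ρ ψ j c) (hinv v hv) (H.dim_F j hc)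
      exact ⟨a, fun _ => ha⟩
    · exact ⟨0, fun h => absurd h hv⟩
  choose f hf using hch
  have hf' : ∀ v, D.IsPosRoot v.val → x ∈ Eg v (f v) := fun v hv => hf v hv hx
  by_cases hfi : f (α i) = 0
  · rw [← hfi]; exact hf' _ hv.1
  · have hy := (H.F_le_Y_full hi hfi (H.mem_F_of_eigen hx0 hf' i)).2
    have hj0 : x ∈ Eg (α j) 0 := mem_Z.1 hy (α j) ⟨C.G.simp_pos j, fun e => hv.2 e.symm⟩
    exact absurd (eq_zero_of_mem H.prim hc hx.1 hj0) hx0

theorem dim_Y (j : Fin D.rank) {c : K} (hc : c ≠ 0) : Module.finrank ℂ ↥(Y C ρ ψ j c) = 1 := by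
  have h : Y C ρ ψ j c = F C ρ ψ j c := le_antisymm
    (fun x hx => ⟨hx.1, Z_mono (T := {v | D.IsPosRoot v.val ∧ v ≠ α j}) (fun u hu => ⟨hu.1, S.sp_not_simple hu j⟩) hx.2⟩) (H.F_le_Y j hc)
  rw [h]
  exact H.dim_F j hc

/-- an eigenvector of all positive root subgroups is pure -/
theorem pure {f : Fin D.nroots → K} {x : V} (hx : x ≠ 0)
    (hf : ∀ v, D.IsPosRoot v.val → x ∈ Eg v (f v)) {i : Fin D.rank} (hi : f (α i) ≠ 0) :
    x ∈ Y C ρ ψ i (f (α i)) :=
  H.F_le_Y i hi (H.mem_F_of_eigen hx hf i)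

/-- pure vectors are fixed by the negatives of the orthogonal fundamental roots -/
theorem Y_neg {i j : Fin D.rank} (hij : ip D (α j) (α i) = 0) {c : K} (hc : c ≠ 0) :
    Y C ρ ψ j c ≤ Eg (C.G.negr (α i)) 0 := by
  have hij' : ip D (C.G.negr (α i)) (α j) = 0 := by rw [S.laced.1, ip_negr, hij, neg_zero]
  have hYF : Y C ρ ψ j c ≤ F C ρ ψ j c := fun x hx =>
    ⟨hx.1, Z_mono (T := {v | D.IsPosRoot v.val ∧ v ≠ α j}) (fun u hu => ⟨hu.1, S.sp_not_simple hu j⟩) hx.2⟩
  have hinv : Inv C ρ (C.G.negr (α i)) (F C ρ ψ j c) := fun t x hx => by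
    refine ⟨pres0 S.laced (le_of_eq hij'.symm) t hx.1, mem_Z.2 fun u hu => pres S.laced ?_ t (mem_Z.1 hx.2 u hu) ?_⟩
    · intro e
      exact S.sp_not_simple hu i (by rw [← C.G.negr_negr u, ← e, C.G.negr_negr])
    · intro z e
      have h1 := ip_add (C := C) (α j) e
      rw [ip_negr, hij, hu.2] at h1
      have h2 := hg_add e
      rw [hg_negr, hg_simp] at h2
      have := S.sp_hg hu
      exact mem_Z.1 hx.2 z ⟨pos_of_hg (C := C) (by omega), by omega⟩
  intro x hx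
  by_cases hx0 : x = 0
  · simp [hx0]
  obtain ⟨ν, hν, -⟩ := exists_char H.prim (C.G.negr (α i)).val (F C ρ ψ j c) hinv (H.dim_F j hc)
  have h1 : x ∈ Eg (C.G.negr (α i)) ν := hν (hYF hx)
  have h2 : x ∈ Eg (α i) 0 := mem_Z.1 hx.2 _ ⟨C.G.simp_pos i, fun e => by
    rw [e, S.laced.2.1] at hij; omega⟩
  have hn : ρ (nG C i) x = ψ (ν * -1) • x := by
    have e : nG C (K := K) i = X C (α i) 1 * X C (C.G.negr (α i)) (-1) * X C (α i) 1 := Subtype.ext (by
      show C.G.nU i = _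
      rw [Subgroup.coe_mul, Subgroup.coe_mul, X_coe, X_coe, Good.nU])
    rw [e, rho_mul, rho_mul, mem_E_zero.1 h2, mem_E.1 h1, map_smul, mem_E_zero.1 h2]
  have h3 := n_zero (C := C) (ρ := ρ) (ψ := ψ) i (u := C.G.negr (α i)) (x := x)
    (by rw [C.G.w_negr, C.G.w_simp, C.G.negr_negr]; exact h2)
  rw [hn] at h3
  have h4 := Submodule.smul_mem _ (ψ (ν * -1))⁻¹ h3
  rw [smul_smul, inv_mul_cancel₀ (ψ.val_isUnit _).ne_zero, one_smul] at h4
  exact h4

end Small

end CfsgLib.MinDeg.LacedRoot
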