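import Mathlib.LinearAlgebra.FiniteDimensional.Lemmas
import Mathlib.LinearAlgebra.Dimension.Finite
import Mathlib.Analysis.Complex.Basic
import Mathlib.Tactic.NoncommRing

/-!
# Rank one Hecke operators on a tree

Operators `P i` with `P i ^ 2 = (q + 1) P i`, of rank at most one, satisfying the commutation and braid
relations of a tree: if some vector is killed by the operators away from a node and none by all, the
images are independent.
-/

set_option autoImplicit false

namespace CfsgLib.MinDeg.TreeOperators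

variable {n : ℕ} (adj : Fin n → Fin n → Bool)

/-- equalities between neighbours spread to all pairs -/
def Spreads : Prop :=
  ∀ R : Fin n → Fin n → Prop, (∀ i, R i i) → (∀ i j, R i j → R j i) → (∀ i j k, R i j → R j k → R i k) →
    (∀ i j k, i ≠ j → R i j → adj i k = true → adj j k = false → k ≠ j → R i k) →
      ∀ i j, i ≠ j → R i j → ∀ k l, R k l

/-- the tree equations have only the zero solution -/
def Regular (q : ℕ) : Prop :=
  ∀ c : Fin n → Fin n → ℂ, (∀ i j, adj i j = true → c i j * c j i = (q : ℂ)) → ∀ x : Fin n → ℂ,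
    (∀ j, ((q : ℂ) + 1) * x j + ∑ i ∈ Finset.univ.filter (fun i => adj j i = true), c j i * x i = 0) →
      ∀ j, x j = 0

variable {W : Type*} [AddCommGroup W] [Module ℂ W] [FiniteDimensional ℂ W]

theorem rank_le (q : ℕ) (hq : 0 < q) (P : Fin n → Module.End ℂ W) (root : Fin n)
    (hne : ∀ i j, adj i j = true → i ≠ j)
    (hconn : ∀ Q : Fin n → Prop, Q root → (∀ i j, adj i j = true → Q i → Q j) → ∀ i, Q i)
    (hsq : ∀ i x, P i (P i x) = ((q : ℂ) + 1) • P i x)
    (hrk : ∀ i, Module.finrank ℂ ↥(LinearMap.range (P i)) ≤ 1)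
    (hcomm : ∀ i j, i ≠ j → adj i j = false → ∀ x, P i (P j x) = P j (P i x))
    (hbraid : ∀ i j, adj i j = true → ∀ x,
      P i (P j (P i x)) - (q : ℂ) • P i x = P j (P i (P j x)) - (q : ℂ) • P j x)
    (hker : ∀ x, (∀ i, P i x = 0) → x = 0)
    (a : Fin n) (hex : ∃ i, i ≠ a ∧ adj a i = false) (u : W) (hu : u ≠ 0)
    (hkill : ∀ i, i ≠ a → adj a i = false → P i u = 0)
    (hspread : Spreads adj) (hreg : Regular adj q) : n ≤ Module.finrank ℂ W := by
  classical
  have hq0 : (q : ℂ) ≠ 0 := Nat.cast_ne_zero.2 hq.ne'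
  have hq1 : (q : ℂ) + 1 ≠ 0 := by exact_mod_cast Nat.succ_ne_zero q
  have hz : ∀ i j, adj i j = true → P i = 0 → P j = 0 := fun i j h h0 => LinearMap.ext fun x => by
    have := hbraid i j h x
    simp only [h0, LinearMap.zero_apply, map_zero, smul_zero, sub_zero, zero_sub] at this
    simpa [hq0] using (neg_eq_zero.1 this.symm)
  have hne0 : ∀ i, P i ≠ 0 := by
    intro i0 h0
    have hall : ∀ k, (P k = 0 ↔ P root = 0) := by
      refine hconn _ Iff.rfl fun i j h hi => ⟨fun hj => hi.1 (LinearMap.ext fun x => ?_), fun hr => hz i j h (hi.2 hr)⟩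
      have := hbraid i j h x
      simp only [hj, LinearMap.zero_apply, map_zero, smul_zero, sub_zero] at this
      simpa [hq0] using this
    refine hu (hker u fun k => ?_)
    rw [(hall k).2 ((hall i0).1 h0)]
    rfl
  have hall_eq : ¬ ∀ k l, P k = P l := fun he => by
    obtain ⟨i, hia, hadj⟩ := hex
    exact hu (hker u fun k => by rw [he k i]; exact hkill i hia hadj)
  have hdist : ∀ i j, i ≠ j → P i ≠ P j := by
    intro i j hij he
    refine hall_eq (hspread (fun k l => P k = P l) (fun _ => rfl) (fun _ _ h => h.symm)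
      (fun _ _ _ h h' => h.trans h') ?_ i j hij he)
    intro i j k hij he hik hjk hkj
    refine LinearMap.ext fun x => ?_
    have hc := hcomm j k hkj.symm hjk
    rw [← he] at hc
    have h1 := hbraid i k hik x
    rw [← hc x, hsq, ← hc (P k x), ← sub_eq_zero] at h1
    have h2 : P k (P i (P k x)) = ((q : ℂ) + 1) • P i (P k x) := by
      rw [hc x, hsq, ← hc x]
    have h3 : P i (P k (P k x)) = ((q : ℂ) + 1) • P i (P k x) := by rw [hsq, map_smul]
    rw [h3] at h1
    have h4 : (q : ℂ) • (P k x - P i x) = 0 := by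
      rw [← h1, smul_sub]; abel
    exact (sub_eq_zero.1 ((smul_eq_zero.1 h4).resolve_left hq0)).symm
  have hv : ∀ i, ∃ v : W, v ≠ 0 ∧ P i v = ((q : ℂ) + 1) • v ∧ ∀ x, ∃ a : ℂ, P i x = a • v := by
    intro i
    obtain ⟨w, hw⟩ : ∃ w, P i w ≠ 0 := by
      by_contra! h
      exact hne0 i (LinearMap.ext h)
    refine ⟨P i w, hw, hsq i w, fun x => ?_⟩
    have h1 : Module.finrank ℂ ↥(LinearMap.range (P i)) = 1 := by
      refine le_antisymm (hrk i) (Nat.one_le_iff_ne_zero.2 fun h0 => hw ?_)
      have := Submodule.finrank_eq_zero.1 h0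
      exact (Submodule.mem_bot ℂ).1 (this ▸ LinearMap.mem_range_self (P i) w)
    obtain ⟨c, hc⟩ := exists_smul_eq_of_finrank_eq_one h1
      (x := (⟨P i w, LinearMap.mem_range_self (P i) w⟩ : ↥(LinearMap.range (P i))))
      (fun e => hw (congrArg Subtype.val e)) ⟨P i x, LinearMap.mem_range_self (P i) x⟩
    exact ⟨c, (congrArg Subtype.val hc).symm⟩
  choose v hv0 hvv hvx using hv
  choose φ hφ using hvx
  let c : Fin n → Fin n → ℂ := fun i j => φ i (v j)
  have hPv : ∀ i j, P i (v j) = c i j • v i := fun i j => hφ i (v j)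
  have hcii : ∀ i, c i i = (q : ℂ) + 1 := fun i =>
    smul_left_injective ℂ (hv0 i) ((hPv i i).symm.trans (hvv i))
  have horth : ∀ i j, i ≠ j → adj i j = false → c i j = 0 := by
    intro i j hij hadj
    by_contra hc
    have h1 := hcomm i j hij hadj (v j)
    rw [hvv, map_smul, hPv i j, map_smul, hPv j i, smul_smul, smul_smul] at h1
    have hk : v i = (((q : ℂ) + 1) * c i j)⁻¹ • (c i j * c j i) • v j := by
      rw [← h1, inv_smul_smul₀ (mul_ne_zero hq1 hc)]
    rw [smul_smul] at hk
    set κ := (((q : ℂ) + 1) * c i j)⁻¹ * (c i j * c j i) with hκ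
    have hμ : ∃ μ : ℂ, ∀ x, P i x = μ • P j x := by
      have hcji : c j i ≠ 0 := fun e => hv0 i (by rw [hk, hκ, e]; simp)
      refine ⟨(c j i)⁻¹ * c i j * κ * κ, fun x => ?_⟩
      have h2 := hcomm i j hij hadj x
      rw [hφ j x, map_smul, hPv i j, hφ i x, map_smul, hPv j i, smul_smul, smul_smul, hk, smul_smul] at h2
      have h3 := smul_left_injective ℂ (hv0 j) h2
      rw [hφ j x, hφ i x, hk, smul_smul, smul_smul]
      congr 1
      rw [show φ i x = φ j x * c i j * κ * (c j i)⁻¹ by rw [h3, mul_inv_cancel_right₀ hcji]]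
      ring
    obtain ⟨μ, hμ⟩ := hμ
    obtain ⟨w, hw⟩ : ∃ w, P j w ≠ 0 := by
      by_contra! h
      exact hne0 j (LinearMap.ext h)
    have h4 := hsq i w
    simp only [hμ, map_smul, hsq, smul_smul] at h4
    have h5 := smul_left_injective ℂ hw h4
    rcases eq_or_ne μ 0 with rfl | hμ0
    · exact hne0 i (LinearMap.ext fun x => by rw [hμ, zero_smul]; rfl)
    · have : μ = 1 := mul_left_cancel₀ (mul_ne_zero hq1 hμ0) (by linear_combination h5)
      exact hdist i j hij (LinearMap.ext fun x => by rw [hμ, this, one_smul])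
  have hadj : ∀ i j, adj i j = true → c i j * c j i = (q : ℂ) := by
    intro i j h
    by_contra hne'
    refine hdist i j (hne i j h) (LinearMap.ext fun x => ?_)
    have e : ∀ i j x, P i (P j (P i x)) = (c i j * c j i) • P i x := fun i j x => by
      rw [hφ i x, map_smul, map_smul, hPv j i, map_smul, hPv i j, smul_smul, smul_smul, smul_smul]
      congr 1
      ring
    have h1 := hbraid i j h x
    rw [e, e, ← sub_smul, ← sub_smul, mul_comm (c j i)] at h1
    exact smul_right_injective W (sub_ne_zero.2 hne') h1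
  have hli : LinearIndependent ℂ v := by
    rw [Fintype.linearIndependent_iff]
    intro x hx
    refine hreg c hadj x fun j => ?_
    have h := congrArg (P j) hx
    simp only [map_sum, map_smul, hPv, smul_smul, map_zero, ← Finset.sum_smul] at h
    have h2 := (smul_eq_zero.1 h).resolve_right (hv0 j)
    rw [← Finset.add_sum_erase _ _ (Finset.mem_univ j), hcii] at h2
    rw [mul_comm ((q : ℂ) + 1), ← h2]
    congr 1
    rw [Finset.sum_filter, ← Finset.add_sum_erase _ _ (Finset.mem_univ j),
      if_neg (fun e => hne j j e rfl), zero_add]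
    refine Finset.sum_congr rfl fun i hi => ?_
    cases hji : adj j i with
    | true => rw [if_pos rfl, mul_comm]
    | false => rw [if_neg Bool.false_ne_true, horth j i (Finset.ne_of_mem_erase hi).symm hji, mul_zero]
  simpa using hli.fintype_card_le_finrank

end CfsgLib.MinDeg.TreeOperators
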