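import Cfsg.Agent.Lib.MinDeg.LacedHecke
import Cfsg.Agent.Lib.MinDeg.LacedCount
import Cfsg.Agent.Lib.MinDeg.TreeOperators

/-!
# Representations of small degree of simply laced groups: the rank many fixed vectors

Below the bound the positive unipotent group fixes at least rank many independent vectors.
-/

set_option autoImplicit false
set_option linter.unusedSectionVars false

attribute [-instance] MonoidHom.instZPow

namespace CfsgLib.MinDeg.LacedRoot

open Cfsg.Lie CfsgLib.Lie.Chev CfsgLib.Lie.Laced CfsgLib.MinDeg.RootSpace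
open scoped MatrixGroups

section exps

variable {n : ℕ}

/-- the Cartan integers of a tree -/
def cA (adj : Fin n → Fin n → Bool) (k i : Fin n) : ℤ := if k = i then 2 else if adj k i then -1 else 0

/-- exponents of the torus characters along a word -/
def expo (adj : Fin n → Fin n → Bool) (a b : Fin n) : List (Fin n) → Fin n → ℤ × ℤ
  | [] => fun k => if k = a then (1, 0) else if k = b then (0, 1) else (0, 0)
  | i :: l => fun k =>
    ((expo adj a b l k).1 - cA adj k i * (expo adj a b l i).1,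
      (expo adj a b l k).2 - cA adj k i * (expo adj a b l i).2)

end exps

theorem zpow_step {G : Type*} [CommGroup G] (x y : G) (a b c d e : ℤ) :
    x ^ (a - e * c) * y ^ (b - e * d) = x ^ a * y ^ b * (x ^ c * y ^ d) ^ (-e) := by
  rw [mul_zpow, ← zpow_mul, ← zpow_mul, mul_mul_mul_comm, ← zpow_add, ← zpow_add]
  congr 2 <;> ring

theorem zpow_idle {G : Type*} [CommGroup G] (y : G) : 1 * y ^ (-(0 : ℤ)) = 1 ∧ 1 * y ^ (-(-1 : ℤ)) = y := by
  simp

theorem zpow_cancel {G : Type*} [CommGroup G] (x : G) (m n : ℤ) (h : (m - n).natAbs = 1) (e : x ^ m = x ^ n) :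
    x = 1 := by
  have h1 : x ^ (m - n) = 1 := by rw [zpow_sub, e, mul_inv_cancel]
  rcases Int.natAbs_eq_iff.1 h with h2 | h2 <;> rw [h2] at h1 <;> simpa using h1

variable {D : ChevalleyDatum} {C : Full D}

/-- what is needed from the diagram -/
structure TreeData {N : ℕ} (S : LSys C N) where
  leaf : Fin D.rank
  next : Fin D.rank
  leaf_adj : S.adj leaf next = true
  only : ∀ k, S.adj leaf k = true → k = next
  words : Fin D.rank → List (Fin D.rank)
  distinct : ∀ p p', p ≠ p' → ∃ k, (expo S.adj leaf next (words p) k).1 = (expo S.adj leaf next (words p') k).1 ∧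
    ((expo S.adj leaf next (words p) k).2 - (expo S.adj leaf next (words p') k).2).natAbs = 1
  orth : ∃ i, i ≠ leaf ∧ S.adj leaf i = false
  spreads : TreeOperators.Spreads S.adj
  regular : ∀ q : ℕ, 2 ≤ q → TreeOperators.Regular S.adj q

variable {K : Type*} [Field K] [Fintype K]
variable {V : Type*} [AddCommGroup V] [Module ℂ V] [FiniteDimensional ℂ V]
variable {ρ : Representation ℂ ↥(D.group K) V} {ψ : AddChar K ℂ}

local notation "Eg" => Er C ρ ψ
local notation "Zs" => Z C ρ ψ
local notation "α" => C.G.simp'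

/-- eigenvectors with distinct eigenvalue functions are independent -/
theorem independent_eigen {ι Y : Type*} (f : Y → Module.End ℂ V) (x : ι → V) (c : ι → Y → ℂ)
    (h0 : ∀ i, x i ≠ 0) (he : ∀ i y, f y (x i) = c i y • x i) (hc : Function.Injective c) :
    LinearIndependent ℂ x := by
  classical
  rw [linearIndependent_iff']
  intro s
  induction s using Finset.induction with
  | empty => intro g _ i hi; simp at hi
  | insert j s hj ih =>
    intro g hg
    have hs : ∀ i ∈ s, g i = 0 := fun i hi => by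
      obtain ⟨y, hy⟩ := Function.ne_iff.1 (hc.ne (show i ≠ j from fun e => hj (e ▸ hi)))
      have h1 := congrArg (f y) hg
      simp only [map_sum, map_smul, he, map_zero] at h1
      have h2 : ∑ k ∈ s, (g k * (c k y - c j y)) • x k = 0 := by
        rw [Finset.sum_insert hj] at hg h1
        have h3 : ∑ k ∈ s, g k • c k y • x k - c j y • ∑ k ∈ s, g k • x k = 0 := by
          rw [eq_neg_of_add_eq_zero_right hg, eq_neg_of_add_eq_zero_right h1, smul_neg, smul_comm (c j y),
            sub_self]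
        rw [← h3, Finset.smul_sum, ← Finset.sum_sub_distrib]
        refine Finset.sum_congr rfl fun k _ => ?_
        rw [smul_smul, smul_smul, ← sub_smul]
        congr 1
        ring
      exact (mul_eq_zero.1 (ih _ h2 i hi)).resolve_right (sub_ne_zero.2 hy)
    intro i hi
    rcases Finset.mem_insert.1 hi with rfl | hi
    · rw [Finset.sum_insert hj, Finset.sum_eq_zero fun k hk => by rw [hs k hk, zero_smul], add_zero] at hg
      exact (smul_eq_zero.1 hg).resolve_right (h0 i)
    · exact hs i hi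

/-- a character of the torus on the fixed vectors, by its values on the fundamental coroots -/
def IsEig (C : Full D) (ρ : Representation ℂ ↥(D.group K) V) (ψ : AddChar K ℂ)
    (γ : Fin D.rank → (Kˣ →* ℂˣ)) : Prop :=
  ∃ u ∈ U0 C ρ ψ, u ≠ 0 ∧ ∀ i t, ρ (hG C (C.G.simp' i) t) u = ((γ i t : ℂˣ) : ℂ) • u

theorem eig_card {m : ℕ} {γ : Fin m → Fin D.rank → (Kˣ →* ℂˣ)} (h : ∀ p, IsEig C ρ ψ (γ p))
    (hinj : Function.Injective γ) : m ≤ Module.finrank ℂ ↥(U0 C ρ ψ) := by
  choose u hu hu0 hγ using h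
  have hli : LinearIndependent ℂ u :=
    independent_eigen (fun y : Fin D.rank × Kˣ => ρ (hG C (α y.1) y.2)) u
      (fun p y => ((γ p y.1 y.2 : ℂˣ) : ℂ)) hu0 (fun p y => hγ p y.1 y.2) fun p p' e =>
        hinj (funext fun i => MonoidHom.ext fun t => Units.ext (congrFun e (i, t)))
  have h1 : LinearIndependent ℂ (fun p => (⟨u p, hu p⟩ : ↥(U0 C ρ ψ))) :=
    LinearIndependent.of_comp (U0 C ρ ψ).subtype hli
  simpa using h1.fintype_card_le_finrank

theorem ne_bot_exists_char {u : V} (hu : u ≠ 0) {c : {g : ↥(D.group K) // InH g} → ℂ}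
    (hc : ∀ g, ρ g.1 u = c g • u) (i : Fin D.rank) :
    ∃ χ : Kˣ →* ℂˣ, ∀ t, ρ (hG C (α i) t) u = ((χ t : ℂˣ) : ℂ) • u := by
  have hmul : ∀ s t : Kˣ, hG C (α i) (s * t) = hG C (α i) s * hG C (α i) t := fun s t =>
    Subtype.ext (by rw [Subgroup.coe_mul]; exact map_mul _ _ _)
  let χ0 : Kˣ →* ℂ :=
    { toFun := fun t => c ⟨hG C (α i) t, InH.hG _ t⟩
      map_one' := smul_left_injective ℂ hu (by
        show c _ • u = (1 : ℂ) • u
        rw [← hc, one_smul]
        show ρ (hG C (α i) (1 : Kˣ)) u = u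
        rw [show hG C (α i) (1 : Kˣ) = 1 from Subtype.ext (map_one (C.G.hd (α i))), map_one]
        rfl)
      map_mul' := fun s t => smul_left_injective ℂ hu (by
        show c _ • u = (c _ * c _) • u
        rw [← hc]
        show ρ (hG C (α i) (s * t)) u = _
        rw [hmul, rho_mul, hc ⟨_, InH.hG _ t⟩, map_smul, hc ⟨_, InH.hG _ s⟩, smul_smul, mul_comm]) }
  exact ⟨χ0.toHomUnits, fun t => by rw [MonoidHom.coe_toHomUnits]; exact hc ⟨_, InH.hG _ t⟩⟩

variable {N : ℕ} {S : LSys C N}

namespace LSys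

variable (S)
include S

theorem coroot_refl (k i : Fin D.rank) (j : Fin D.rank) :
    (D.coroot.getD (C.G.w i (α k)).val #[]).getD j.val 0 =
      (if j = k then 1 else 0) - cA S.adj k i * (if j = i then 1 else 0) := by
  have hA : cart D k (α i) = cA S.adj k i := by
    rw [cA]
    split_ifs with h1 h2
    · rw [h1, C.G.cart_simp]
    · rw [← ip_simp (C := C), S.adj_ip k i h1, if_pos h2]
    · rw [← ip_simp (C := C), S.adj_ip k i h1, if_neg h2]
  rw [C.G.coroot_w, Finset.sum_eq_single k (fun l _ hl => by rw [C.G.coroot_simp, if_neg hl, mul_zero]) (by simp),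
    C.G.coroot_simp, C.G.coroot_simp, if_pos rfl, mul_one, hA]
  by_cases hji : j = i <;> simp [hji]

theorem eig_step {γ : Fin D.rank → (Kˣ →* ℂˣ)} (h : IsEig C ρ ψ γ) (i : Fin D.rank) :
    IsEig C ρ ψ fun k => γ k * γ i ^ (- cA S.adj k i) := by
  obtain ⟨u, hu, hu0, hγ⟩ := h
  refine ⟨T C ρ i u, S.T_mem i hu, fun e => hu0 (S.T_inj i (simp_fix hu) e), fun k t => ?_⟩
  have hconj : (nG C i)⁻¹ * hG C (α k) t * nG C i =
      hG C (α k) t * hG C (α i) (t ^ (- cA S.adj k i)) := by
    apply Subtype.ext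
    show (C.G.nU i)⁻¹ * C.G.hd (α k) t * C.G.nU i = C.G.hd (α k) t * C.G.hd (α i) (t ^ (- cA S.adj k i))
    have h1 := C.G.hd_w i (C.G.w i (α k)) t
    rw [C.G.w_w] at h1
    rw [mul_assoc, ← h1, inv_mul_cancel_left, C.G.hd_eq_torθ, C.G.hd_eq_torθ, C.G.hd_eq_torθ, ← map_mul]
    congr 1
    funext j
    simp only [Pi.mul_apply, S.coroot_refl, C.G.coroot_simp, ← zpow_mul, ← zpow_add]
    congr 1
    ring
  rw [H_T (InH.hG (α k) t), hconj, rho_mul, hγ, map_smul, hγ, smul_smul, map_smul]
  congr 1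
  simp only [MonoidHom.mul_apply, Units.val_mul]
  rw [mul_comm]
  congr 2
  exact (map_zpow (γ i) t _).trans (by simp [MonoidHom.coe_mk])

theorem eig_word {γ : Fin D.rank → (Kˣ →* ℂˣ)} (h : IsEig C ρ ψ γ) {a b : Fin D.rank}
    (hsupp : ∀ k, k ≠ a → k ≠ b → γ k = 1) (hab : a ≠ b) :
    ∀ l : List (Fin D.rank),
      IsEig C ρ ψ fun k => γ a ^ (expo S.adj a b l k).1 * γ b ^ (expo S.adj a b l k).2 := by
  intro l
  induction l with
  | nil =>
    have e : (fun k => γ a ^ (expo S.adj a b [] k).1 * γ b ^ (expo S.adj a b [] k).2) = γ := by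
      funext k
      simp only [expo]
      split_ifs with h1 h2
      · subst h1; simp
      · subst h2; simp
      · rw [hsupp k h1 h2]; simp
    rw [e]
    exact h
  | cons i l ih =>
    have e : (fun k => γ a ^ (expo S.adj a b (i :: l) k).1 * γ b ^ (expo S.adj a b (i :: l) k).2) =
        fun k => (γ a ^ (expo S.adj a b l k).1 * γ b ^ (expo S.adj a b l k).2) *
          (γ a ^ (expo S.adj a b l i).1 * γ b ^ (expo S.adj a b l i).2) ^ (- cA S.adj k i) := by
      funext k
      simp only [expo]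
      exact zpow_step _ _ _ _ _ _ _
    rw [e]
    exact S.eig_step ih i

end LSys

namespace Small

variable (H : Small ρ ψ S)
include H

theorem rank_le_of_char (T' : TreeData S) {γ : Fin D.rank → (Kˣ →* ℂˣ)} (h : IsEig C ρ ψ γ)
    (hsupp : ∀ k, k ≠ T'.leaf → k ≠ T'.next → γ k = 1) (hb : γ T'.next ≠ 1) :
    D.rank ≤ Module.finrank ℂ ↥(U0 C ρ ψ) := by
  refine eig_card (fun p => S.eig_word h hsupp (S.adj_ne _ _ T'.leaf_adj) (T'.words p)) fun p p' e => ?_
  by_contra hne
  obtain ⟨k, h1, h2⟩ := T'.distinct p p' hne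
  have e' := congrFun e k
  simp only [h1] at e'
  exact hb (zpow_cancel _ _ _ h2 (mul_left_cancel e'))

theorem exists_base (T' : TreeData S) : ∃ u ∈ U0 C ρ ψ, u ≠ 0 ∧
    (∀ i, i ≠ T'.leaf → S.adj T'.leaf i = false → u ∈ Eg (C.G.negr (α i)) 0) ∧
      ∃ c : {g : ↥(D.group K) // InH g} → ℂ, ∀ g, ρ g.1 u = c g • u := by
  classical
  set a := T'.leaf
  let O : Set (Fin D.nroots) := {v | ∃ i, i ≠ a ∧ S.adj a i = false ∧ v = C.G.negr (α i)}
  set W0 := U0 C ρ ψ ⊓ Zs O
  have hinv : ∀ g : {g : ↥(D.group K) // InH g}, ∀ x ∈ W0, ρ g.1 x ∈ W0 := fun g x hx =>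
    ⟨g.2.U0 hx.1, mem_Z.2 fun u hu => g.2.zero (mem_Z.1 hx.2 u hu)⟩
  obtain ⟨y, hy, hy0⟩ := ne_bot_of_pos (W := Y C ρ ψ a (1 : K)) (by rw [H.dim_Y a one_ne_zero]; exact one_pos)
  set z := ∑ t : K, ρ (X C (C.G.negr (α a)) t) y
  have hz : z ≠ 0 := H.sum_neg_ne a one_ne_zero hy hy0
  have hzo : z ∈ Zs {v | D.IsPosRoot v.val ∧ v ≠ α a} :=
    Submodule.sum_mem _ fun t _ => S.inv_others (ρ := ρ) (ψ := ψ) a _ (Or.inr rfl) t _ hy.2
  have hz' : z ∈ Eg (C.G.negr (α a)) 0 := sum_mem_zero _ _
  have hv : ρ (nG C a) z ∈ W0 := by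
    refine ⟨mem_Z.2 fun v hv => ?_, mem_Z.2 fun v hv => ?_⟩
    · by_cases hva : v = α a
      · subst hva
        exact n_zero a (by rw [C.G.w_simp]; exact hz')
      · exact mem_Z.1 (n_others a hzo) v ⟨hv, hva⟩
    · obtain ⟨i, hia, hadj, rfl⟩ := hv
      have h0 : ip D (α a) (α i) = 0 := by rw [S.adj_ip a i (Ne.symm hia), hadj]; simp
      have hw : C.G.w a (α i) = α i := by
        refine C.G.rho_injective ?_
        rw [C.G.rho_w, ← ip_simp, h0, zero_smul, sub_zero]
      refine n_zero a ?_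
      rw [C.G.w_negr, hw]
      exact Submodule.sum_mem _ fun t _ => pres0 S.laced (by
        rw [ip_negr, S.laced.1, ip_negr, S.laced.1, h0]; norm_num) t (H.Y_neg h0 one_ne_zero hy)
  have hW0 : W0 ≠ ⊥ := fun e => hz (rho_inj (nG C a)
    (((Submodule.mem_bot ℂ).1 (e ▸ hv)).trans (map_zero _).symm))
  obtain ⟨u, hu, hu0, c, hc⟩ := exists_common (fun g : {g : ↥(D.group K) // InH g} => ρ g.1) W0 hW0 hinv
    fun g g' x _ => by
      rw [← rho_mul, ← rho_mul, show g.1 * g'.1 = g'.1 * g.1 from Subtype.ext (C.G.diagonal_comm g.2 g'.2)]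
  exact ⟨u, hu.1, hu0, fun i hi hadj => mem_Z.1 hu.2 _ ⟨i, hi, hadj, rfl⟩, c, hc⟩

theorem rank_le_U0 (T' : TreeData S) : D.rank ≤ Module.finrank ℂ ↥(U0 C ρ ψ) := by
  classical
  set a := T'.leaf with ha
  set b := T'.next with hb
  have hab : a ≠ b := S.adj_ne _ _ T'.leaf_adj
  obtain ⟨u, hu, hu0, huO, c, hc⟩ := H.exists_base T'
  choose γ hγ using ne_bot_exists_char (C := C) hu0 hc
  have hfix : ∀ i, i ≠ a → S.adj a i = false → ρ (nG C i) u = u := fun i hi hadj =>
    fix_of_neg i (simp_fix hu) (huO i hi hadj)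
  have horth : ∀ k, k ≠ a → k ≠ b → γ k = 1 := by
    intro k hka hkb
    have hadj : S.adj a k = false := by
      cases h : S.adj a k with
      | true => exact absurd (T'.only k h) hkb
      | false => rfl
    refine MonoidHom.ext fun t => Units.ext (smul_left_injective ℂ hu0 ?_)
    show ((γ k t : ℂˣ) : ℂ) • u = ((1 : ℂˣ) : ℂ) • u
    rw [← hγ, Units.val_one, one_smul]
    have hnR : ∀ s : K, ρ (nR C (α k) s) u = u := fun s => by
      have e : nR C (α k) s = X C (α k) s * X C (C.G.negr (α k)) (-s⁻¹) * X C (α k) s := Subtype.ext (by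
        show C.G.nE (α k) s = _
        rw [Subgroup.coe_mul, Subgroup.coe_mul, X_coe, X_coe, Good.nE])
      rw [e, rho_mul, rho_mul, mem_E_zero.1 (simp_fix hu), mem_E_zero.1 (huO k hka hadj), mem_E_zero.1 (simp_fix hu)]
    have := hnR (t : K)
    rw [nR_simp k t.ne_zero, rho_mul, hfix k hka hadj, Units.mk0_val] at this
    exact this
  have heig : IsEig C ρ ψ γ := ⟨u, hu, hu0, hγ⟩
  by_cases hb1 : γ b = 1
  swap
  · exact H.rank_le_of_char T' heig horth hb1
  by_cases ha1 : γ a = 1
  swap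
  · refine H.rank_le_of_char T' (S.eig_step heig a) (fun k hka hkb => ?_) ?_
    · have : S.adj k a = false := by
        cases h : S.adj k a with
        | true => exact absurd (T'.only k (S.adj_symm h)) hkb
        | false => rfl
      have hc0 : cA S.adj k a = 0 := by rw [cA, if_neg hka, this]; simp
      show γ k * γ a ^ (-cA S.adj k a) = 1
      rw [hc0, horth k hka hkb]
      exact (zpow_idle (γ a)).1
    · have hc1 : cA S.adj b a = -1 := by rw [cA, if_neg hab.symm, if_pos (S.adj_symm T'.leaf_adj)]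
      show γ b * γ a ^ (-cA S.adj b a) ≠ 1
      rw [hc1, hb1]
      intro e
      exact ha1 ((zpow_idle (γ a)).2.symm.trans e)
  have hall : ∀ k, γ k = 1 := fun k => by
    by_cases h1 : k = a
    · rw [h1, ha1]
    · by_cases h2 : k = b
      · rw [h2, hb1]
      · exact horth k h1 h2
  have huW : u ∈ W1 C ρ ψ := by
    refine mem_W1.2 ⟨hu, fun g hg => ?_⟩
    have hg' : (g : GL D.Idx K) ∈ (C.G.torθ (K := K)).range := by
      rw [← C.G.diagonal_eq_range]; exact hg
    obtain ⟨θ, hθ⟩ := hg'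
    have e : g = ((List.finRange D.rank).map fun i => hG C (α i) (θ i)).prod := Subtype.ext (by
      rw [← Subgroup.coe_subtype, map_list_prod, List.map_map, Subgroup.coe_subtype, ← hθ, C.G.torθ_eq_prod]
      rfl)
    rw [e]
    induction List.finRange D.rank with
    | nil => simp
    | cons i l ih => rw [List.map_cons, List.prod_cons, rho_mul, ih, hγ, hall i]; simp
  set q := Fintype.card K with hq
  let P : Fin D.rank → Module.End ℂ ↥(W1 C ρ ψ) := fun i =>
    (q : ℂ) • LinearMap.id - (T C ρ i).restrict (fun x hx => S.T_W1 i hx)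
  have hP : ∀ i (x : ↥(W1 C ρ ψ)), ((P i x : ↥(W1 C ρ ψ)) : V) = (q : ℂ) • (x : V) - T C ρ i (x : V) :=
    fun i x => rfl
  have hrk : ∀ i, Module.finrank ℂ ↥(LinearMap.range (P i)) ≤ 1 := by
    intro i
    obtain ⟨L, hL⟩ := H.exists_line_map i
    have hk : LinearMap.ker L ≤ LinearMap.ker (P i) := fun x hx => by
      rw [LinearMap.mem_ker] at hx ⊢
      refine Subtype.ext ?_
      rw [hP, hL x hx, sub_self]
      rfl
    have h1 := LinearMap.finrank_range_add_finrank_ker L
    have h2 := LinearMap.finrank_range_add_finrank_ker (P i)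
    have h3 := Submodule.finrank_mono hk
    have h4 := Submodule.finrank_le (LinearMap.range L)
    rw [H.dim_Y i one_ne_zero] at h4
    omega
  have h := TreeOperators.rank_le S.adj q Fintype.card_pos P S.root S.adj_ne S.conn
    (fun i x => Subtype.ext (by
      simp only [hP, Submodule.coe_smul, map_sub, map_smul, S.T_sq i x.2, ← hq]
      module))
    hrk
    (fun i j hij hadj x => Subtype.ext (by
      simp only [hP, map_sub, map_smul, S.T_comm hij hadj x.2]
      module))
    (fun i j hadj x => Subtype.ext (by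
      simp only [hP, Submodule.coe_sub, Submodule.coe_smul, map_sub, map_smul, S.T_sq i x.2, S.T_sq j x.2,
        S.T_braid hadj x.2, ← hq]
      module))
    (fun x hx => Subtype.ext (no_fixed H.irr H.two_le fun i t => by
      have hT : T C ρ i (x : V) = (q : ℂ) • (x : V) := by
        have := congrArg Subtype.val (hx i)
        rw [hP] at this
        exact (sub_eq_zero.1 this).symm
      exact ⟨mem_E_zero.1 (simp_fix (ψ := ψ) (mem_W1.1 x.2).1) t,
        mem_E_zero.1 (S.fix_of_T i x.2 hT).2 t⟩))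
    a T'.orth ⟨u, huW⟩ (fun e => hu0 (congrArg Subtype.val e))
    (fun i hi hadj => Subtype.ext (by
      rw [hP]
      show (q : ℂ) • u - T C ρ i u = 0
      rw [T_apply, hfix i hi hadj, Finset.sum_congr rfl fun t _ => mem_E_zero.1 (simp_fix hu) t, Finset.sum_const,
        Finset.card_univ, Nat.cast_smul_eq_nsmul, sub_self]))
    T'.spreads (T'.regular q Fintype.one_lt_card)
  exact h.trans (Submodule.finrank_mono inf_le_left)

end Small

/-- the bound from the count and the fixed vectors -/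
theorem degree_bound (S : LSys C N) (T' : TreeData S) {F : Type*} [Field F] [Fintype F] {k : ℕ}
    (σ : Representation ℂ ↥(D.group F) (Fin k → ℂ)) (hσ : σ.IsIrreducible) (hk : 2 ≤ k) (B : ℕ)
    (hB : B ≤ 2 * ((Fintype.card F - 1) * (Fintype.card F ^ N + Fintype.card F ^ (N - 1))))
    (hcount : B ≤ (∑ s ∈ posF D, (Fintype.card F - 1) * Fintype.card F ^ ((hg C s).toNat - 1)) + D.rank) :
    B ≤ k := by
  by_contra hlt
  obtain ⟨φ, hφ⟩ := exists_primitive F
  have H : Small σ φ S := ⟨hφ, hσ, by rwa [Module.finrank_fin_fun], by rw [Module.finrank_fin_fun]; omega⟩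
  have h1 := H.count
  have h2 : D.rank ≤ Module.finrank ℂ ↥(Z C σ φ {v | D.IsPosRoot v.val}) := H.rank_le_U0 T'
  rw [Module.finrank_fin_fun] at h1
  omega

end CfsgLib.MinDeg.LacedRoot
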