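import Cfsg.Agent.Lib.Lie.Chev.Full
import Cfsg.Agent.Lib.Lie.Chev.Cent
import Cfsg.Agent.Lib.MinDeg.Eigen
import Mathlib.LinearAlgebra.Trace
import Mathlib.RepresentationTheory.Basic

/-!
# Simultaneous eigenspaces of root subgroups in complex representations

`E C ρ ψ r a` is the space of vectors on which every `x_r(t)` acts as `ψ (a t)`.
-/

set_option autoImplicit false
set_option linter.unusedSectionVars false

namespace CfsgLib.MinDeg.RootSpace

open Cfsg.Lie CfsgLib.Lie.Chev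
open scoped MatrixGroups

variable {D : ChevalleyDatum} (C : Full D) {K : Type*} [Field K]

/-- the root element with a numeral index -/
noncomputable def gx (i : ℕ) (t : K) : ↥(D.group K) :=
  if h : i < D.nroots then ⟨C.G.xu ⟨i, h⟩ t, C.G.xu_mem _ _⟩ else 1

theorem gx_of_lt {i : ℕ} (h : i < D.nroots) (t : K) :
    gx C i t = ⟨C.G.xu ⟨i, h⟩ t, C.G.xu_mem _ _⟩ := dif_pos h

theorem gx_coe {i : ℕ} (h : i < D.nroots) (t : K) :
    (gx C i t : GL D.Idx K) = C.G.xu ⟨i, h⟩ t := by rw [gx_of_lt C h]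

theorem gx_zero (i : ℕ) : gx C i (0 : K) = 1 := by
  by_cases h : i < D.nroots
  · exact Subtype.ext ((gx_coe C h 0).trans (C.G.xu_zero _))
  · exact dif_neg h

theorem gx_add (i : ℕ) (s t : K) : gx C i (s + t) = gx C i s * gx C i t := by
  by_cases h : i < D.nroots
  · apply Subtype.ext
    rw [Subgroup.coe_mul, gx_coe C h, gx_coe C h, gx_coe C h, C.G.xu_add]
  · simp [gx, h]

theorem gx_neg (i : ℕ) (t : K) : gx C i (-t) = (gx C i t)⁻¹ := by
  refine eq_inv_of_mul_eq_one_left ?_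
  rw [← gx_add, neg_add_cancel, gx_zero]

/-- the list of correction factors of the commutator formula -/
def terms (r s : ℕ) (t u : K) : List (ℕ × K) :=
  (D.commTerms r s).map fun c => (c.1, (c.2.1 : K) * (-t) ^ c.2.2.1 * u ^ c.2.2.2)

theorem gx_comm {r s : ℕ} (hr : r < D.nroots) (hs : s < D.nroots) (hsr : s ≠ r) (hsn : s ≠ D.neg r) (t u : K) :
    gx C s u * gx C r t = gx C r t * gx C s u * ((terms (D := D) r s t u).map fun p => gx C p.1 p.2).prod := by
  have h := C.commAt (⟨r, hr⟩ : Fin D.nroots) ⟨s, hs⟩ (fun e => hsr (congrArg Fin.val e))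
    (fun e => hsn (by rw [C.G.neg_val ⟨r, hr⟩]; exact congrArg Fin.val e)) t u
  unfold CommAt at h
  apply Subtype.ext
  apply Units.ext
  simp only [Subgroup.coe_mul, Units.val_mul, gx_coe C hr, gx_coe C hs, Good.coe_xu, h]
  congr 1
  rw [← Subgroup.coe_subtype, map_list_prod, ← Units.coeHom_apply, map_list_prod, wordR, cwR, terms,
    List.map_map, List.map_map, List.map_map, List.map_map]
  congr 1
  refine List.map_congr_left fun c hc => ?_
  have hlt := (C.commTerms_weight (r := ⟨r, hr⟩) (s := ⟨s, hs⟩) hc).2.2.1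
  simp [gx_coe C hlt, xN, dif_pos hlt, Good.coe_xu]

variable {V : Type*} [AddCommGroup V] [Module ℂ V]
variable (ρ : Representation ℂ ↥(D.group K) V) (ψ : AddChar K ℂ)

/-- the eigenspace of a root subgroup for the character `t ↦ ψ (a t)` -/
noncomputable def E (r : ℕ) (a : K) : Submodule ℂ V :=
  ⨅ t : K, Module.End.eigenspace (ρ (gx C r t)) (ψ (a * t))

variable {C ρ ψ}

theorem mem_E {r : ℕ} {a : K} {x : V} : x ∈ E C ρ ψ r a ↔ ∀ t, ρ (gx C r t) x = ψ (a * t) • x := by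
  simp [E, Submodule.mem_iInf]

theorem mem_E_zero {r : ℕ} {x : V} : x ∈ E C ρ ψ r 0 ↔ ∀ t, ρ (gx C r t) x = x := by
  simp [mem_E]

theorem rho_mul (g h : ↥(D.group K)) (x : V) : ρ (g * h) x = ρ g (ρ h x) := by
  rw [map_mul]; rfl

theorem rho_inj (g : ↥(D.group K)) : Function.Injective (ρ g) :=
  Function.LeftInverse.injective (g := ρ g⁻¹) fun x => by
    rw [← rho_mul, inv_mul_cancel, map_one]; rfl

theorem rho_inv_self (g : ↥(D.group K)) (x : V) : ρ g⁻¹ (ρ g x) = x := by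
  rw [← rho_mul, inv_mul_cancel, map_one]; rfl

theorem rho_self_inv (g : ↥(D.group K)) (x : V) : ρ g (ρ g⁻¹ x) = x := by
  rw [← rho_mul, mul_inv_cancel, map_one]; rfl

theorem prod_act {l : List (ℕ × K)} {f : ℕ → K} {x : V} (h : ∀ p ∈ l, x ∈ E C ρ ψ p.1 (f p.1)) :
    ρ (l.map fun p => gx C p.1 p.2).prod x = ψ (l.map fun p => f p.1 * p.2).sum • x := by
  induction l with
  | nil => simp
  | cons p l ih =>
    rw [List.map_cons, List.prod_cons, rho_mul, ih fun q hq => h q (List.mem_cons_of_mem _ hq), map_smul,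
      mem_E.1 (h p List.mem_cons_self), smul_smul, List.map_cons, List.sum_cons, AddChar.map_add_eq_mul,
      mul_comm]

/-- `x_r(t)` moves the `x_s`-character by the correction terms -/
theorem shift {r s : ℕ} (hr : r < D.nroots) (hs : s < D.nroots) (hsr : s ≠ r) (hsn : s ≠ D.neg r)
    {f : ℕ → K} {b b' : K} {x : V} {t : K} (hb : x ∈ E C ρ ψ s b)
    (hf : ∀ c ∈ D.commTerms r s, x ∈ E C ρ ψ c.1 (f c.1))
    (he : ∀ u : K, b * u + ((terms (D := D) r s t u).map fun p => f p.1 * p.2).sum = b' * u) :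
    ρ (gx C r t) x ∈ E C ρ ψ s b' := by
  refine mem_E.2 fun u => ?_
  rw [← rho_mul, gx_comm C hr hs hsr hsn t u, rho_mul, prod_act (f := f), map_smul, rho_mul,
    mem_E.1 hb, map_smul, smul_smul, ← he, AddChar.map_add_eq_mul, mul_comm]
  intro p hp
  obtain ⟨c, hc, rfl⟩ := List.mem_map.1 hp
  exact hf c hc

/-- commuting root elements keep the character -/
theorem shift_nil {r s : ℕ} (hr : r < D.nroots) (hs : s < D.nroots) (hsr : s ≠ r) (hsn : s ≠ D.neg r)
    (h : D.commTerms r s = []) {b : K} {x : V} (t : K) (hb : x ∈ E C ρ ψ s b) :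
    ρ (gx C r t) x ∈ E C ρ ψ s b :=
  shift hr hs hsr hsn (f := fun _ => 0) hb (by simp [h]) (fun u => by simp [terms, h])

/-- the same for a root subgroup itself -/
theorem shift_self {r : ℕ} {b : K} {x : V} (t : K) (hb : x ∈ E C ρ ψ r b) :
    ρ (gx C r t) x ∈ E C ρ ψ r b := by
  rw [mem_E.1 hb t]
  exact Submodule.smul_mem _ _ hb

/-- transport by an element normalising root subgroups -/
theorem conj_act {g : ↥(D.group K)} {r r' : ℕ} (hr : r < D.nroots) (hr' : r' < D.nroots) {e : K} (he : e ≠ 0)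
    (hg : ∀ t, (g : GL D.Idx K) * C.G.xu ⟨r, hr⟩ t * (g : GL D.Idx K)⁻¹ = C.G.xu ⟨r', hr'⟩ (e * t))
    {a : K} {x : V} (hx : x ∈ E C ρ ψ r a) : ρ g x ∈ E C ρ ψ r' (e⁻¹ * a) := by
  refine mem_E.2 fun u => ?_
  have h : gx C r' u * g = g * gx C r (e⁻¹ * u) := Subtype.ext (by
    rw [Subgroup.coe_mul, Subgroup.coe_mul, gx_coe C hr', gx_coe C hr,
      show C.G.xu ⟨r', hr'⟩ u = C.G.xu ⟨r', hr'⟩ (e * (e⁻¹ * u)) by rw [mul_inv_cancel_left₀ he], ← hg,
      inv_mul_cancel_right])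
  rw [← rho_mul, h, rho_mul, mem_E.1 hx, map_smul, mul_assoc, mul_left_comm]

theorem eq_zero_of_mem (hψ : ψ.IsPrimitive) {r : ℕ} {a b : K} {x : V} (hab : a ≠ b) (ha : x ∈ E C ρ ψ r a)
    (hb : x ∈ E C ρ ψ r b) : x = 0 := by
  by_contra hx
  refine hψ (sub_ne_zero.2 hab) ?_
  ext t
  rw [AddChar.mulShift_apply, AddChar.one_apply]
  have h : ψ (a * t) = ψ (b * t) := smul_left_injective ℂ hx ((mem_E.1 ha t).symm.trans (mem_E.1 hb t))
  rw [sub_mul, AddChar.map_sub_eq_div, h, div_self (ψ.val_isUnit _).ne_zero]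

theorem le_finrank [FiniteDimensional ℂ V] {W W' : Submodule ℂ V} (g : ↥(D.group K))
    (h : ∀ x ∈ W, ρ g x ∈ W') : Module.finrank ℂ W ≤ Module.finrank ℂ W' :=
  LinearMap.finrank_le_finrank_of_injective (f := (ρ g).restrict h)
    fun a b e => Subtype.ext (rho_inj g (congrArg Subtype.val e))

theorem finrank_pos_iff' [FiniteDimensional ℂ V] {W : Submodule ℂ V} :
    0 < Module.finrank ℂ W ↔ W ≠ ⊥ := by
  rw [Nat.pos_iff_ne_zero, ne_eq, Submodule.finrank_eq_zero]

section decomposition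

variable [Fintype K] [FiniteDimensional ℂ V]

variable (C ρ ψ) in
/-- the projection to an eigenspace -/
noncomputable def proj (r : ℕ) (a : K) : Module.End ℂ V :=
  (Fintype.card K : ℂ)⁻¹ • ∑ t : K, ψ (-(a * t)) • ρ (gx C r t)

theorem proj_mem {r : ℕ} (a : K) {W : Submodule ℂ V} (hW : ∀ t, ∀ x ∈ W, ρ (gx C r t) x ∈ W) {x : V}
    (hx : x ∈ W) : proj C ρ ψ r a x ∈ W := by
  simp only [proj, LinearMap.smul_apply, LinearMap.sum_apply]
  exact W.smul_mem _ (W.sum_mem fun t _ => W.smul_mem _ (hW t x hx))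

theorem proj_mem_E (r : ℕ) (a : K) (x : V) : proj C ρ ψ r a x ∈ E C ρ ψ r a := by
  refine mem_E.2 fun u => ?_
  simp only [proj, LinearMap.smul_apply, LinearMap.sum_apply, map_smul, map_sum, Finset.smul_sum, smul_smul,
    ← rho_mul, ← gx_add]
  refine Fintype.sum_equiv (Equiv.addLeft u) _ _ fun t => ?_
  rw [Equiv.coe_addLeft]
  congr 1
  rw [← mul_assoc, mul_comm (ψ (a * u)), mul_assoc, ← AddChar.map_add_eq_mul]
  congr 2
  ring

theorem proj_eq {r : ℕ} {a : K} {x : V} (hx : x ∈ E C ρ ψ r a) : proj C ρ ψ r a x = x := by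
  simp only [proj, LinearMap.smul_apply, LinearMap.sum_apply, mem_E.1 hx, smul_smul]
  simp [← AddChar.map_add_eq_mul, ← Nat.cast_smul_eq_nsmul ℂ, smul_smul]

theorem sum_proj (hψ : ψ.IsPrimitive) (r : ℕ) (x : V) : ∑ a : K, proj C ρ ψ r a x = x := by
  classical
  simp only [proj, LinearMap.smul_apply, LinearMap.sum_apply, ← Finset.smul_sum]
  rw [Finset.sum_comm]
  simp only [← Finset.sum_smul]
  have h : ∀ t : K, (∑ a : K, ψ (-(a * t))) = if t = 0 then (Fintype.card K : ℂ) else 0 := fun t => by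
    have := AddChar.sum_mulShift (-t) hψ
    simp only [mul_neg, neg_eq_zero] at this
    rw [this]
    split_ifs <;> simp
  simp [h, gx_zero, smul_smul]

/-- an invariant subspace is the sum of its eigenspace parts -/
theorem finrank_decomp (hψ : ψ.IsPrimitive) (r : ℕ) (W : Submodule ℂ V)
    (hW : ∀ t, ∀ x ∈ W, ρ (gx C r t) x ∈ W) :
    Module.finrank ℂ W = ∑ a : K, Module.finrank ℂ ↥(W ⊓ E C ρ ψ r a) := by
  have hp : ∀ a, LinearMap.IsProj ((W ⊓ E C ρ ψ r a).comap W.subtype)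
      ((proj C ρ ψ r a).restrict (p := W) (q := W) fun x hx => proj_mem a hW hx) := fun a =>
    ⟨fun x => ⟨proj_mem a hW x.2, proj_mem_E r a _⟩, fun x hx => Subtype.ext (proj_eq hx.2)⟩
  have h1 : (Module.finrank ℂ W : ℂ) = ∑ a : K, (Module.finrank ℂ ↥(W ⊓ E C ρ ψ r a) : ℂ) := by
    rw [← LinearMap.trace_id ℂ ↥W,
      show (LinearMap.id : ↥W →ₗ[ℂ] ↥W) = ∑ a : K, (proj C ρ ψ r a).restrict (p := W) (q := W)
        (fun x hx => proj_mem a hW hx) from LinearMap.ext fun x => Subtype.ext (by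
          simp [LinearMap.restrict_apply, sum_proj hψ r (x : V)]), map_sum]
    refine Finset.sum_congr rfl fun a _ => ?_
    rw [(hp a).trace, LinearEquiv.finrank_eq (Submodule.comapSubtypeEquivOfLe inf_le_left)]
  exact_mod_cast h1

theorem finrank_decomp_ge (hψ : ψ.IsPrimitive) (r : ℕ) (W : Submodule ℂ V)
    (hW : ∀ t, ∀ x ∈ W, ρ (gx C r t) x ∈ W) (a : K) :
    Module.finrank ℂ ↥(W ⊓ E C ρ ψ r a) ≤ Module.finrank ℂ W :=
  Submodule.finrank_mono inf_le_left

/-- on an invariant line every root subgroup acts by a character -/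
theorem exists_char (hψ : ψ.IsPrimitive) (r : ℕ) (W : Submodule ℂ V)
    (hW : ∀ t, ∀ x ∈ W, ρ (gx C r t) x ∈ W) (h1 : Module.finrank ℂ W = 1) :
    ∃ a, W ≤ E C ρ ψ r a ∧ ∀ b, W ≤ E C ρ ψ r b → b = a := by
  have h := finrank_decomp hψ r W hW
  obtain ⟨a, -, ha⟩ := Finset.exists_ne_zero_of_sum_ne_zero (h ▸ (by omega : Module.finrank ℂ W ≠ 0))
  have hle : W ≤ E C ρ ψ r a := by
    have := Submodule.eq_of_le_of_finrank_le (inf_le_left : W ⊓ E C ρ ψ r a ≤ W) (by omega)
    exact inf_eq_left.1 this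
  refine ⟨a, hle, fun b hb => ?_⟩
  by_contra hne
  obtain ⟨x, hx, hx0⟩ := (Submodule.ne_bot_iff W).1 fun e => by rw [e, finrank_bot] at h1; omega
  exact hx0 (eq_zero_of_mem hψ hne (hb hx) (hle hx))

end decomposition

end CfsgLib.MinDeg.RootSpace
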