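import Cfsg.Agent.Lib.Lie.Chev.Tw.D4Simple
import Mathlib.Algebra.Polynomial.Roots

/-!
# ³D₄(q): the Heisenberg radical and the elements acting on it

Roots: `14` (`a`), the orbit `19, 16, 15` (`b`), the orbit `17, 20, 21` (`c`), `22` (`d`), `23` (`z`).
-/

set_option autoImplicit false
set_option maxRecDepth 100000
set_option linter.unusedSectionVars false

namespace CfsgLib.MinDeg.Triality

open Cfsg.Lie CfsgLib.Lie.Chev
open CfsgLib.Lie.Chev.TD4
open scoped MatrixGroups

variable {K : Type*} [Field K] (θ : K ≃+* K)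

/-- a root element -/
noncomputable abbrev X (i : ℕ) (t : K) (h : i < chevD4.nroots := by decide +kernel) : GL chevD4.Idx K :=
  TD4.C.G.xu (rt i h) t

/-- the additive group fixed by the field automorphism -/
def Fx : AddSubgroup K where
  carrier := {x | θ x = x}
  zero_mem' := map_zero θ
  add_mem' {a b} ha hb := by
    show θ (a + b) = a + b
    rw [map_add, ha, hb]
  neg_mem' {a} ha := by
    show θ (-a) = -a
    rw [map_neg, ha]

theorem eps_neg {r : Fin chevD4.nroots} (h : graphD4.eps.get r.val = true) : (twist θ).eps r = -1 := by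
  show (sgnB (graphD4.eps.get r.val) : K) = -1
  rw [h]; simp [sgnB]

theorem com {i j : ℕ} (hi : i < chevD4.nroots) (hj : j < chevD4.nroots)
    (h : chevD4.IsPosRoot i ∧ chevD4.IsPosRoot j ∧ j ≠ i ∧ chevD4.commTerms i j = []) (t u : K) :
    Commute (X i t hi) (X j u hj) := by
  obtain ⟨h1, h2, h3, h4⟩ := h
  exact TD4.C.xu_commute (r := rt i hi) (s := rt j hj) (fun e => h3 (congrArg Fin.val e))
    (TD4.C.pos_ne_negr (r := rt i hi) (s := rt j hj) h1 h2) h4 t u

theorem cj {i j z : ℕ} (hi : i < chevD4.nroots) (hj : j < chevD4.nroots) (hz : z < chevD4.nroots) {e : ℤ}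
    (h : chevD4.IsPosRoot i ∧ chevD4.IsPosRoot j ∧ j ≠ i ∧ chevD4.commTerms i j = [(z, e, 1, 1)]) (t u : K) :
    (X i t hi)⁻¹ * X j u hj * X i t hi = X j u hj * X z ((e : K) * (-t) * u) hz := by
  obtain ⟨h1, h2, h3, h4⟩ := h
  have key := TD4.C.commAt (R := K) (rt i hi) (rt j hj) (fun e => h3 (congrArg Fin.val e))
    (TD4.C.pos_ne_negr (r := rt i hi) (s := rt j hj) h1 h2) t u
  rw [mul_assoc, inv_mul_eq_iff_eq_mul, ← mul_assoc]
  apply Units.ext
  simp only [Units.val_mul, Good.coe_xu]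
  refine Eq.trans key ?_
  rw [show (rt i hi).val = i from rfl, show (rt j hj).val = j from rfl] at *
  simp [cwR, wordR, xN, h4, hz, rt]

theorem c_commute (i : ℕ) (hi : i < chevD4.nroots) (t : K) {P : GL chevD4.Idx K}
    (h : Commute (X i t hi) P) : (X i t hi)⁻¹ * P * X i t hi = P * 1 := by
  rw [mul_one, mul_assoc, ← h.eq, inv_mul_cancel_left]

theorem cmul {g P Q k l : GL chevD4.Idx K} (h1 : g⁻¹ * P * g = P * k) (h2 : g⁻¹ * Q * g = Q * l)
    (hk : Commute k Q) : g⁻¹ * (P * Q) * g = P * Q * (k * l) := by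
  calc g⁻¹ * (P * Q) * g = (g⁻¹ * P * g) * (g⁻¹ * Q * g) := by group
    _ = P * (k * Q) * l := by rw [h1, h2]; group
    _ = P * Q * (k * l) := by rw [hk.eq]; group

theorem cjoin {g h P k l : GL chevD4.Idx K} (h1 : g⁻¹ * P * g = P * k) (h2 : h⁻¹ * P * h = P * l)
    (hk : Commute k h) : (g * h)⁻¹ * P * (g * h) = P * (l * k) := by
  calc (g * h)⁻¹ * P * (g * h) = h⁻¹ * (g⁻¹ * P * g) * h := by group
    _ = h⁻¹ * P * (k * h) := by rw [h1]; group
    _ = (h⁻¹ * P * h) * k := by rw [hk.eq]; group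
    _ = P * (l * k) := by rw [h2]; group

/-- the orbit element `b` -/
noncomputable def eb (s : K) : GL chevD4.Idx K := X 19 s * X 16 (-θ s) * X 15 (-θ (θ s))

/-- the orbit element `c` -/
noncomputable def ec (s : K) : GL chevD4.Idx K := X 17 s * X 20 (-θ s) * X 21 (-θ (θ s))

/-- the triple element -/
noncomputable def ex (s : K) : GL chevD4.Idx K := x3 θ (rt 18) (rt 13) (rt 12) s

/-- the trace -/
def T (x : K) : K := x + θ x + θ (θ x)

theorem T_fixed (h3 : ∀ t : K, θ (θ (θ t)) = t) (x : K) : θ (T θ x) = T θ x := by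
  simp only [T, map_add, h3]; ring

theorem eb_add (s s' : K) : eb θ (s + s') = eb θ s * eb θ s' := by
  have c1 : ∀ t u : K, Commute (X 19 t) (X 16 u) := com _ _ (by decide +kernel)
  have c2 : ∀ t u : K, Commute (X 19 t) (X 15 u) := com _ _ (by decide +kernel)
  have c3 : ∀ t u : K, Commute (X 16 t) (X 15 u) := com _ _ (by decide +kernel)
  simp only [eb, map_add, neg_add, TD4.C.G.xu_add]
  rw [show X 19 s * X 19 s' * (X 16 (-θ s) * X 16 (-θ s')) * (X 15 (-θ (θ s)) * X 15 (-θ (θ s'))) =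
      X 19 s * (X 19 s' * X 16 (-θ s)) * (X 16 (-θ s') * X 15 (-θ (θ s))) * X 15 (-θ (θ s')) by group,
    (c1 _ _).eq, (c3 _ _).eq,
    show X 19 s * (X 16 (-θ s) * X 19 s') * (X 15 (-θ (θ s)) * X 16 (-θ s')) * X 15 (-θ (θ s')) =
      X 19 s * X 16 (-θ s) * (X 19 s' * X 15 (-θ (θ s))) * X 16 (-θ s') * X 15 (-θ (θ s')) by group,
    (c2 _ _).eq]
  group

theorem ec_add (s s' : K) : ec θ (s + s') = ec θ s * ec θ s' := by
  have c1 : ∀ t u : K, Commute (X 17 t) (X 20 u) := com _ _ (by decide +kernel)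
  have c2 : ∀ t u : K, Commute (X 17 t) (X 21 u) := com _ _ (by decide +kernel)
  have c3 : ∀ t u : K, Commute (X 20 t) (X 21 u) := com _ _ (by decide +kernel)
  simp only [ec, map_add, neg_add, TD4.C.G.xu_add]
  rw [show X 17 s * X 17 s' * (X 20 (-θ s) * X 20 (-θ s')) * (X 21 (-θ (θ s)) * X 21 (-θ (θ s'))) =
      X 17 s * (X 17 s' * X 20 (-θ s)) * (X 20 (-θ s') * X 21 (-θ (θ s))) * X 21 (-θ (θ s')) by group,
    (c1 _ _).eq, (c3 _ _).eq,
    show X 17 s * (X 20 (-θ s) * X 17 s') * (X 21 (-θ (θ s)) * X 20 (-θ s')) * X 21 (-θ (θ s')) =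
      X 17 s * X 20 (-θ s) * (X 17 s' * X 21 (-θ (θ s))) * X 20 (-θ s') * X 21 (-θ (θ s')) by group,
    (c2 _ _).eq]
  group

section fix

variable (h3 : ∀ t : K, θ (θ (θ t)) = t)

theorem single_fix {i : ℕ} (hi : i < chevD4.nroots) (h : graphD4.p.get i = i ∧ graphD4.eps.get i = false)
    {t : K} (ht : θ t = t) : X i t hi ∈ (twist θ).Fix := by
  have h' := (twist θ).mem_Fix_list [(rt i hi, t)] (by
    simp [p_eq θ (r := rt i hi) (s := rt i hi) h.1, eps_one θ (r := rt i hi) h.2, σ_eq, ht])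
  simpa using h'

theorem single_fixed {i : ℕ} (hi : i < chevD4.nroots) (h : graphD4.p.get i = i ∧ graphD4.eps.get i = false)
    {t : K} (ht : X i t hi ∈ (twist θ).Fix) : θ t = t := by
  have h' := (twist θ).fix_list (l := [(rt i hi, t)]) (by simpa using ht)
  simp only [List.map_cons, List.map_nil, List.prod_cons, List.prod_nil, mul_one, σ_eq,
    p_eq θ (r := rt i hi) (s := rt i hi) h.1, eps_one θ (r := rt i hi) h.2, one_mul] at h'
  exact TD4.C.G.xu_injective _ h'

include h3

theorem eb_fix (s : K) : eb θ s ∈ (twist θ).Fix := by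
  have c1 : ∀ t u : K, Commute (X 19 t) (X 16 u) := com _ _ (by decide +kernel)
  have c2 : ∀ t u : K, Commute (X 19 t) (X 15 u) := com _ _ (by decide +kernel)
  have h' := (twist θ).mem_Fix_list [(rt 19, s), (rt 16, -θ s), (rt 15, -θ (θ s))] (by
    simp only [List.map_cons, List.map_nil, List.prod_cons, List.prod_nil, mul_one, σ_eq,
      p_eq θ (r := rt 19) (s := rt 16) (by decide +kernel), p_eq θ (r := rt 16) (s := rt 15) (by decide +kernel),
      p_eq θ (r := rt 15) (s := rt 19) (by decide +kernel), eps_neg θ (r := rt 19) (by decide +kernel),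
      eps_one θ (r := rt 16) (by decide +kernel), eps_neg θ (r := rt 15) (by decide +kernel),
      map_neg, h3, one_mul, neg_one_mul, neg_neg]
    rw [← mul_assoc]
    exact ((c1 s (-θ s)).mul_right (c2 s (-θ (θ s)))).eq.symm)
  simpa [eb, mul_assoc] using h'

theorem ec_fix (s : K) : ec θ s ∈ (twist θ).Fix := by
  have c1 : ∀ t u : K, Commute (X 17 t) (X 20 u) := com _ _ (by decide +kernel)
  have c2 : ∀ t u : K, Commute (X 17 t) (X 21 u) := com _ _ (by decide +kernel)
  have h' := (twist θ).mem_Fix_list [(rt 17, s), (rt 20, -θ s), (rt 21, -θ (θ s))] (by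
    simp only [List.map_cons, List.map_nil, List.prod_cons, List.prod_nil, mul_one, σ_eq,
      p_eq θ (r := rt 17) (s := rt 20) (by decide +kernel), p_eq θ (r := rt 20) (s := rt 21) (by decide +kernel),
      p_eq θ (r := rt 21) (s := rt 17) (by decide +kernel), eps_neg θ (r := rt 17) (by decide +kernel),
      eps_one θ (r := rt 20) (by decide +kernel), eps_neg θ (r := rt 21) (by decide +kernel),
      map_neg, h3, one_mul, neg_one_mul, neg_neg]
    rw [← mul_assoc]
    exact ((c1 s (-θ s)).mul_right (c2 s (-θ (θ s)))).eq.symm)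
  simpa [ec, mul_assoc] using h'

end fix

theorem eb_conj_ec (β v : K) : (eb θ β)⁻¹ * ec θ v * eb θ β = ec θ v * X 23 (T θ (β * v)) := by
  have z17 : ∀ t u : K, Commute (X 23 t) (X 17 u) := com _ _ (by decide +kernel)
  have z20 : ∀ t u : K, Commute (X 23 t) (X 20 u) := com _ _ (by decide +kernel)
  have z21 : ∀ t u : K, Commute (X 23 t) (X 21 u) := com _ _ (by decide +kernel)
  have z16 : ∀ t u : K, Commute (X 23 t) (X 16 u) := com _ _ (by decide +kernel)
  have z15 : ∀ t u : K, Commute (X 23 t) (X 15 u) := com _ _ (by decide +kernel)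
  have a17 := cj (z := 23) (by decide +kernel) (by decide +kernel) (by decide +kernel) (i := 19) (j := 17) (e := -1) (by decide +kernel) β v
  have b20 := cj (z := 23) (by decide +kernel) (by decide +kernel) (by decide +kernel) (i := 16) (j := 20) (e := -1) (by decide +kernel) (-θ β) (-θ v)
  have d21 := cj (z := 23) (by decide +kernel) (by decide +kernel) (by decide +kernel) (i := 15) (j := 21) (e := -1) (by decide +kernel) (-θ (θ β)) (-θ (θ v))
  have g19 := cmul (cmul a17 (c_commute 19 _ β (com _ _ (by decide +kernel) β (-θ v) : Commute (X 19 β) (X 20 (-θ v))))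
    (z20 _ _)) (c_commute 19 _ β (com _ _ (by decide +kernel) β (-θ (θ v)) : Commute (X 19 β) (X 21 (-θ (θ v)))))
    (by rw [mul_one]; exact z21 _ _)
  have g16 := cmul (cmul (c_commute 16 _ (-θ β) (com _ _ (by decide +kernel) (-θ β) v : Commute (X 16 (-θ β)) (X 17 v))) b20
    (Commute.one_left _)) (c_commute 16 _ (-θ β) (com _ _ (by decide +kernel) (-θ β) (-θ (θ v)) : Commute (X 16 (-θ β)) (X 21 (-θ (θ v)))))
    (by rw [one_mul]; exact z21 _ _)
  have g15 := cmul (cmul (c_commute 15 _ (-θ (θ β)) (com _ _ (by decide +kernel) (-θ (θ β)) v : Commute (X 15 (-θ (θ β))) (X 17 v)))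
    (c_commute 15 _ (-θ (θ β)) (com _ _ (by decide +kernel) (-θ (θ β)) (-θ v) : Commute (X 15 (-θ (θ β))) (X 20 (-θ v))))
    (Commute.one_left _)) d21 (by rw [one_mul]; exact Commute.one_left _)
  have h := cjoin (cjoin g19 g16 (by simp only [one_mul, mul_one]; exact z16 _ _)) g15
    (by simp only [one_mul, mul_one]; exact (z15 _ _).mul_left (z15 _ _))
  rw [eb, ec, h]
  simp only [one_mul, mul_one, ← TD4.C.G.xu_add]
  congr 2
  simp only [T, map_mul]
  push_cast
  ring

theorem ex_conj_ec (s v : K) : (ex θ s)⁻¹ * ec θ v * ex θ s = ec θ v * X 22 (T θ (s * v)) := by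
  have z17 : ∀ t u : K, Commute (X 22 t) (X 17 u) := com _ _ (by decide +kernel)
  have z20 : ∀ t u : K, Commute (X 22 t) (X 20 u) := com _ _ (by decide +kernel)
  have z21 : ∀ t u : K, Commute (X 22 t) (X 21 u) := com _ _ (by decide +kernel)
  have z13 : ∀ t u : K, Commute (X 22 t) (X 13 u) := com _ _ (by decide +kernel)
  have z12 : ∀ t u : K, Commute (X 22 t) (X 12 u) := com _ _ (by decide +kernel)
  have a17 := cj (z := 22) (by decide +kernel) (by decide +kernel) (by decide +kernel) (i := 18) (j := 17) (e := -1) (by decide +kernel) s v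
  have b20 := cj (z := 22) (by decide +kernel) (by decide +kernel) (by decide +kernel) (i := 13) (j := 20) (e := 1) (by decide +kernel) (θ s) (-θ v)
  have d21 := cj (z := 22) (by decide +kernel) (by decide +kernel) (by decide +kernel) (i := 12) (j := 21) (e := 1) (by decide +kernel) (θ (θ s)) (-θ (θ v))
  have g18 := cmul (cmul a17 (c_commute 18 _ s (com _ _ (by decide +kernel) s (-θ v) : Commute (X 18 s) (X 20 (-θ v))))
    (z20 _ _)) (c_commute 18 _ s (com _ _ (by decide +kernel) s (-θ (θ v)) : Commute (X 18 s) (X 21 (-θ (θ v)))))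
    (by rw [mul_one]; exact z21 _ _)
  have g13 := cmul (cmul (c_commute 13 _ (θ s) (com _ _ (by decide +kernel) (θ s) v : Commute (X 13 (θ s)) (X 17 v))) b20
    (Commute.one_left _)) (c_commute 13 _ (θ s) (com _ _ (by decide +kernel) (θ s) (-θ (θ v)) : Commute (X 13 (θ s)) (X 21 (-θ (θ v)))))
    (by rw [one_mul]; exact z21 _ _)
  have g12 := cmul (cmul (c_commute 12 _ (θ (θ s)) (com _ _ (by decide +kernel) (θ (θ s)) v : Commute (X 12 (θ (θ s))) (X 17 v)))
    (c_commute 12 _ (θ (θ s)) (com _ _ (by decide +kernel) (θ (θ s)) (-θ v) : Commute (X 12 (θ (θ s))) (X 20 (-θ v))))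
    (Commute.one_left _)) d21 (by rw [one_mul]; exact Commute.one_left _)
  have h := cjoin (cjoin g18 g13 (by simp only [one_mul, mul_one]; exact z13 _ _)) g12
    (by simp only [one_mul, mul_one]; exact (z12 _ _).mul_left (z12 _ _))
  rw [ex, x3, ec, h]
  simp only [one_mul, mul_one, ← TD4.C.G.xu_add]
  congr 2
  simp only [T, map_mul]
  push_cast
  ring

theorem a_conj_d (α δ : K) : (X 14 α)⁻¹ * X 22 δ * X 14 α = X 22 δ * X 23 (-(α * δ)) := by
  rw [cj (z := 23) (by decide +kernel) (by decide +kernel) (by decide +kernel) (e := 1) (by decide +kernel) α δ]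
  congr 2
  push_cast
  ring

theorem a_commute_ec (α v : K) : Commute (X 14 α) (ec θ v) :=
  ((com _ _ (by decide +kernel) _ _).mul_right (com _ _ (by decide +kernel) _ _)).mul_right
    (com _ _ (by decide +kernel) _ _)

theorem d_commute_eb (δ β : K) : Commute (X 22 δ) (eb θ β) :=
  ((com _ _ (by decide +kernel) _ _).mul_right (com _ _ (by decide +kernel) _ _)).mul_right
    (com _ _ (by decide +kernel) _ _)

theorem a_commute_eb (δ β : K) : Commute (X 14 δ) (eb θ β) :=
  ((com _ _ (by decide +kernel) _ _).mul_right (com _ _ (by decide +kernel) _ _)).mul_right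
    (com _ _ (by decide +kernel) _ _)

theorem d_commute_ec (δ β : K) : Commute (X 22 δ) (ec θ β) :=
  ((com _ _ (by decide +kernel) _ _).mul_right (com _ _ (by decide +kernel) _ _)).mul_right
    (com _ _ (by decide +kernel) _ _)

theorem z_commute_eb (δ β : K) : Commute (X 23 δ) (eb θ β) :=
  ((com _ _ (by decide +kernel) _ _).mul_right (com _ _ (by decide +kernel) _ _)).mul_right
    (com _ _ (by decide +kernel) _ _)

theorem z_commute_ec (δ β : K) : Commute (X 23 δ) (ec θ β) :=
  ((com _ _ (by decide +kernel) _ _).mul_right (com _ _ (by decide +kernel) _ _)).mul_right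
    (com _ _ (by decide +kernel) _ _)

theorem z_commute_ex (δ s : K) : Commute (X 23 δ) (ex θ s) :=
  ((com _ _ (by decide +kernel) _ _).mul_right (com _ _ (by decide +kernel) _ _)).mul_right
    (com _ _ (by decide +kernel) _ _)

theorem d_commute_ex (δ s : K) : Commute (X 22 δ) (ex θ s) :=
  ((com _ _ (by decide +kernel) _ _).mul_right (com _ _ (by decide +kernel) _ _)).mul_right
    (com _ _ (by decide +kernel) _ _)

theorem z_commute_a (δ α : K) : Commute (X 23 δ) (X 14 α) := com _ _ (by decide +kernel) δ α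

theorem z_commute_d (δ α : K) : Commute (X 23 δ) (X 22 α) := com _ _ (by decide +kernel) δ α

/-- the torus on a root element -/
theorem par_conj (A B : Kˣ) {i : ℕ} (hi : i < chevD4.nroots) (m0 m1 m2 m3 : ℤ)
    (hm : [nd 0, nd 1, nd 2, nd 3].map (fun j => cart chevD4 j (rt i hi)) = [m0, m1, m2, m3]) (t : K) :
    TD4.C.G.torθ (par θ A B) * X i t hi * (TD4.C.G.torθ (par θ A B))⁻¹ =
      X i ((B : K) ^ m0 * (A : K) ^ m1 * θ (B : K) ^ m2 * θ (θ (B : K)) ^ m3 * t) hi := by
  rw [TD4.C.G.torθ_conj_xu]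
  congr 2
  have hu : (Finset.univ : Finset (Fin chevD4.rank)) = {nd 0, nd 1, nd 2, nd 3} := by decide +kernel
  have hne : (nd 0 : Fin chevD4.rank) ≠ nd 1 ∧ (nd 2 : Fin chevD4.rank) ≠ nd 1 ∧
      (nd 3 : Fin chevD4.rank) ≠ nd 1 ∧ (nd 2 : Fin chevD4.rank) ≠ nd 0 ∧
      (nd 3 : Fin chevD4.rank) ≠ nd 0 ∧ (nd 3 : Fin chevD4.rank) ≠ nd 2 := by decide +kernel
  obtain ⟨d1, d2, d3, d4, d5, d6⟩ := hne
  simp only [List.map_cons, List.map_nil, List.cons.injEq, and_true] at hm
  obtain ⟨e0, e1, e2, e3⟩ := hm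
  rw [hu, Finset.prod_insert (by simp [d1, Ne.symm d4, Ne.symm d5]),
    Finset.prod_insert (by simp [Ne.symm d2, Ne.symm d3]), Finset.prod_insert (by simp [Ne.symm d6]),
    Finset.prod_singleton, e0, e1, e2, e3]
  simp only [par, if_true, if_neg d1, if_neg d2, if_neg d3, if_neg d4, if_neg d5, if_neg d6, Units.val_mul,
    Units.val_zpow_eq_zpow_val, Units.coe_map, RingHom.coe_coe, MonoidHom.coe_coe]
  simp only [mul_assoc]
  rfl

theorem exists_trace_ne [Fintype K] {q : ℕ} (hq : 1 < q) (hθ : ∀ x, θ x = x ^ q) (hK : Fintype.card K = q ^ 3) :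
    ∃ w : K, T θ w ≠ 0 := by
  classical
  by_contra! hall
  open Polynomial in
  let p : K[X] := Polynomial.X ^ (q * q) + Polynomial.X ^ q + Polynomial.X
  have hq2 : q < q * q := by nlinarith
  have hp0 : p ≠ 0 := fun h => by
    have := congrArg (fun f => Polynomial.coeff f (q * q)) h
    simp [p, Polynomial.coeff_X_pow, Polynomial.coeff_X, hq2.ne', (show (1 : ℕ) ≠ q * q by omega)] at this
  have hdeg : p.natDegree ≤ q * q := by
    show (Polynomial.X ^ (q * q) + Polynomial.X ^ q + Polynomial.X : Polynomial K).natDegree ≤ q * q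
    compute_degree
    exact max_le le_rfl (max_le hq2.le (by omega))
  have hroots : ∀ x : K, p.IsRoot x := fun x => by
    have h := hall x
    rw [T, hθ x, hθ (x ^ q), ← pow_mul] at h
    simp only [p, Polynomial.IsRoot, Polynomial.eval_add, Polynomial.eval_pow, Polynomial.eval_X]
    linear_combination h
  have hle := Polynomial.card_le_degree_of_subset_roots (p := p) (Z := Finset.univ)
    (fun x _ => (Polynomial.mem_roots hp0).2 (hroots x))
  rw [Finset.card_univ, hK] at hle
  have : q * q < q ^ 3 := by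
    rw [pow_succ, pow_two]
    exact lt_mul_of_one_lt_right (by positivity) hq
  omega

end CfsgLib.MinDeg.Triality
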