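import Cfsg.Agent.Lib.MinDeg.Triality
import Cfsg.Agent.Lib.Lie.Chev.Tw.InvolD4

/-!
# ³D₄(2): a conjugate of the first long root element
-/

set_option autoImplicit false
set_option maxRecDepth 100000
set_option maxHeartbeats 4000000

namespace CfsgLib.MinDeg.Triality

open Cfsg.Lie CfsgLib.Lie.Chev
open CfsgLib.Lie.Chev.TD4
open scoped MatrixGroups

variable {K : Type*} [Field K] [CharP K 2] (θ : K ≃+* K)

theorem two_conj : ∃ w : K, θ w = w ∧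
    (ex θ 1)⁻¹ * X 14 1 * ex θ 1 = X 14 1 * eb θ 1 * ec θ 1 * X 22 1 * X 23 w := by
  have h2 : (2 : K) = 0 := CharTwo.two_eq_zero
  have e : ∀ (i : ℕ) (h : i < chevD4.nroots) (t : K), X i t h = TD4Invol.X i t := fun i h t =>
    (TD4Invol.X_eq i h t).symm
  simp only [ex, x3, eb, ec, map_one, CharTwo.neg_eq]
  show ∃ w : K, θ w = w ∧ (X 18 1 * X 13 1 * X 12 1)⁻¹ * X 14 1 * (X 18 1 * X 13 1 * X 12 1) =
    X 14 1 * (X 19 1 * X 16 1 * X 15 1) * (X 17 1 * X 20 1 * X 21 1) * X 22 1 * X 23 w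
  simp only [e]
  have hmain : ∃ w : K, θ w = w ∧
      TD4Invol.N (0 : K) 0 0 0 0 0 0 0 0 0 0 0 * TD4Invol.X 14 1 * TD4Invol.X 18 1 * TD4Invol.X 13 1 * TD4Invol.X 12 1 =
      TD4Invol.N (0 : K) 0 0 0 0 0 0 0 0 0 0 0 * TD4Invol.X 18 1 * TD4Invol.X 13 1 * TD4Invol.X 12 1 *
        TD4Invol.X 14 1 * TD4Invol.X 19 1 * TD4Invol.X 16 1 * TD4Invol.X 15 1 *
        TD4Invol.X 17 1 * TD4Invol.X 20 1 * TD4Invol.X 21 1 * TD4Invol.X 22 1 * TD4Invol.X 23 w := by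
    refine ⟨1, map_one θ, ?_⟩
    simp only [TD4Invol.mul_12, TD4Invol.mul_13, TD4Invol.mul_14, TD4Invol.mul_15, TD4Invol.mul_16, TD4Invol.mul_17,
      TD4Invol.mul_18, TD4Invol.mul_19, TD4Invol.mul_20, TD4Invol.mul_21, TD4Invol.mul_22, TD4Invol.mul_23,
      CharTwo.add_self_eq_zero, mul_zero, zero_mul, add_zero, zero_add, one_mul, mul_one]
  obtain ⟨w, hw, h⟩ := hmain
  refine ⟨w, hw, ?_⟩
  rw [mul_assoc, inv_mul_eq_iff_eq_mul]
  simp only [TD4Invol.N_zero, one_mul] at h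
  simpa only [mul_assoc] using h

end CfsgLib.MinDeg.Triality
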