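import Mathlib.Data.Nat.Notation

/-!
# Certificate data for the minimal degree of ²E₆(q)
-/

namespace CfsgLib.MinDeg.TwE6

/-- the positive roots -/
def posR : List ℕ := List.range' 36 36

/-- positive roots without the first fixed simple root -/
def posA : List ℕ := posR.filter fun v => v != 46

/-- positive roots without the second fixed simple root -/
def posB : List ℕ := posR.filter fun v => v != 39

/-- positive roots without both fixed simple roots -/
def posAB : List ℕ := posR.filter fun v => v != 46 && v != 39

/-- positive roots outside the system of both fixed simple roots -/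
def posM : List ℕ := posR.filter fun v => v != 46 && v != 39 && v != 47

/-- the partners at the first fixed simple root -/
def blockA : List (ℕ × ℕ) := [(47, 32), (50, 28), (51, 27), (61, 13), (62, 12), (63, 11), (71, 1)]

/-- the partners at the first fixed simple root, one left out -/
def blockA' : List (ℕ × ℕ) := [(50, 28), (51, 27), (61, 13), (62, 12), (63, 11), (71, 1)]

/-- the closure at the first fixed simple root -/
def stepsA : List (ℕ × ℕ × ℕ) := [(29, 14, 56), (15, 14, 42), (53, 14, 67), (54, 14, 68), (42, 15, 57), (55, 15, 66), (56, 29, 57), (65, 29, 68), (38, 36, 37), (68, 36, 67), (69, 37, 68), (70, 39, 69), (39, 14, 58), (40, 14, 59), (44, 15, 59), (41, 29, 45), (60, 36, 59), (59, 37, 58)]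

/-- the roots in the order of the count, with transport words and partners for the fixed ones -/
def entries : List (ℕ × Option (List ℕ × ℕ × List (ℕ × ℕ))) := [
  (71, some ([0, 1, 2, 1, 0, 3, 2], 39, [(70, 46), (69, 47), (68, 48), (65, 51), (67, 49), (63, 53), (64, 52)])),
  (70, some ([1, 2, 1, 0, 3, 2], 39, [(69, 39), (68, 40), (65, 44), (67, 41), (64, 45), (60, 53)])),
  (69, some ([2, 1, 0, 3, 2], 39, [(68, 37), (67, 38), (63, 44), (60, 51), (62, 45)])),
  (66, none),
  (55, none),
  (65, some ([1, 0, 3, 2], 39, [(63, 39), (64, 36), (60, 47), (61, 41)])),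
  (54, none),
  (63, some ([0, 3, 2], 39, [(60, 46), (62, 36), (61, 38)])),
  (52, none),
  (53, some ([1, 0, 2], 39, [(51, 39), (44, 47), (50, 40)])),
  (60, some ([3, 2], 39, [(59, 36), (58, 38)])),
  (45, none),
  (49, none),
  (51, some ([0, 2], 39, [(44, 46), (50, 37)])),
  (41, none),
  (44, some ([2], 39, [(43, 37)])),
  (48, none),
  (38, none),
  (40, none),
  (47, some ([0], 39, [(39, 46)])),
  (36, none),
  (37, none),
  (39, some ([], 39, [])),
  (46, some ([], 46, []))]

end CfsgLib.MinDeg.TwE6
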