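import Cfsg.Agent.Lib.MinDeg.TwE6Space
import Cfsg.Agent.Lib.MinDeg.TwE6Data

/-!
# Representations of small degree of ²E₆(q): pure vectors and the count over the fixed roots
-/

set_option autoImplicit false
set_option maxRecDepth 100000
set_option linter.unusedSectionVars false

namespace CfsgLib.MinDeg.TwE6

open Cfsg.Lie CfsgLib.Lie.Chev CfsgLib.Lie.Laced CfsgLib.MinDeg.RootSpace CfsgLib.MinDeg.LacedRoot
open CfsgLib.MinDeg.SubgroupEigen
open scoped MatrixGroups Classical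

/-- the first fixed simple root -/
noncomputable abbrev ra : R := TE6.rt 46

/-- the second fixed simple root -/
noncomputable abbrev rb : R := TE6.rt 39

/-- the sum of the fixed simple roots -/
noncomputable abbrev rc : R := TE6.rt 47

variable {K : Type*} [Field K] [Fintype K] {θ : K ≃+* K} {q : ℕ}
variable {V : Type*} [AddCommGroup V] [Module ℂ V] [FiniteDimensional ℂ V]

/-- the eight generating orbits -/
noncomputable def genR : List R :=
  [TE6.rt 46, TE6.rt 25, TE6.rt 39, TE6.rt 32, TE6.rt 42, TE6.rt 29, TE6.rt 56, TE6.rt 15]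

theorem twisted_eq (H : Hyp θ q) : twistedE6 K q = (TE6.twist θ).Fix :=
  (TE6.twGp θ H.pow H.invol).eq_Fix

theorem gen_top (H : Hyp θ q) : Subgroup.closure {g : Gp θ | ∃ r ∈ genR, g ∈ Xs θ r} = ⊤ := by
  set T := Subgroup.closure {g : Gp θ | ∃ r ∈ genR, g ∈ Xs θ r}
  have hle : twistedE6 K q ≤ T.map (TE6.twist θ).Fix.subtype := by
    refine TE6.C.G.gen_le fun w hw => ?_
    rcases hw with ⟨t, ht, r, hr, rfl⟩ | ⟨t, rs, hrs, rfl⟩
    · have hd : ∀ r ∈ [e6p2, e6m2, e6p4, e6m4],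
          r < chevE6.nroots ∧ graphE6.p.get r = r ∧ r ∈ genR.map Fin.val := by decide +kernel
      obtain ⟨h1, h2', h3⟩ := hd r hr
      obtain ⟨s, hs, rfl⟩ := List.mem_map.1 h3
      refine ⟨[(s, t)], rfl, ?_⟩
      have hs' : pr s = s := Fin.ext h2'
      have hv : Valid θ s t := fun _ => by rw [H.pow]; exact ht
      refine ⟨xg H.invol s t hv, Subgroup.subset_closure ⟨s, hs, xg_mem _ _ _ _⟩, ?_⟩
      show ((el θ s t : ↥(chevE6.group K)) : GL chevE6.Idx K) = _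
      rw [el_fix θ hs', X_coe]
      simp
    · have key : ∀ a b : R, pr a = b → b ≠ a → graphE6.eps.get a.val = false → a ∈ genR →
          (rs.1 = a.val ∧ rs.2 = b.val) → ∃ l : List (R × K), [(rs.1, t), (rs.2, t ^ q)] =
            l.map (fun p => (p.1.val, p.2)) ∧
            (l.map fun p => TE6.C.G.xu p.1 p.2).prod ∈ T.map (TE6.twist θ).Fix.subtype := by
        intro a b hab hne he ha e
        refine ⟨[(a, t), (b, θ t)], by simp [e.1, e.2, H.pow], ?_⟩
        have hv : Valid θ a t := fun h => absurd (hab.symm.trans h) hne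
        refine ⟨xg H.invol a t hv, Subgroup.subset_closure ⟨a, ha, xg_mem _ _ _ _⟩, ?_⟩
        show ((el θ a t : ↥(chevE6.group K)) : GL chevE6.Idx K) = _
        have hs : sg θ a = 1 := TE6.eps_one θ he
        rw [el, if_neg (by rw [hab]; exact hne), hs, one_mul, Subgroup.coe_mul, X_coe, X_coe, hab]
        simp
      simp only [List.mem_cons, List.not_mem_nil, or_false] at hrs
      rcases hrs with rfl | rfl | rfl | rfl
      · exact key (TE6.rt 56) (TE6.rt 36) (Fin.ext (by decide +kernel)) (by decide +kernel) (by decide +kernel)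
          (by decide +kernel) ⟨rfl, rfl⟩
      · exact key (TE6.rt 15) (TE6.rt 35) (Fin.ext (by decide +kernel)) (by decide +kernel) (by decide +kernel)
          (by decide +kernel) ⟨rfl, rfl⟩
      · exact key (TE6.rt 42) (TE6.rt 37) (Fin.ext (by decide +kernel)) (by decide +kernel) (by decide +kernel)
          (by decide +kernel) ⟨rfl, rfl⟩
      · exact key (TE6.rt 29) (TE6.rt 34) (Fin.ext (by decide +kernel)) (by decide +kernel) (by decide +kernel)
          (by decide +kernel) ⟨rfl, rfl⟩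
  rw [eq_top_iff]
  intro g _
  obtain ⟨y, hy, e⟩ := hle ((twisted_eq H).symm.le g.2)
  exact (Subtype.ext e : y = g) ▸ hy

/-! ### Torus elements and families of characters -/

/-- the units fixed by the field automorphism -/
abbrev Mu (θ : K ≃+* K) := {μ : Kˣ // θ (μ : K) = (μ : K)}

theorem card_Mu (H : Hyp θ q) : Fintype.card (Mu θ) = q - 1 := by
  rw [← Nat.card_eq_fintype_card, ← card_fixed_units H.prime H.card]
  exact Nat.card_congr (Equiv.subtypeEquivRight fun x => by rw [H.pow])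

theorem hd_fix (i : Fin chevE6.rank) (hi : TE6.node.get i.val = i.val) (μ : Mu θ) :
    (TE6.twist θ).φ (hG TE6.C (TE6.C.G.simp' i) μ.1) = hG TE6.C (TE6.C.G.simp' i) μ.1 := by
  refine ((TE6.twist θ).φ_hd i μ.1).trans (Subtype.ext ?_)
  show TE6.C.G.hd _ _ = TE6.C.G.hd _ _
  rw [show (TE6.twist θ).node i = i from Fin.ext ((TE6.node_eq θ i).trans hi)]
  congr 1
  exact Units.ext (by show θ (μ.1 : K) = _; exact μ.2)

variable (θ) in
/-- the torus of a fixed simple root -/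
noncomputable def tor (i : Fin chevE6.rank) (hi : TE6.node.get i.val = i.val) (μ : Mu θ) : Gp θ :=
  ofFix θ (hG TE6.C (TE6.C.G.simp' i) μ.1) (hd_fix i hi μ)

theorem tor_moves (h2 : ∀ t, θ (θ t) = t) (i : Fin chevE6.rank) (hi : TE6.node.get i.val = i.val) (μ : Mu θ)
    (r : R) : Moves (tor θ i hi μ) r r :=
  moves_of_perm h2 _ (π := 1) (TE6.C.G.nPerm_H (TE6.C.G.hd_mem_H _ μ.1)) (fun _ => rfl) r

theorem tor_xg (h2 : ∀ t, θ (θ t) = t) (i : Fin chevE6.rank) (hi : TE6.node.get i.val = i.val) (μ : Mu θ)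
    {r : R} (hr : pr r = r) {t : K} (ht : θ t = t) :
    ∃ hv, tor θ i hi μ * xg h2 r t (fun _ => ht) * (tor θ i hi μ)⁻¹ =
      xg h2 r (((μ.1 ^ ip chevE6 (TE6.C.G.simp' i) r : Kˣ) : K) * t) hv := by
  have hv : Valid θ r (((μ.1 ^ ip chevE6 (TE6.C.G.simp' i) r : Kˣ) : K) * t) := fun _ => by
    rw [map_mul, ht, Units.val_zpow_eq_zpow_val, map_zpow₀, μ.2]
  refine ⟨hv, toG_inj θ ?_⟩
  rw [map_mul, map_mul, map_inv, toG_xg, toG_xg, tor, toG_ofFix, el_fix θ hr, el_fix θ hr]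
  refine Subtype.ext ?_
  rw [Subgroup.coe_mul, Subgroup.coe_mul, Subgroup.coe_inv, X_coe, X_coe]
  exact hd_conj _ r μ.1 t

variable {ρ : Representation ℂ (Gp θ) V}

variable (ρ) in
/-- many characters of large multiplicity -/
def Fam (s : R) (c : ℕ) (S : List ℕ) : Prop :=
  ∃ f : Mu θ → Gp θ → ℂ, (∀ i, Nt (Xs θ s) (f i)) ∧ (∀ i j, i ≠ j → ∃ a ∈ Xs θ s, f i a ≠ f j a) ∧
    ∀ i, c ≤ Module.finrank ℂ ↥(Z ρ S ⊓ Eig ρ (Xs θ s) (f i))

theorem Fam.decomp (H : Hyp θ q) {s : R} {c : ℕ} {S : List ℕ} (h : Fam ρ s c S) :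
    Module.finrank ℂ ↥(Z ρ (s.val :: S)) + (q - 1) * c ≤ Module.finrank ℂ ↥(Z ρ S) := by
  obtain ⟨f, h1, h2, h3⟩ := h
  haveI : Fintype (Xs θ s) := Fintype.ofFinite _
  have := decomp_ge (ρ := ρ) (A := Xs θ s) (W := Z ρ S) f h1 h2 h3
  rwa [card_Mu H, show Z ρ S ⊓ Fx ρ (Xs θ s) = Z ρ (s.val :: S) by rw [Z_cons, rootOf_self]] at this

theorem Fam.map (H : Hyp θ q) {s0 s : R} {c : ℕ} {S0 S : List ℕ} {W : List ℕ} (h : Fam ρ s0 c S0)
    (hs : actW W s0.val = s.val) (hm : mapB W S0 S = true) : Fam ρ s c S := by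
  obtain ⟨f, h1, h2, h3⟩ := h
  have hW : allList W (fun o => Nat.blt o 4) = true := by
    simp only [mapB, Bool.and_eq_true] at hm; exact hm.1
  obtain ⟨n, hn⟩ := exists_mono H W hW
  have hmv := hn s0 s hs
  refine ⟨fun i => tw n (f i), fun i => hmv.nt (h1 i), fun i j hij => hmv.ne (h2 i j hij), fun i => ?_⟩
  refine (h3 i).trans (le_finrank n fun x hx => ⟨map_Z H.invol hm hn hx.1, map_Eig hmv.2 hx.2⟩)

theorem Fam.mono {s : R} {c c' : ℕ} {S S' : List ℕ} (h : Fam ρ s c S) (hc : c' ≤ c)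
    (hS : Z ρ S ≤ Z ρ S') : Fam ρ s c' S' := by
  obtain ⟨f, h1, h2, h3⟩ := h
  exact ⟨f, h1, h2, fun i => hc.trans ((h3 i).trans (Submodule.finrank_mono (inf_le_inf_right _ hS)))⟩

theorem Fam.block (H : Hyp θ q) {s : R} {c : ℕ} {S : List ℕ} {L : List (ℕ × ℕ)}
    (h : Fam ρ s c (addL L S)) (hb : blockB s.val L S = true) : Fam ρ s (q ^ sizeL L * c) S := by
  obtain ⟨f, h1, h2, h3⟩ := h
  refine ⟨f, h1, h2, fun i => ?_⟩
  rw [TwE6.block H s (h1 i) L S hb]
  exact Nat.mul_le_mul_left _ (h3 i)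

/-- the torus spreads one character over a family -/
theorem fam_of_char (H : Hyp θ q) {χ : Gp θ → ℂ} (hn : Nt (Xs θ ra) χ) (hc : IsChr (Xs θ ra) χ) (S : List ℕ) :
    Fam ρ ra (Module.finrank ℂ ↥(Z ρ S ⊓ Eig ρ (Xs θ ra) χ)) S := by
  have hi : TE6.node.get (TE6.nd 3).val = (TE6.nd 3).val := by decide +kernel
  have hfix : pr ra = ra := Fin.ext (by decide +kernel)
  have hip : ip chevE6 (TE6.C.G.simp' (TE6.nd 3)) ra = -1 := by
    rw [TE6.simp_rt.2.2.2.1, ← ipF_eq rows]; decide +kernel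
  refine ⟨fun μ => tw (tor θ (TE6.nd 3) hi μ) χ, fun μ => (tor_moves H.invol _ hi μ ra).nt hn,
    fun μ ν hne => ?_, fun μ => le_finrank (tor θ (TE6.nd 3) hi μ) fun x hx =>
      ⟨mem_Z.2 fun v hv => map_Fx (tor_moves H.invol _ hi μ (rootOf v)).2 (mem_Z.1 hx.1 v hv),
        map_Eig (tor_moves H.invol _ hi μ ra).2 hx.2⟩⟩
  obtain ⟨a, ha, hne1⟩ := hn
  obtain ⟨w, hw, ew⟩ := ha
  by_contra hall
  simp only [not_exists, not_and, not_not] at hall
  set d : K := (μ.1 : K) - (ν.1 : K)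
  have hd : d ≠ 0 := fun e => hne (Subtype.ext (Units.ext (sub_eq_zero.1 e)))
  set t : K := w / d
  have ht : θ t = t := by rw [map_div₀, hw hfix, map_sub, μ.2, ν.2]
  have hkey : ∀ μ : Mu θ, (tor θ (TE6.nd 3) hi μ)⁻¹ * xg H.invol ra t (fun _ => ht) * tor θ (TE6.nd 3) hi μ =
      xg H.invol ra ((μ.1 : K) * t) (fun _ => by rw [map_mul, μ.2, ht]) := fun μ => by
    obtain ⟨hv, e⟩ := tor_xg H.invol (TE6.nd 3) hi μ hfix (t := (μ.1 : K) * t) (by rw [map_mul, μ.2, ht])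
    have hval : ((μ.1 ^ ip chevE6 (TE6.C.G.simp' (TE6.nd 3)) ra : Kˣ) : K) * ((μ.1 : K) * t) = t := by
      rw [hip, zpow_neg_one, Units.val_inv_eq_inv_val, inv_mul_cancel_left₀ μ.1.ne_zero]
    simp only [hval] at e
    rw [← e]
    group
  have h := hall (xg H.invol ra t fun _ => ht) (xg_mem _ _ _ _)
  simp only [tw, hkey] at h
  have hsplit : xg H.invol ra ((μ.1 : K) * t) (fun _ => by rw [map_mul, μ.2, ht]) =
      a * xg H.invol ra ((ν.1 : K) * t) (fun _ => by rw [map_mul, ν.2, ht]) := toG_inj θ (by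
    rw [map_mul (toG θ), ew, toG_xg, toG_xg, ← el_add]
    congr 1
    rw [show w = d * t from (mul_div_cancel₀ w hd).symm]
    ring)
  rw [hsplit, hc.2 a ⟨w, hw, ew⟩ _ (xg_mem _ _ _ _)] at h
  exact hne1 (mul_left_eq_self₀.1 h |>.resolve_right (hc.ne_zero (xg_mem _ _ _ _)))

/-! ### Small representations -/

/-- the bound -/
def bound (q : ℕ) : ℕ := q * (q ^ 6 - q ^ 3 + 1) * (q ^ 4 + 1)

/-- a representation of too small degree -/
structure Small (ρ : Representation ℂ (Gp θ) V) (q : ℕ) : Prop where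
  hyp : Hyp θ q
  irr : ρ.IsIrreducible
  two_le : 2 ≤ Module.finrank ℂ V
  small : Module.finrank ℂ V < bound q

theorem bound_le {q : ℕ} (hq : 2 ≤ q) : bound q ≤ 2 * ((q - 1) * (q ^ 9 + q ^ 10)) := by
  obtain ⟨r, rfl⟩ : ∃ r, q = r + 2 := ⟨q - 2, by omega⟩
  unfold bound
  rw [show r + 2 - 1 = r + 1 from rfl]
  have h : (r + 2) ^ 6 - (r + 2) ^ 3 + 1 ≤ (r + 2) ^ 6 := by
    have h1 : 1 ≤ (r + 2) ^ 3 := Nat.one_le_pow _ _ (by omega)
    have h2 : (r + 2) ^ 3 ≤ (r + 2) ^ 6 := Nat.pow_le_pow_right (by omega) (by omega)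
    omega
  refine (Nat.mul_le_mul_right _ (Nat.mul_le_mul_left _ h)).trans ?_
  ring_nf
  linarith [Nat.zero_le (r ^ 1), Nat.zero_le (r ^ 2), Nat.zero_le (r ^ 3), Nat.zero_le (r ^ 4),
    Nat.zero_le (r ^ 5), Nat.zero_le (r ^ 6), Nat.zero_le (r ^ 7), Nat.zero_le (r ^ 8), Nat.zero_le (r ^ 9),
    Nat.zero_le (r ^ 10), Nat.zero_le (r ^ 11)]

/-- closure steps: scalars commute -/
noncomputable def closeB : List (ℕ × ℕ × ℕ) → List ℕ → Bool
  | [], _ => true
  | (z, r, u) :: L, S => Nat.blt r chevE6.nroots && Nat.blt u chevE6.nroots &&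
      allList (46 :: addL blockA []) (fun v => relB S r v) && allList (46 :: addL blockA []) (fun v => relB S u v) &&
      kB r u && Nat.beq (zF r u) z && closeB L (z :: S)

/-- the roots after the closure -/
def addC : List (ℕ × ℕ × ℕ) → List ℕ → List ℕ
  | [], S => S
  | (z, _, _) :: L, S => addC L (z :: S)

/-- the count along the entries -/
noncomputable def countB : List (ℕ × Option (List ℕ × ℕ × List (ℕ × ℕ))) → List ℕ → Bool
  | [], _ => true
  | (s, none) :: L, S => countB L (s :: S)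
  | (s, some (W, seed, B)) :: L, S => Nat.blt s chevE6.nroots &&
      (Nat.beq seed 46 || Nat.beq seed 39) && Nat.beq (actW W seed) s &&
      mapB W (if seed = 46 then posA else posB) (addL B S) && blockB s B S && countB L (s :: S)

/-- the dimensions counted along the entries -/
noncomputable def countN (q : ℕ) : List (ℕ × Option (List ℕ × ℕ × List (ℕ × ℕ))) → ℕ
  | [] => 0
  | (_, none) :: L => countN q L
  | (_, some (_, _, B)) :: L => (q - 1) * q ^ sizeL B + countN q L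

/-- the set after the entries -/
def addE : List (ℕ × Option (List ℕ × ℕ × List (ℕ × ℕ))) → List ℕ → List ℕ
  | [], S => S
  | (s, _) :: L, S => addE L (s :: S)

namespace Small

variable (H : Small ρ q)
include H

theorem not_all_fixed : ∃ a ∈ Xs θ ra, ∃ x : V, ρ a x ≠ x := by
  by_contra hall
  simp only [not_exists, not_and, not_not] at hall
  haveI : IsSimpleGroup (Gp θ) := by
    have := (TE6.summary2 H.hyp.prime H.hyp.card).2.2.1
    rwa [twisted_eq H.hyp] at this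
  let N : Subgroup (Gp θ) :=
    { carrier := {g | ∀ x, ρ g x = x}
      one_mem' := act_one
      mul_mem' := fun {a b} ha hb x => by rw [act_mul, hb, ha]
      inv_mem' := fun {a} ha x => by
        conv_lhs => rw [← ha x]
        exact act_inv_self a x }
  haveI : N.Normal := ⟨fun n hn g x => by rw [act_mul, act_mul, hn, act_self_inv]⟩
  have hN : N = ⊤ := by
    refine (IsSimpleGroup.eq_bot_or_eq_top_of_normal N inferInstance).resolve_left fun e => ?_
    have h1 : xg H.hyp.invol ra 1 (fun _ => map_one θ) ∈ N := hall _ (xg_mem _ _ _ _)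
    rw [e, Subgroup.mem_bot] at h1
    have h2 := congrArg (toG θ) h1
    rw [toG_xg, map_one, el_fix θ (Fin.ext (by decide +kernel) : pr ra = ra), ← X_zero ra] at h2
    exact one_ne_zero (X_inj h2)
  obtain ⟨x, hx⟩ := Module.finrank_pos_iff_exists_ne_zero.1 (lt_of_lt_of_le (by norm_num) H.two_le)
  exact hx (no_fixed H.irr H.two_le (gen_top H.hyp) fun g _ => (hN ▸ Subgroup.mem_top g : g ∈ N) x)

theorem dim_F_le {χ : Gp θ → ℂ} (hn : Nt (Xs θ ra) χ) :
    Module.finrank ℂ ↥(Z ρ (addL blockA []) ⊓ Eig ρ (Xs θ ra) χ) ≤ 1 := by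
  by_contra hlt
  obtain ⟨x, hx, hx0⟩ := exists_ne_zero (show 0 < Module.finrank ℂ ↥(Z ρ (addL blockA []) ⊓ Eig ρ (Xs θ ra) χ) by omega)
  have hc := isChr_of_ne hx.2 hx0
  have hq := H.hyp.one_lt
  have hF := fam_of_char (ρ := ρ) H.hyp hn hc (addL blockA [])
  have hF' := (hF.mono (c' := 2) (S' := addL blockA' [47]) (by omega)
    (Z_le_of_memB H.hyp.invol (by decide +kernel))).block H.hyp (by decide +kernel)
  have hT := (((hF.mono (c' := 2) (S' := addL blockA []) (by omega) le_rfl).block H.hyp (by decide +kernel)).map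
    H.hyp (s := rc) (W := [1]) (by decide +kernel) (S := []) (by decide +kernel)).decomp H.hyp
  have h2 := hF'.decomp H.hyp
  rw [show Z ρ [] = (⊤ : Submodule ℂ V) from eq_top_iff.2 fun x _ => mem_Z.2 (by simp), finrank_top] at hT
  have e1 : sizeL blockA = 10 := by decide +kernel
  have e2 : sizeL blockA' = 9 := by decide +kernel
  rw [e1] at hT
  rw [e2] at h2
  have h3 := H.small
  have h4 := bound_le (q := q) hq
  have h5 : 2 * ((q - 1) * (q ^ 9 + q ^ 10)) = (q - 1) * (q ^ 10 * 2) + (q - 1) * (q ^ 9 * 2) := by ring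
  have : (rc : R).val = 47 := rfl
  rw [this] at hT
  omega

theorem closure_steps {χ : Gp θ → ℂ}
    (h1 : Module.finrank ℂ ↥(Z ρ (addL blockA []) ⊓ Eig ρ (Xs θ ra) χ) ≤ 1) :
    ∀ (L : List (ℕ × ℕ × ℕ)) (S : List ℕ), closeB L S = true →
      Z ρ (addL blockA []) ⊓ Eig ρ (Xs θ ra) χ ≤ Z ρ S →
      Z ρ (addL blockA []) ⊓ Eig ρ (Xs θ ra) χ ≤ Z ρ (addC L S) := by
  intro L
  induction L with
  | nil => exact fun S _ hle => hle
  | cons p L ih =>
    obtain ⟨z, r, u⟩ := p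
    intro S h hle
    simp only [closeB, Bool.and_eq_true, Nat.blt_eq, Nat.beq_eq] at h
    obtain ⟨⟨⟨⟨⟨⟨hr, hu⟩, hir⟩, hiu⟩, hk⟩, hz⟩, hrest⟩ := h
    rw [← rootOf_val hu] at hiu hk hz
    rw [← rootOf_val hr] at hir hk hz
    refine ih (z :: S) hrest fun x hx => ?_
    rw [Z_cons]
    refine ⟨hle hx, mem_Fx.2 fun w hw => ?_⟩
    obtain ⟨hz', hrel⟩ := kB_spec hk
    have hzz : (⟨_, hz'⟩ : R) = rootOf z := Fin.ext (by
      show zF _ _ = _
      rw [hz, rootOf_val]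
      rw [← hz]; exact hz')
    have hstab : ∀ {r : R}, allList (46 :: addL blockA []) (fun v => relB S r.val v) = true →
        ∀ g ∈ Xs θ r, Stable ρ g (Z ρ (addL blockA []) ⊓ Eig ρ (Xs θ ra) χ) := fun {r} hb g hg y hy => by
      refine ⟨mem_Z.2 fun i hi => ?_, act_keep H.hyp.invol (allList_spec hb 46 List.mem_cons_self) (hle hy) hy.2 hg⟩
      have hbi := allList_spec hb i (List.mem_cons_of_mem _ hi)
      have hlt : i < chevE6.nroots := by
        simp only [relB, Bool.and_eq_true, Nat.blt_eq] at hbi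
        exact hbi.1.2
      exact act_keep H.hyp.invol (by rw [rootOf_val hlt]; exact hbi) (hle hy) (mem_Z.1 hy.1 i hi) hg
    by_cases hu1 : ∀ a ∈ Xs θ (rootOf u), a = 1
    · exfalso
      have := card_Xs H.hyp (rootOf u)
      rw [Nat.card_eq_one_iff_unique.2 ⟨⟨fun a b => Subtype.ext ((hu1 _ a.2).trans (hu1 _ b.2).symm)⟩,
        ⟨1⟩⟩] at this
      have h2 : 1 < q ^ (cond (fixB (rootOf u).val) 1 2) :=
        Nat.one_lt_pow (by cases fixB (rootOf u).val <;> simp) H.hyp.one_lt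
      omega
    simp only [not_forall] at hu1
    obtain ⟨a, ha, ha1⟩ := hu1
    obtain ⟨g, hg, e⟩ := surj H.hyp.invol H.hyp.moved hrel ha ha1 (w := w) (by rw [hzz]; exact hw)
    exact fix_of_scalar e (exists_scalar h1 (hstab hiu a ha) hx) (exists_scalar h1 (hstab hir g hg) hx)

/-- eigenvectors at the first fixed simple root are pure -/
theorem pureA {χ : Gp θ → ℂ} (hn : Nt (Xs θ ra) χ) :
    Z ρ (addL blockA []) ⊓ Eig ρ (Xs θ ra) χ ≤ Z ρ (posA ++ [15, 29]) :=
  (H.closure_steps (H.dim_F_le hn) stepsA _ (by decide +kernel) inf_le_left).trans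
    (Z_le_of_memB H.hyp.invol (by decide +kernel))

theorem pureA' {χ : Gp θ → ℂ} (hn : Nt (Xs θ ra) χ) : Z ρ posAB ⊓ Eig ρ (Xs θ ra) χ ≤ Z ρ posA :=
  ((inf_le_inf_right _ (Z_le_of_memB H.hyp.invol (by decide +kernel))).trans (H.pureA hn)).trans
    (Z_mono fun _ hi => List.mem_append_left _ hi)

theorem lineA {χ : Gp θ → ℂ} (hn : Nt (Xs θ ra) χ) :
    Module.finrank ℂ ↥(Z ρ posAB ⊓ Eig ρ (Xs θ ra) χ) ≤ 1 :=
  (Submodule.finrank_mono (inf_le_inf_right _ (Z_le_of_memB H.hyp.invol (by decide +kernel)))).trans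
    (H.dim_F_le hn)

theorem exists_pureA : ∃ (χ : Gp θ → ℂ) (y : V), Nt (Xs θ ra) χ ∧ IsChr (Xs θ ra) χ ∧ y ≠ 0 ∧
    y ∈ Z ρ (posA ++ [15, 29]) ⊓ Eig ρ (Xs θ ra) χ := by
  obtain ⟨a, ha, x, hx⟩ := H.not_all_fixed
  haveI : Fintype (Xs θ ra) := Fintype.ofFinite _
  obtain ⟨χ, hn, hpos⟩ : ∃ χ, Nt (Xs θ ra) χ ∧ Eig ρ (Xs θ ra) χ ≠ ⊥ := by
    by_contra hall
    simp only [not_exists, not_and, not_not] at hall
    obtain ⟨n, hn, hn0⟩ : ∃ n : ℂ, (Nat.card (Xs θ ra) : ℂ) = n ∧ n ≠ 0 :=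
      ⟨_, rfl, Nat.cast_ne_zero.2 Nat.card_pos.ne'⟩
    have h0 : avg ρ (Xs θ ra) (n • x - avg ρ (Xs θ ra) x) = 0 := by
      rw [map_sub, map_smul, avg_of_fixed (avg_mem_Fx x), hn, sub_self]
    have hy := mem_of_components (ρ := ρ) (A := Xs θ ra) (U := ⊥) (W := ⊤) (fun a ha b hb => Xs_comm θ ha hb)
      (fun _ _ _ _ => trivial) (Submodule.mem_top (R := ℂ) (x := n • x - avg ρ (Xs θ ra) x)) h0 fun χ hχ => by
        rw [top_inf_eq, hall χ hχ]
    rw [Submodule.mem_bot, sub_eq_zero] at hy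
    have e1 : n • ρ a x = n • x := by rw [← map_smul, hy, act_avg_self ha]
    have e2 : n • (ρ a x - x) = 0 := by rw [smul_sub, e1, sub_self]
    exact hx (sub_eq_zero.1 ((smul_eq_zero.1 e2).resolve_left hn0))
  obtain ⟨z, hz, hz0⟩ := (Submodule.ne_bot_iff _).1 hpos
  have hb := TwE6.block (ρ := ρ) H.hyp ra hn blockA [] (by decide +kernel)
  have h0 : 0 < Module.finrank ℂ ↥(Z ρ [] ⊓ Eig ρ (Xs θ ra) χ) :=
    finrank_pos (x := z) ⟨mem_Z.2 (by simp), hz⟩ hz0
  rw [hb] at h0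
  obtain ⟨y, hy, hy0⟩ := exists_ne_zero (Nat.pos_of_mul_pos_left h0)
  exact ⟨χ, y, hn, isChr_of_ne hy.2 hy0, hy0, H.pureA hn hy, hy.2⟩

theorem famA : Fam ρ ra 1 posA := by
  obtain ⟨χ, y, hn, hc, hy0, hy⟩ := H.exists_pureA
  exact (fam_of_char H.hyp hn hc posA).mono
    (finrank_pos (x := y) ⟨Z_mono (fun i hi => List.mem_append_left _ hi) hy.1, hy.2⟩ hy0) le_rfl

theorem lineB {χ : Gp θ → ℂ} (hn : Nt (Xs θ rb) χ) :
    Module.finrank ℂ ↥(Z ρ posAB ⊓ Eig ρ (Xs θ rb) χ) ≤ 1 := by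
  obtain ⟨n, hn0⟩ := exists_mono H.hyp [0] (by decide +kernel)
  obtain ⟨m, hm0⟩ := exists_mono H.hyp [1] (by decide +kernel)
  have hmv := hn0 rb rc (by decide +kernel)
  have hmv' := hm0 rc ra (by decide +kernel)
  have hχ := hmv.nt hn
  have h1 : Module.finrank ℂ ↥(Z ρ posAB ⊓ Eig ρ (Xs θ rb) χ) ≤
      Module.finrank ℂ ↥(Z ρ (addL [(39, 46)] posM) ⊓ Eig ρ (Xs θ rc) (tw n χ)) :=
    le_finrank n fun x hx => ⟨map_Z H.hyp.invol (by decide +kernel) hn0 hx.1, map_Eig hmv.2 hx.2⟩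
  have h2 := TwE6.block (ρ := ρ) H.hyp rc hχ [(39, 46)] posM (by decide +kernel)
  have h3 := TwE6.block (ρ := ρ) H.hyp rc hχ [(46, 39)] posM (by decide +kernel)
  have h4 : Module.finrank ℂ ↥(Z ρ (addL [(46, 39)] posM) ⊓ Eig ρ (Xs θ rc) (tw n χ)) ≤
      Module.finrank ℂ ↥(Z ρ posAB ⊓ Eig ρ (Xs θ ra) (tw m (tw n χ))) :=
    le_finrank m fun x hx => ⟨map_Z H.hyp.invol (by decide +kernel) hm0 hx.1, map_Eig hmv'.2 hx.2⟩
  have h5 := H.lineA (hmv'.nt hχ)
  have e : sizeL [(39, 46)] = 1 ∧ sizeL [(46, 39)] = 1 := by decide +kernel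
  rw [e.1] at h2
  rw [e.2, h2] at h3
  have := Nat.eq_of_mul_eq_mul_left (pow_pos (by have := H.hyp.one_lt; omega) _) h3
  omega

theorem pureB {χ : Gp θ → ℂ} (hn : Nt (Xs θ rb) χ) : Z ρ posAB ⊓ Eig ρ (Xs θ rb) χ ≤ Z ρ posB := by
  intro x hx
  by_cases hx0 : x = 0
  · simp [hx0]
  have hinv : Inv ρ (Xs θ ra) (Z ρ posAB ⊓ Eig ρ (Xs θ rb) χ) := fun g hg y hy => ⟨
    inv_Z H.hyp.invol (S := posAB) (Ev := []) (r := ra) (by decide +kernel) g hg y hy.1,
    act_keep H.hyp.invol (S := posAB) (r := ra) (u := rb) (by decide +kernel) hy.1 hy.2 hg⟩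
  have hsc : ∀ g ∈ Xs θ ra, ∃ c : ℂ, ρ g x = c • x := fun g hg => exists_scalar (H.lineB hn) (hinv g hg) hx
  choose c hc using hsc
  set δ : Gp θ → ℂ := fun g => if h : g ∈ Xs θ ra then c g h else 1
  have hδ : x ∈ Eig ρ (Xs θ ra) δ := mem_Eig.2 fun g hg => by simp only [δ, dif_pos hg]; exact hc g hg
  have hfix : ¬ Nt (Xs θ ra) δ := fun hnt => by
    have h1 := H.pureA' hnt ⟨hx.1, hδ⟩
    exact hx0 (eq_zero_of_nt hx.2 (mem_Fx_of_memB H.hyp.invol (z := rb) (by decide +kernel) h1) hn)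
  simp only [Nt, not_exists, not_and, not_not] at hfix
  have ha : x ∈ Fx ρ (Xs θ ra) := mem_Fx.2 fun g hg => by rw [mem_Eig.1 hδ g hg, hfix g hg, one_smul]
  have : x ∈ Z ρ (ra.val :: posAB) := by rw [Z_cons, rootOf_self]; exact ⟨hx.1, ha⟩
  exact Z_le_of_memB H.hyp.invol (by decide +kernel) this

theorem famB : Fam ρ rb 1 posB := by
  have h0 := (H.famA.map H.hyp (s := rc) (W := [1]) (S := addL [(46, 39)] posM) (by decide +kernel)
    (by decide +kernel)).block H.hyp (by decide +kernel)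
  obtain ⟨f, h1, h2, h3⟩ := h0
  have hc : Fam ρ rc 1 (addL [(39, 46)] posM) := by
    refine ⟨f, h1, h2, fun i => ?_⟩
    have hb := TwE6.block (ρ := ρ) H.hyp rc (h1 i) [(39, 46)] posM (by decide +kernel)
    have := h3 i
    rw [hb] at this
    have e : sizeL [(39, 46)] = 1 ∧ sizeL [(46, 39)] = 1 := by decide +kernel
    rw [e.1, e.2] at this
    exact Nat.le_of_mul_le_mul_left this (pow_pos (by have := H.hyp.one_lt; omega) _)
  obtain ⟨g, g1, g2, g3⟩ := hc.map H.hyp (s := rb) (W := [0]) (S := posAB) (by decide +kernel) (by decide +kernel)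
  exact ⟨g, g1, g2, fun i => (g3 i).trans (Submodule.finrank_mono (le_inf (H.pureB (g1 i)) inf_le_right))⟩

theorem count_list : ∀ (L : List (ℕ × Option (List ℕ × ℕ × List (ℕ × ℕ)))) (S : List ℕ), countB L S = true →
    Module.finrank ℂ ↥(Z ρ (addE L S)) + countN q L ≤ Module.finrank ℂ ↥(Z ρ S) := by
  intro L
  induction L with
  | nil => intro S _; simp [addE, countN]; rfl
  | cons p L ih =>
    obtain ⟨s, o⟩ := p
    rcases o with _ | ⟨W, seed, B⟩
    · intro S h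
      refine (ih (s :: S) h).trans (Submodule.finrank_mono (Z_mono fun i hi => List.mem_cons_of_mem _ hi))
    intro S h
    simp only [countB, Bool.and_eq_true, Bool.or_eq_true, Nat.blt_eq, Nat.beq_eq] at h
    obtain ⟨⟨⟨⟨⟨hs, hseed⟩, hact⟩, hm⟩, hb⟩, hrest⟩ := h
    have hF : Fam ρ (rootOf s) (q ^ sizeL B * 1) S := by
      refine Fam.block H.hyp ?_ (by rw [rootOf_val hs]; exact hb)
      rcases hseed with rfl | rfl
      · exact H.famA.map H.hyp (hact.trans (rootOf_val hs).symm) hm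
      · exact H.famB.map H.hyp (hact.trans (rootOf_val hs).symm) hm
    have h1 := hF.decomp H.hyp
    rw [rootOf_val hs, mul_one] at h1
    have h2 := ih (s :: S) hrest
    show Module.finrank ℂ ↥(Z ρ (addE L (s :: S))) + ((q - 1) * q ^ sizeL B + countN q L) ≤ _
    omega

/-- the count -/
theorem count : countN q entries + Module.finrank ℂ ↥(Z ρ posR) ≤ Module.finrank ℂ V := by
  have h1 := H.count_list entries [] (by decide +kernel)
  rw [show Z ρ [] = (⊤ : Submodule ℂ V) from eq_top_iff.2 fun x _ => mem_Z.2 (by simp), finrank_top] at h1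
  have h2 : Z ρ posR ≤ Z ρ (addE entries []) := Z_le_of_memB H.hyp.invol (by decide +kernel)
  have := Submodule.finrank_mono h2
  omega

end Small

theorem countN_entries (q : ℕ) (hq : 2 ≤ q) : countN q entries + 2 = bound q := by
  obtain ⟨r, rfl⟩ : ∃ r, q = r + 2 := ⟨q - 2, by omega⟩
  have e : ∀ q, countN q entries = (q - 1) * q ^ 10 + ((q - 1) * q ^ 9 + ((q - 1) * q ^ 8 + ((q - 1) * q ^ 6 +
      ((q - 1) * q ^ 5 + ((q - 1) * q ^ 4 + ((q - 1) * q ^ 4 + ((q - 1) * q ^ 3 + ((q - 1) * q ^ 2 +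
      ((q - 1) * q ^ 1 + ((q - 1) * q ^ 0 + ((q - 1) * q ^ 0 + 0))))))))))) := by
    intro q
    have hB : ∀ (L : List (ℕ × Option (List ℕ × ℕ × List (ℕ × ℕ)))),
        countN q L = ((L.filterMap fun p => p.2.map fun d => sizeL d.2.2).map fun k => (q - 1) * q ^ k).sum := by
      intro L
      induction L with
      | nil => rfl
      | cons p L ih =>
        obtain ⟨s, _ | ⟨W, seed, B⟩⟩ := p <;> simp [countN, ih]
    rw [hB, show (entries.filterMap fun p => p.2.map fun d => sizeL d.2.2) =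
      [10, 9, 8, 6, 5, 4, 4, 3, 2, 1, 0, 0] by decide +kernel]
    rfl
  rw [e, bound, show r + 2 - 1 = r + 1 from rfl]
  have h3 : (r + 2) ^ 3 ≤ (r + 2) ^ 6 := Nat.pow_le_pow_right (by omega) (by omega)
  zify [h3]
  ring

end CfsgLib.MinDeg.TwE6
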