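import Cfsg.Agent.Lib.MinDeg.TwE6U0

/-!
# The minimal degree of ²E₆(q)
-/

set_option autoImplicit false
set_option linter.unusedSectionVars false

namespace CfsgLib.MinDeg.TwE6

open Cfsg.Lie CfsgLib.Lie.Chev CfsgLib.Lie.Laced CfsgLib.MinDeg.RootSpace CfsgLib.MinDeg.LacedRoot
open CfsgLib.MinDeg.SubgroupEigen
open scoped MatrixGroups Classical

variable {K : Type*} [Field K] [Fintype K]

/-- irreducible representations of degree at least two have large degree -/
theorem degree_ge {q : ℕ} (hq : IsPrimePow q) (hK : Fintype.card K = q ^ 2) {V : Type*} [AddCommGroup V]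
    [Module ℂ V] [FiniteDimensional ℂ V] (ρ : Representation ℂ ↥(twistedE6 K q) V) (hρ : ρ.IsIrreducible)
    (hk : 2 ≤ Module.finrank ℂ V) : bound q ≤ Module.finrank ℂ V := by
  obtain ⟨θ, hθ⟩ := Frob.exists_powEquiv (K := K) hq hK
  have h2 : ∀ t : K, θ (θ t) = t := fun t => by
    rw [hθ, hθ, ← pow_mul, show q * q = q ^ 2 from (pow_two q).symm, ← hK, FiniteField.pow_card]
  have H : Hyp θ q := ⟨hq, hK, hθ, h2⟩
  have key : ∀ Γ : Subgroup (GL chevE6.Idx K), Γ = (TE6.twist θ).Fix →
      ∀ σ : Representation ℂ ↥Γ V, σ.IsIrreducible → bound q ≤ Module.finrank ℂ V := by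
    rintro Γ rfl σ hσ
    by_contra hlt
    have S : Small σ q := ⟨H, hσ, hk, by omega⟩
    have h1 := S.count
    have h3 := S.two_le_U0
    have h4 := countN_entries q hq.one_lt
    omega
  exact key _ (twisted_eq H) ρ hρ

end CfsgLib.MinDeg.TwE6
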