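import Cfsg.Agent.Lib.MinDeg.TwE6Line

/-!
# ²E₆(q): the elements of the rank two subgroup of the fixed simple roots and their sums
-/

set_option autoImplicit false
set_option maxRecDepth 100000
set_option linter.unusedSectionVars false

namespace CfsgLib.MinDeg.TwE6

open Cfsg.Lie CfsgLib.Lie.Chev CfsgLib.Lie.Laced CfsgLib.MinDeg.RootSpace CfsgLib.MinDeg.LacedRoot
open CfsgLib.MinDeg.SubgroupEigen
open scoped MatrixGroups Classical

/-- the first fixed node -/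
noncomputable abbrev ia : Fin chevE6.rank := TE6.nd 1

/-- the second fixed node -/
noncomputable abbrev ib : Fin chevE6.rank := TE6.nd 3

theorem simp_ia : TE6.C.G.simp' ia = ra := TE6.simp_rt.2.1

theorem simp_ib : TE6.C.G.simp' ib = rb := TE6.simp_rt.2.2.2.1

/-- the opposite of the first fixed simple root -/
noncomputable abbrev ma : R := TE6.rt 25

/-- the opposite of the second fixed simple root -/
noncomputable abbrev mb : R := TE6.rt 32

/-- the opposite of their sum -/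
noncomputable abbrev mc : R := TE6.rt 24

theorem negr_eq {r : R} {j : ℕ} (h : fastE6.negs.get r.val = j) : (TE6.C.G.negr r).val = j := by
  rw [TE6.C.G.negr_val, ← h, rows.negs r.val r.isLt]
  rfl

theorem negr_ra : TE6.C.G.negr ra = ma := Fin.ext (negr_eq (by decide +kernel))
theorem negr_rc : TE6.C.G.negr rc = mc := Fin.ext (negr_eq (by decide +kernel))
theorem negr_ma : TE6.C.G.negr ma = ra := Fin.ext (negr_eq (by decide +kernel))
theorem negr_mc : TE6.C.G.negr mc = rc := Fin.ext (negr_eq (by decide +kernel))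

theorem w_ia (r : R) : (TE6.C.G.w ia r).val = actW [0] r.val := by
  rw [TE6.C.G.w_reflect]
  revert r; decide +kernel

theorem w_ib (r : R) : (TE6.C.G.w ib r).val = actW [1] r.val := by
  rw [TE6.C.G.w_reflect]
  revert r; decide +kernel

theorem pr_ia (r : R) : actW [0] (pr r).val = pN (actW [0] r.val) := by
  show actW [0] (pN r.val) = _
  revert r; decide +kernel

theorem pr_ib (r : R) : actW [1] (pr r).val = pN (actW [1] r.val) := by
  show actW [1] (pN r.val) = _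
  revert r; decide +kernel

variable {K : Type*} [Field K] [Fintype K] {θ : K ≃+* K} {q : ℕ}

noncomputable local instance instFintypeXs (r : R) : Fintype (Xs θ r) := Fintype.ofFinite _

theorem nU_fix (i : Fin chevE6.rank) (hi : TE6.node.get i.val = i.val) :
    (TE6.twist θ).φ (nG TE6.C (K := K) i) = nG TE6.C i := by
  refine ((TE6.twist θ).φ_nU i).trans (Subtype.ext ?_)
  show TE6.C.G.nU _ = TE6.C.G.nU i
  rw [show (TE6.twist θ).node i = i from Fin.ext ((TE6.node_eq θ i).trans hi)]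

theorem node_ia : TE6.node.get (ia : Fin chevE6.rank).val = (ia : Fin chevE6.rank).val := by decide +kernel

theorem node_ib : TE6.node.get (ib : Fin chevE6.rank).val = (ib : Fin chevE6.rank).val := by decide +kernel

variable (θ) in
/-- the reflection of the first fixed node -/
noncomputable def na : Gp θ := ofFix θ (nG TE6.C ia) (nU_fix ia node_ia)

variable (θ) in
/-- the reflection of the second fixed node -/
noncomputable def nb : Gp θ := ofFix θ (nG TE6.C ib) (nU_fix ib node_ib)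

variable (θ) in
/-- the torus of the first fixed node -/
noncomputable abbrev ta (μ : Mu θ) : Gp θ := tor θ ia node_ia μ

variable (θ) in
/-- the torus of the second fixed node -/
noncomputable abbrev tb (μ : Mu θ) : Gp θ := tor θ ib node_ib μ

theorem na_moves (h2 : ∀ t, θ (θ t) = t) (r s : R) (h : actW [0] r.val = s.val) : Moves (na θ) r s := by
  have hs : TE6.C.G.sP ia r = s := Fin.ext ((by rw [TE6.C.G.sP_apply]; exact w_ia r : _ = actW [0] r.val).trans h)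
  rw [← hs]
  refine moves_of_perm h2 (na θ) (TE6.C.G.nPerm_nU ia) (fun x => Fin.ext ?_) r
  rw [← pN_val, TE6.C.G.sP_apply, TE6.C.G.sP_apply, w_ia, w_ia]
  exact pr_ia x

theorem nb_moves (h2 : ∀ t, θ (θ t) = t) (r s : R) (h : actW [1] r.val = s.val) : Moves (nb θ) r s := by
  have hs : TE6.C.G.sP ib r = s := Fin.ext ((by rw [TE6.C.G.sP_apply]; exact w_ib r : _ = actW [1] r.val).trans h)
  rw [← hs]
  refine moves_of_perm h2 (nb θ) (TE6.C.G.nPerm_nU ib) (fun x => Fin.ext ?_) r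
  rw [← pN_val, TE6.C.G.sP_apply, TE6.C.G.sP_apply, w_ib, w_ib]
  exact pr_ib x

/-! ### The parameters of a fixed root -/

/-- the fixed field -/
abbrev Fq (θ : K ≃+* K) := {t : K // θ t = t}

/-- the element with a fixed parameter -/
noncomputable def xq (h2 : ∀ t, θ (θ t) = t) (r : R) (t : Fq θ) : Gp θ := xg h2 r t.1 fun _ => t.2

theorem xq_mem (h2 : ∀ t, θ (θ t) = t) (r : R) (t : Fq θ) : xq h2 r t ∈ Xs θ r := xg_mem _ _ _ _

theorem toG_xq (h2 : ∀ t, θ (θ t) = t) {r : R} (hr : pr r = r) (t : Fq θ) : toG θ (xq h2 r t) = Xr r t.1 := by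
  rw [xq, toG_xg, el_fix θ hr]

theorem xq_zero (h2 : ∀ t, θ (θ t) = t) (r : R) (t : Fq θ) (ht : t.1 = 0) : xq h2 r t = 1 :=
  toG_inj θ (by rw [xq, toG_xg, ht, el_zero, map_one])

theorem xq_bij (h2 : ∀ t, θ (θ t) = t) {r : R} (hr : pr r = r) :
    Function.Bijective (fun t : Fq θ => (⟨xq h2 r t, xq_mem h2 r t⟩ : Xs θ r)) := by
  refine ⟨fun s t e => Subtype.ext (X_inj (r := r) ?_), fun ⟨g, t, ht, e⟩ => ⟨⟨t, ht hr⟩, Subtype.ext (toG_inj θ ?_)⟩⟩
  · rw [← toG_xq h2 hr, ← toG_xq h2 hr]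
    exact congrArg (fun z : Xs θ r => toG θ z.1) e
  · rw [toG_xq h2 hr, e, el_fix θ hr]

theorem nR_fix (h2 : ∀ t, θ (θ t) = t) {r : R} (hr : pr r = r) (hn : pr (TE6.C.G.negr r) = TE6.C.G.negr r)
    (t : Fq θ) : (TE6.twist θ).φ (nR TE6.C r t.1) = nR TE6.C r t.1 := by
  have e : nR TE6.C r t.1 = Xr r t.1 * Xr (TE6.C.G.negr r) (-(t.1)⁻¹) * Xr r t.1 := Subtype.ext (by
    show TE6.C.G.nE r t.1 = _
    rw [Subgroup.coe_mul, Subgroup.coe_mul, X_coe, X_coe, Good.nE])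
  rw [e, map_mul, map_mul, phi_X, phi_X, hr, hn, sg_fixed θ hr, sg_fixed θ hn, one_mul, one_mul, map_neg,
    map_inv₀, t.2]

/-- a root element through the opposite one -/
theorem xq_opp (h2 : ∀ t, θ (θ t) = t) {r r' : R} (hr : pr r = r) (hr' : pr r' = r') (e : TE6.C.G.negr r = r')
    (t : Fq θ) :
    ∃ (n : Gp θ) (s : Fq θ), s.1 = (t.1)⁻¹ ∧ toG θ n = nR TE6.C r (-s.1) ∧
      xq h2 r' t = xq h2 r s * n * xq h2 r s := by
  let s : Fq θ := ⟨(t.1)⁻¹, by rw [map_inv₀, t.2]⟩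
  let s' : Fq θ := ⟨-(t.1)⁻¹, by rw [map_neg, map_inv₀, t.2]⟩
  refine ⟨ofFix θ _ (nR_fix h2 hr (by rw [e]; exact hr') s'), s, rfl, rfl, toG_inj θ ?_⟩
  rw [map_mul, map_mul, toG_xq h2 hr, toG_xq h2 hr', toG_ofFix, ← e]
  exact X_opp r

theorem Xs_single (r : R) : SX θ [r.val] = Xs θ r := by
  simp [SX, rootOf_self]

section reps

variable {V : Type*} [AddCommGroup V] [Module ℂ V] {ρ : Representation ℂ (Gp θ) V}

variable (ρ) in
/-- the sum over a root subgroup -/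
noncomputable abbrev av (r : R) : Module.End ℂ V := avg ρ (Xs θ r)

theorem av_eq_sum (h2 : ∀ t, θ (θ t) = t) {r : R} (hr : pr r = r) (x : V) :
    av ρ r x = ∑ t : Fq θ, ρ (xq h2 r t) x := by
  rw [av, avg_apply]
  exact (Fintype.sum_equiv (Equiv.ofBijective _ (xq_bij h2 hr)) _ _ fun t => rfl).symm

theorem av_move {n : Gp θ} {r s : R} (h : Moves n r s) (x : V) : ρ n (av ρ r x) = av ρ s (ρ n x) :=
  act_avg h.1 h.2 x

/-- commuting root subgroups -/
theorem av_act_comm {r s : R} (h : RelN r s) {g : Gp θ} (hg : g ∈ Xs θ r) (x : V) :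
    ρ g (av ρ s x) = av ρ s (ρ g x) :=
  act_avg_comm (fun _ ha => comm_N h hg ha) x

theorem av_swap {r s : R} (h : RelN r s) (x : V) : av ρ r (av ρ s x) = av ρ s (av ρ r x) := by
  show avg ρ (Xs θ r) (av ρ s x) = av ρ s (avg ρ (Xs θ r) x)
  rw [avg_apply (A := Xs θ r), avg_apply (A := Xs θ r) (x := x), map_sum]
  exact Finset.sum_congr rfl fun g _ => av_act_comm h g.2 x

theorem relN_of (r s : R) (h : (geB r.val s.val && geB r.val (pN s.val) && geB (pN r.val) s.val &&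
    geB (pN r.val) (pN s.val)) = true) : RelN r s := by
  simp only [Bool.and_eq_true, pN_val] at h
  exact ⟨geB_spec h.1.1.1, geB_spec h.1.1.2, geB_spec h.1.2, geB_spec h.2⟩

/-- a product of two sums commutes with a root subgroup that shifts the first into the second -/
theorem av_av_act (h2 : ∀ t, θ (θ t) = t) {r s g' : R} (hN : RelN g' s) (hrel : relB [s.val] g'.val r.val = true)
    {g : Gp θ} (hg : g ∈ Xs θ g') (x : V) : av ρ r (av ρ s (ρ g x)) = ρ g (av ρ r (av ρ s x)) := by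
  rw [← av_act_comm hN hg]
  set z := av ρ s x
  have hz : z ∈ Fx ρ (Xs θ s) := avg_mem_Fx x
  rw [av, avg_apply, avg_apply, map_sum]
  refine Finset.sum_congr rfl fun w _ => ?_
  obtain ⟨k, hk, e⟩ := rel_spec h2 hrel hg w.2
  rw [Xs_single] at hk
  rw [← act_mul, e, act_mul, act_mul, mem_Fx.1 hz k hk]

/-- the order of the three sums does not matter -/
theorem av_three (h2 : ∀ t, θ (θ t) = t) {a b c : R} (hac : RelN a c) (hbc : RelN b c)
    (hab : relB [c.val] a.val b.val = true) (x : V) :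
    av ρ b (av ρ c (av ρ a x)) = av ρ a (av ρ c (av ρ b x)) := by
  have hswap : ∀ (r : R), RelN r c → ∀ v, av ρ c (av ρ r v) = av ρ r (av ρ c v) := fun r h v => (av_swap h v).symm
  rw [hswap a hac, hswap b hbc]
  set z := av ρ c x
  have hz : z ∈ Fx ρ (Xs θ c) := avg_mem_Fx x
  simp only [av, avg_apply, map_sum]
  rw [Finset.sum_comm]
  refine Finset.sum_congr rfl fun w _ => Finset.sum_congr rfl fun g _ => ?_
  obtain ⟨k, hk, e⟩ := rel_spec h2 hab g.2 w.2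
  rw [Xs_single] at hk
  rw [← act_mul, e, act_mul, act_mul, mem_Fx.1 hz k hk]

end reps

/-! ### The torus identities -/

theorem ta_na (μ : Mu θ) (ν : Mu θ) (h : ν.1 = μ.1⁻¹) : ta θ μ * na θ = na θ * ta θ ν := by
  refine toG_inj θ (Subtype.ext ?_)
  show TE6.C.G.hd (TE6.C.G.simp' ia) μ.1 * TE6.C.G.nU ia = TE6.C.G.nU ia * TE6.C.G.hd (TE6.C.G.simp' ia) ν.1
  rw [TE6.C.G.hd_w, TE6.C.G.w_simp, TE6.C.G.hd_negr_simp, h, map_inv, inv_inv]

theorem tb_nb (μ : Mu θ) (ν : Mu θ) (h : ν.1 = μ.1⁻¹) : tb θ μ * nb θ = nb θ * tb θ ν := by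
  refine toG_inj θ (Subtype.ext ?_)
  show TE6.C.G.hd (TE6.C.G.simp' ib) μ.1 * TE6.C.G.nU ib = TE6.C.G.nU ib * TE6.C.G.hd (TE6.C.G.simp' ib) ν.1
  rw [TE6.C.G.hd_w, TE6.C.G.w_simp, TE6.C.G.hd_negr_simp, h, map_inv, inv_inv]

theorem hd_rc (μ : Kˣ) : TE6.C.G.hd rc μ = TE6.C.G.hd (TE6.C.G.simp' ia) μ * TE6.C.G.hd (TE6.C.G.simp' ib) μ := by
  rw [← TE6.C.G.torθ_single, ← TE6.C.G.torθ_single, ← map_mul, TE6.C.G.hd_eq_torθ]
  congr 1
  funext j
  have h : ∀ j : Fin chevE6.rank, (chevE6.coroot.getD (rc : R).val #[]).getD j.val 0 =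
      if j = ia ∨ j = ib then 1 else 0 := by decide +kernel
  have hne : ia ≠ ib := by decide +kernel
  rw [h j, Pi.mul_apply]
  by_cases h1 : j = ia
  · subst h1; simp [hne]
  · by_cases h2 : j = ib
    · subst h2; simp [h1]
    · simp [h1, h2]

theorem tb_na (μ : Mu θ) : tb θ μ * na θ = na θ * (ta θ μ * tb θ μ) := by
  refine toG_inj θ (Subtype.ext ?_)
  show TE6.C.G.hd (TE6.C.G.simp' ib) μ.1 * TE6.C.G.nU ia =
    TE6.C.G.nU ia * (TE6.C.G.hd (TE6.C.G.simp' ia) μ.1 * TE6.C.G.hd (TE6.C.G.simp' ib) μ.1)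
  rw [← hd_rc, TE6.C.G.hd_w, show TE6.C.G.w ia rc = TE6.C.G.simp' ib from
    Fin.ext ((w_ia rc).trans (by rw [simp_ib]; decide +kernel))]

theorem ta_nb (μ : Mu θ) : ta θ μ * nb θ = nb θ * (ta θ μ * tb θ μ) := by
  refine toG_inj θ (Subtype.ext ?_)
  show TE6.C.G.hd (TE6.C.G.simp' ia) μ.1 * TE6.C.G.nU ib =
    TE6.C.G.nU ib * (TE6.C.G.hd (TE6.C.G.simp' ia) μ.1 * TE6.C.G.hd (TE6.C.G.simp' ib) μ.1)
  rw [← hd_rc, TE6.C.G.hd_w, show TE6.C.G.w ib rc = TE6.C.G.simp' ia from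
    Fin.ext ((w_ib rc).trans (by rw [simp_ia]; decide +kernel))]

/-- minus one -/
def negOne (θ : K ≃+* K) : Mu θ := ⟨-1, by simp⟩

theorem hd_neg_one (r : R) : TE6.C.G.hd r (-1 : Kˣ) = (TE6.C.G.nE r (1 : K) * TE6.C.G.nE r 1)⁻¹ := by
  rw [TE6.C.hd_eq, Units.val_neg, Units.val_one, ← TE6.C.G.nE_inv, mul_inv_rev]

theorem na_sq : na θ * na θ * ta θ (negOne θ) = 1 := by
  refine toG_inj θ (Subtype.ext ?_)
  show TE6.C.G.nU ia * TE6.C.G.nU ia * TE6.C.G.hd (TE6.C.G.simp' ia) (-1 : Kˣ) = 1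
  rw [hd_neg_one, TE6.C.G.nE_simp_one, mul_inv_cancel]

theorem nb_sq : nb θ * nb θ * tb θ (negOne θ) = 1 := by
  refine toG_inj θ (Subtype.ext ?_)
  show TE6.C.G.nU ib * TE6.C.G.nU ib * TE6.C.G.hd (TE6.C.G.simp' ib) (-1 : Kˣ) = 1
  rw [hd_neg_one, TE6.C.G.nE_simp_one, mul_inv_cancel]

theorem nR_ia {s : Fq θ} (hs : s.1 ≠ 0) :
    nR TE6.C ra s.1 = toG θ (ta θ ⟨Units.mk0 s.1 hs, s.2⟩ * na θ) := by
  rw [← simp_ia, LacedRoot.nR_simp ia hs]
  rfl

theorem nR_ib {s : Fq θ} (hs : s.1 ≠ 0) :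
    nR TE6.C rb s.1 = toG θ (tb θ ⟨Units.mk0 s.1 hs, s.2⟩ * nb θ) := by
  rw [← simp_ib, LacedRoot.nR_simp ib hs]
  rfl

/-- the braid relation up to the torus -/
theorem braid : na θ * nb θ * na θ = nb θ * na θ * nb θ ∨
    na θ * nb θ * na θ = nb θ * tb θ (negOne θ) * (na θ * nb θ) := by
  have hw : TE6.C.G.w ia (TE6.C.G.w ib (TE6.C.G.simp' ia)) = TE6.C.G.simp' ib := by
    refine Fin.ext ?_
    rw [w_ia, w_ib, simp_ia, simp_ib]
    decide +kernel
  set η1 := TE6.C.G.eta ib (TE6.C.G.simp' ia)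
  set η2 := TE6.C.G.eta ia (TE6.C.G.w ib (TE6.C.G.simp' ia))
  have hc : TE6.C.G.nU ia * TE6.C.G.nU ib * TE6.C.G.nU (K := K) ia =
      TE6.C.G.nE (TE6.C.G.simp' ib) ((η2 : K) * ((η1 : K) * 1)) * (TE6.C.G.nU ia * TE6.C.G.nU ib) := by
    conv_lhs => rw [mul_assoc, ← TE6.C.G.nE_simp_one ia, TE6.C.G.nU_nE, ← mul_assoc, TE6.C.G.nE_simp_one,
      TE6.C.G.nU_nE, hw, mul_assoc]
  have hη : ((η2 : K) * ((η1 : K) * 1)) = 1 ∨ ((η2 : K) * ((η1 : K) * 1)) = -1 := by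
    rcases TE6.C.G.eta_unit ib (TE6.C.G.simp' ia) with e1 | e1 <;>
      rcases TE6.C.G.eta_unit ia (TE6.C.G.w ib (TE6.C.G.simp' ia)) with e2 | e2 <;>
      simp [η1, η2, e1, e2]
  rcases hη with e | e
  · refine Or.inl (toG_inj θ (Subtype.ext ?_))
    show TE6.C.G.nU ia * TE6.C.G.nU ib * TE6.C.G.nU ia = TE6.C.G.nU ib * TE6.C.G.nU ia * TE6.C.G.nU ib
    rw [hc, e, TE6.C.G.nE_simp_one, mul_assoc]
  · refine Or.inr (toG_inj θ (Subtype.ext ?_))
    show TE6.C.G.nU ia * TE6.C.G.nU ib * TE6.C.G.nU ia =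
      TE6.C.G.nU ib * TE6.C.G.hd (TE6.C.G.simp' ib) (-1 : Kˣ) * (TE6.C.G.nU ia * TE6.C.G.nU ib)
    rw [hc, e, ← TE6.C.G.nE_inv, hd_neg_one, TE6.C.G.nE_simp_one]
    group

/-- the reflection as a product of root elements -/
theorem na_eq (h2 : ∀ t, θ (θ t) = t) :
    ∃ g ∈ Xs θ ra, ∃ g' ∈ Xs θ ma, na θ = g * g' * g := by
  have h1 : pr ra = ra := Fin.ext (by decide +kernel)
  have h1' : pr ma = ma := Fin.ext (by decide +kernel)
  let one : Fq θ := ⟨1, map_one θ⟩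
  let mone : Fq θ := ⟨-1, by simp⟩
  refine ⟨_, xq_mem h2 ra one, _, xq_mem h2 ma mone, toG_inj θ (Subtype.ext ?_)⟩
  rw [map_mul, map_mul, toG_xq h2 h1, toG_xq h2 h1', Subgroup.coe_mul, Subgroup.coe_mul, X_coe, X_coe]
  show TE6.C.G.nU ia = _
  rw [← simp_ia, show ma = TE6.C.G.negr (TE6.C.G.simp' ia) by rw [simp_ia, negr_ra], Good.nU]

theorem nb_eq (h2 : ∀ t, θ (θ t) = t) :
    ∃ g ∈ Xs θ rb, ∃ g' ∈ Xs θ mb, nb θ = g * g' * g := by
  have h1 : pr rb = rb := Fin.ext (by decide +kernel)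
  have h1' : pr mb = mb := Fin.ext (by decide +kernel)
  let one : Fq θ := ⟨1, map_one θ⟩
  let mone : Fq θ := ⟨-1, by simp⟩
  refine ⟨_, xq_mem h2 rb one, _, xq_mem h2 mb mone, toG_inj θ (Subtype.ext ?_)⟩
  rw [map_mul, map_mul, toG_xq h2 h1, toG_xq h2 h1', Subgroup.coe_mul, Subgroup.coe_mul, X_coe, X_coe]
  show TE6.C.G.nU ib = _
  rw [← simp_ib, show mb = TE6.C.G.negr (TE6.C.G.simp' ib) by
    rw [simp_ib]; exact (Fin.ext (negr_eq (by decide +kernel))).symm, Good.nU]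

end CfsgLib.MinDeg.TwE6
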