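import Cfsg.Agent.Lib.MinDeg.TwE6Base
import Cfsg.Agent.Lib.MinDeg.LacedCert

/-!
# Representations of ²E₆(q): certificates for invariance, transport and block counts
-/

set_option autoImplicit false
set_option maxRecDepth 100000
set_option linter.unusedSectionVars false

namespace CfsgLib.MinDeg.TwE6

open Cfsg.Lie CfsgLib.Lie.Chev CfsgLib.Lie.Laced CfsgLib.MinDeg.RootSpace CfsgLib.MinDeg.LacedRoot CfsgLib.MinDeg.SubgroupEigen
open scoped MatrixGroups Classical

/-! ### Checkers -/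

/-- a root from a number -/
noncomputable def rootOf (i : ℕ) : R := if h : i < chevE6.nroots then ⟨i, h⟩ else TE6.rt 0

theorem rootOf_val {i : ℕ} (h : i < chevE6.nroots) : (rootOf i).val = i := by
  rw [rootOf, dif_pos h]

theorem rootOf_self (r : R) : rootOf r.val = r := by
  rw [rootOf, dif_pos r.isLt]

/-- the symmetry on numbers -/
noncomputable def pN (r : ℕ) : ℕ := graphE6.p.get r

theorem pN_val (r : R) : pN r.val = (pr r).val := rfl

/-- a fixed root -/
noncomputable def fixB (r : ℕ) : Bool := Nat.beq (pN r) r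

/-- a nonnegative pairing -/
noncomputable def geB (a b : ℕ) : Bool := decide (0 ≤ ipF fastE6 a b)

/-- the coordinates of `z` are the sums -/
noncomputable def sumB (r u z : ℕ) : Bool :=
  Nat.blt z chevE6.nroots && allLt chevE6.rank fun j =>
    intBeq ((fastE6.rho.get z).getD j 0) ((fastE6.rho.get r).getD j 0 + (fastE6.rho.get u).getD j 0)

/-- the candidate sum -/
noncomputable def zF (r u : ℕ) : ℕ :=
  match commTermsF chevE6 fastE6 r u with
  | c :: _ => c.1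
  | [] => chevE6.nroots

/-- two orbits of two roots meeting once -/
noncomputable def oB (r u : ℕ) : Bool :=
  !fixB r && !fixB u && sumB r u (zF r u) && geB r (pN u) && geB (pN r) u && geB (zF r u) (pN r) &&
    geB (zF r u) (pN u)

/-- two fixed roots with a sum -/
noncomputable def lB (r u : ℕ) : Bool :=
  fixB r && fixB u && fixB (zF r u) && sumB r u (zF r u)

/-- either kind -/
noncomputable def kB (r u : ℕ) : Bool := oB r u || lB r u

/-- a fixed root and an orbit of two -/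
noncomputable def lsB (r u : ℕ) : Bool :=
  fixB r && !fixB u && !fixB (zF r u) && fixB (zF (pN u) (zF r u)) && sumB r u (zF r u) &&
    sumB (pN u) (zF r u) (zF (pN u) (zF r u)) && geB (zF (pN u) (zF r u)) (pN (zF r u))

/-- membership of an orbit -/
noncomputable def memB (z : ℕ) (S : List ℕ) : Bool := S.any fun v => Nat.beq v z || Nat.beq v (pN z)

/-- a relation with terms in `S` -/
noncomputable def oneB (S : List ℕ) (r u : ℕ) : Bool :=
  (kB r u && memB (zF r u) S) ||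
    (lsB r u && memB (zF r u) S && memB (zF (pN u) (zF r u)) S)

/-- all relations of two orbits have terms in `S` -/
noncomputable def relB (S : List ℕ) (r u : ℕ) : Bool :=
  Nat.blt r chevE6.nroots && Nat.blt u chevE6.nroots &&
    ((geB r u && geB r (pN u) && geB (pN r) u && geB (pN r) (pN u)) ||
      oneB S r u || oneB S r (pN u) || oneB S u r || oneB S u (pN r))

/-- invariance of a space of fixed vectors and eigenvectors -/
noncomputable def invB (S Ev : List ℕ) (r : ℕ) : Bool := allList (S ++ Ev) fun u => relB S r u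

/-- a chain of blocks at `s` -/
noncomputable def blockB (s : ℕ) : List (ℕ × ℕ) → List ℕ → Bool
  | [], _ => true
  | (u, r) :: L, S => invB S [s] u && invB S [s] r && Nat.blt r chevE6.nroots && Nat.blt u chevE6.nroots &&
      kB r u && Nat.beq (zF r u) s && blockB s L (u :: S)

/-- the roots after a chain of blocks -/
def addL : List (ℕ × ℕ) → List ℕ → List ℕ
  | [], S => S
  | (u, _) :: L, S => addL L (u :: S)

/-- the exponent of a chain of blocks -/
noncomputable def sizeL : List (ℕ × ℕ) → ℕ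
  | [] => 0
  | (u, _) :: L => (cond (fixB u) 1 2) + sizeL L

/-- the action of a word in orbits of nodes -/
noncomputable def actW (W : List ℕ) (r : ℕ) : ℕ :=
  List.foldr (fun o x => digit (orbGraphE6.tab.get o) x) r W

/-- the word carries fixed vectors of `S0` to fixed vectors of `S` -/
noncomputable def mapB (W S0 S : List ℕ) : Bool :=
  allList W (fun o => Nat.blt o 4) && allList S fun v =>
    Nat.blt v chevE6.nroots && Nat.blt (actW W.reverse v) chevE6.nroots &&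
      memB (actW W.reverse v) S0 && Nat.beq (actW W (actW W.reverse v)) v

/-! ### Specifications -/

variable {K : Type*} [Field K] {θ : K ≃+* K}

theorem fixB_iff (r : R) : fixB r.val = true ↔ pr r = r := by
  rw [fixB, Nat.beq_eq, pN_val, Fin.ext_iff]

theorem not_fixB_iff (r : R) : (!fixB r.val) = true ↔ pr r ≠ r := by
  rw [Bool.not_eq_true', ← Bool.not_eq_true, ne_eq, fixB_iff]

theorem geB_spec {a b : R} (h : geB a.val b.val = true) : 0 ≤ ip chevE6 a b := by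
  rw [← ipF_eq rows]; exact of_decide_eq_true h

theorem sumB_spec {r u : R} {z : ℕ} (h : sumB r.val u.val z = true) :
    ∃ hz : z < chevE6.nroots, Sum r u ⟨z, hz⟩ := by
  simp only [sumB, Bool.and_eq_true, Nat.blt_eq] at h
  obtain ⟨hz, h⟩ := h
  refine ⟨hz, funext fun j => ?_⟩
  have := intBeq_spec (allLt_spec h j.val j.isLt)
  exact this

theorem kB_spec {r u : R} (h : kB r.val u.val = true) :
    ∃ hz : zF r.val u.val < chevE6.nroots, RelO r u ⟨_, hz⟩ ∨ RelL r u ⟨_, hz⟩ := by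
  simp only [kB, oB, lB, Bool.or_eq_true, Bool.and_eq_true, pN_val] at h
  rcases h with ⟨⟨⟨⟨⟨⟨h1, h2⟩, h3⟩, h4⟩, h5⟩, h6⟩, h7⟩ | ⟨⟨⟨h1, h2⟩, h3⟩, h4⟩
  · obtain ⟨hz, hs⟩ := sumB_spec h3
    exact ⟨hz, Or.inl ⟨(not_fixB_iff r).1 h1, (not_fixB_iff u).1 h2, hs, geB_spec h4, geB_spec h5,
      geB_spec (a := ⟨_, hz⟩) h6, geB_spec (a := ⟨_, hz⟩) h7⟩⟩
  · obtain ⟨hz, hs⟩ := sumB_spec h4
    exact ⟨hz, Or.inr ⟨(fixB_iff r).1 h1, (fixB_iff u).1 h2, (fixB_iff ⟨_, hz⟩).1 h3, hs⟩⟩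

variable (θ) in
/-- the subgroup generated by the root subgroups of a list -/
noncomputable def SX (S : List ℕ) : Subgroup (Gp θ) := ⨆ i ∈ S, Xs θ (rootOf i)

theorem Xs_le_SX (h2 : ∀ t, θ (θ t) = t) {S : List ℕ} {z : R} (h : memB z.val S = true) :
    Xs θ z ≤ SX θ S := by
  simp only [memB, List.any_eq_true, Bool.or_eq_true, Nat.beq_eq, pN_val] at h
  obtain ⟨v, hv, e | e⟩ := h
  · exact le_iSup₂_of_le v hv (by rw [e, rootOf_self])
  · exact le_iSup₂_of_le v hv (by rw [e, rootOf_self, Xs_pr h2])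

theorem one_spec (h2 : ∀ t, θ (θ t) = t) {S : List ℕ} {r u : R} (h : oneB S r.val u.val = true)
    {g a : Gp θ} (hg : g ∈ Xs θ r) (ha : a ∈ Xs θ u) : ∃ k ∈ SX θ S, a * g = g * (a * k) := by
  simp only [oneB, Bool.or_eq_true, Bool.and_eq_true] at h
  rcases h with ⟨hk, hm⟩ | ⟨⟨hls, hm⟩, hm'⟩
  · obtain ⟨hz, hrel⟩ := kB_spec hk
    have hle := Xs_le_SX h2 (z := ⟨_, hz⟩) hm
    obtain ⟨t, -, et⟩ := hg
    obtain ⟨v, -, ev⟩ := ha
    rcases hrel with hrel | hrel
    · obtain ⟨c, -, hc⟩ := comm_O (θ := θ) hrel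
      obtain ⟨k, e1, e2⟩ := hc g a t v et ev
      exact ⟨k, hle (mem_O h2 e2), e1⟩
    · obtain ⟨c, -, hc⟩ := comm_L (θ := θ) hrel
      obtain ⟨k, e1, e2⟩ := hc g a t v et ev
      exact ⟨k, hle (mem_of_single hrel.2.2.1 e2), e1⟩
  · simp only [lsB, Bool.and_eq_true, pN_val] at hls hm'
    obtain ⟨⟨⟨⟨⟨⟨f1, f2⟩, f3⟩, f4⟩, f5⟩, f6⟩, f7⟩ := hls
    obtain ⟨hz, hs⟩ := sumB_spec f5
    obtain ⟨hw, hs'⟩ := sumB_spec (u := ⟨_, hz⟩) f6
    have hrel : RelLS r u ⟨_, hz⟩ ⟨_, hw⟩ := ⟨(fixB_iff r).1 f1, (not_fixB_iff u).1 f2,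
      (not_fixB_iff ⟨_, hz⟩).1 f3, (fixB_iff ⟨_, hw⟩).1 f4, hs, hs', geB_spec (a := ⟨_, hw⟩) (b := pr ⟨_, hz⟩) f7⟩
    obtain ⟨k, hk, e⟩ := comm_LS h2 hrel hg ha
    exact ⟨k, sup_le (Xs_le_SX h2 (z := ⟨_, hz⟩) hm) (Xs_le_SX h2 (z := ⟨_, hw⟩) hm') hk, e⟩

theorem rel_spec (h2 : ∀ t, θ (θ t) = t) {S : List ℕ} {r u : R} (h : relB S r.val u.val = true)
    {g a : Gp θ} (hg : g ∈ Xs θ r) (ha : a ∈ Xs θ u) : ∃ k ∈ SX θ S, a * g = g * (a * k) := by
  have swap : ∀ {g a : Gp θ}, (∃ k ∈ SX θ S, g * a = a * (g * k)) → ∃ k ∈ SX θ S, a * g = g * (a * k) := by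
    rintro g a ⟨k, hk, e⟩
    refine ⟨k⁻¹, inv_mem hk, ?_⟩
    calc a * g = a * (g * k) * k⁻¹ := by group
      _ = g * (a * k⁻¹) := by rw [← e]; group
  simp only [relB, Bool.and_eq_true, Bool.or_eq_true, pN_val] at h
  obtain ⟨-, ((((⟨⟨⟨h1, h2'⟩, h3⟩, h4⟩ | h') | h') | h') | h')⟩ := h
  · exact ⟨1, one_mem _, by rw [mul_one]; exact comm_N ⟨geB_spec h1, geB_spec h2', geB_spec h3, geB_spec h4⟩ hg ha⟩
  · exact one_spec h2 h' hg ha
  · exact one_spec h2 h' hg (by rw [Xs_pr h2]; exact ha)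
  · exact swap (one_spec h2 h' ha hg)
  · exact swap (one_spec h2 h' ha (by rw [Xs_pr h2]; exact hg))

section reps

variable {V : Type*} [AddCommGroup V] [Module ℂ V] (ρ : Representation ℂ (Gp θ) V)

/-- the vectors fixed by the root subgroups of a list -/
noncomputable def Z (S : List ℕ) : Submodule ℂ V := ⨅ i ∈ S, Fx ρ (Xs θ (rootOf i))

variable {ρ}

theorem mem_Z {S : List ℕ} {x : V} : x ∈ Z ρ S ↔ ∀ i ∈ S, x ∈ Fx ρ (Xs θ (rootOf i)) := by
  simp [Z, Submodule.mem_iInf]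

theorem Z_mono {S T : List ℕ} (h : ∀ i ∈ S, i ∈ T) : Z ρ T ≤ Z ρ S :=
  fun _ hx => mem_Z.2 fun i hi => mem_Z.1 hx i (h i hi)

theorem Z_cons (u : ℕ) (S : List ℕ) : Z ρ (u :: S) = Z ρ S ⊓ Fx ρ (Xs θ (rootOf u)) := by
  ext x
  simp [mem_Z, and_comm]

theorem Z_perm {S T : List ℕ} (h : ∀ i, i ∈ S ↔ i ∈ T) : Z ρ S = Z ρ T :=
  le_antisymm (Z_mono fun i hi => (h i).2 hi) (Z_mono fun i hi => (h i).1 hi)

theorem fix_SX {S : List ℕ} {x : V} (hx : x ∈ Z ρ S) {k : Gp θ} (hk : k ∈ SX θ S) : ρ k x = x := by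
  let St : Subgroup (Gp θ) :=
    { carrier := {g | ρ g x = x}
      one_mem' := act_one x
      mul_mem' := fun {a b} ha hb => by
        show ρ (a * b) x = x
        rw [act_mul, hb, ha]
      inv_mem' := fun {a} ha => by
        show ρ a⁻¹ x = x
        conv_lhs => rw [← (ha : ρ a x = x)]
        exact act_inv_self a x }
  exact (iSup₂_le fun i hi g hg => mem_Fx.1 (mem_Z.1 hx i hi) g hg : SX θ S ≤ St) hk

theorem mem_Fx_of_memB (h2 : ∀ t, θ (θ t) = t) {S : List ℕ} {z : R} (h : memB z.val S = true) {x : V}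
    (hx : x ∈ Z ρ S) : x ∈ Fx ρ (Xs θ z) :=
  mem_Fx.2 fun _ hg => fix_SX hx (Xs_le_SX h2 h hg)

theorem Z_le_of_memB (h2 : ∀ t, θ (θ t) = t) {S T : List ℕ}
    (h : allList T (fun i => Nat.blt i chevE6.nroots && memB i S) = true) : Z ρ S ≤ Z ρ T := by
  refine fun x hx => mem_Z.2 fun i hi => ?_
  have := allList_spec h i hi
  rw [Bool.and_eq_true, Nat.blt_eq] at this
  exact mem_Fx_of_memB h2 (by rw [rootOf_val this.1]; exact this.2) hx

theorem act_keep (h2 : ∀ t, θ (θ t) = t) {S : List ℕ} {r u : R} (h : relB S r.val u.val = true) {x : V}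
    {χ : Gp θ → ℂ} (hx : x ∈ Z ρ S) (hu : x ∈ Eig ρ (Xs θ u) χ) {g : Gp θ} (hg : g ∈ Xs θ r) :
    ρ g x ∈ Eig ρ (Xs θ u) χ :=
  act_mem_Eig hu fun a ha => by
    obtain ⟨k, hk, e⟩ := rel_spec h2 h hg ha
    exact ⟨k, e, fix_SX hx hk⟩

theorem inv_Z (h2 : ∀ t, θ (θ t) = t) {S Ev : List ℕ} {r : R} (h : invB S Ev r.val = true) :
    Inv ρ (Xs θ r) (Z ρ S) := fun g hg x hx => mem_Z.2 fun i hi => by
  have hb := allList_spec h i (List.mem_append_left _ hi)
  have hlt : i < chevE6.nroots := by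
    simp only [relB, Bool.and_eq_true, Nat.blt_eq] at hb
    exact hb.1.2
  exact act_keep h2 (by rw [rootOf_val hlt]; exact hb) hx (mem_Z.1 hx i hi) hg

theorem inv_ZE (h2 : ∀ t, θ (θ t) = t) {S Ev : List ℕ} {r : R} (h : invB S Ev r.val = true) {s : R}
    (hs : s.val ∈ Ev) (χ : Gp θ → ℂ) : Inv ρ (Xs θ r) (Z ρ S ⊓ Eig ρ (Xs θ s) χ) := fun g hg x hx =>
  ⟨inv_Z h2 h g hg x hx.1, act_keep h2 (allList_spec h s.val (List.mem_append_right _ hs)) hx.1 hx.2 hg⟩

end reps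

section count

variable [Fintype K] {q : ℕ}

/-- the field and its involution -/
structure Hyp (θ : K ≃+* K) (q : ℕ) : Prop where
  prime : IsPrimePow q
  card : Fintype.card K = q ^ 2
  pow : ∀ x, θ x = x ^ q
  invol : ∀ x, θ (θ x) = x

theorem Hyp.one_lt (H : Hyp θ q) : 1 < q := H.prime.one_lt

theorem Hyp.card_fixed (H : Hyp θ q) : Nat.card {x : K // θ x = x} = q := by
  rw [← Frob.card_fixed H.prime H.card]
  exact Nat.card_congr (Equiv.subtypeEquivRight fun x => by rw [H.pow])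

theorem Hyp.moved (H : Hyp θ q) : ∃ x, θ x ≠ x := by
  by_contra h
  simp only [not_exists, not_not] at h
  have h1 := H.card_fixed
  rw [Nat.card_congr (Equiv.subtypeUnivEquiv h), Nat.card_eq_fintype_card, H.card] at h1
  nlinarith [H.one_lt]

theorem card_Xs (H : Hyp θ q) (r : R) : Nat.card (Xs θ r) = q ^ (cond (fixB r.val) 1 2) := by
  have hb : Function.Bijective (fun t : {t : K // Valid θ r t} =>
      (⟨xg H.invol r t.1 t.2, xg_mem _ _ _ _⟩ : Xs θ r)) := by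
    refine ⟨fun s t e => ?_, fun ⟨g, t, ht, e⟩ => ⟨⟨t, ht⟩, Subtype.ext (toG_inj θ e.symm)⟩⟩
    have e' : el θ r s.1 = el θ r t.1 := congrArg (fun z : Xs θ r => toG θ z.1) e
    refine Subtype.ext ?_
    by_cases h : pr r = r
    · rw [el_fix θ h, el_fix θ h] at e'
      exact X_inj e'
    · have e2 := el_add θ r (s.1 - t.1) t.1
      rw [sub_add_cancel, e', right_eq_mul, el, if_neg h, mul_eq_one_iff_eq_inv,
        show (Xr (pr r) (sg θ r * θ (s.1 - t.1)))⁻¹ = Xr (pr r) (-(sg θ r * θ (s.1 - t.1))) from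
          (gx_neg _ _ _).symm] at e2
      exact sub_eq_zero.1 (X_eq_zero e2 (Ne.symm h))
  rw [← Nat.card_eq_of_bijective _ hb]
  by_cases h : pr r = r
  · rw [(fixB_iff r).2 h, cond_true, pow_one, ← H.card_fixed]
    exact Nat.card_congr (Equiv.subtypeEquivRight fun t => ⟨fun ht => ht h, fun ht _ => ht⟩)
  · rw [show fixB r.val = false from Bool.eq_false_iff.2 fun e => h ((fixB_iff r).1 e), cond_false, ← H.card,
      ← Nat.card_eq_fintype_card]
    exact Nat.card_congr (Equiv.subtypeUnivEquiv fun t e => absurd e h)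

variable {V : Type*} [AddCommGroup V] [Module ℂ V] [FiniteDimensional ℂ V]
variable {ρ : Representation ℂ (Gp θ) V}

/-- partners shift the characters of each other -/
theorem block (H : Hyp θ q) (s : R) {χ : Gp θ → ℂ} (hn : Nt (Xs θ s) χ) :
    ∀ (L : List (ℕ × ℕ)) (S : List ℕ), blockB s.val L S = true →
      Module.finrank ℂ ↥(Z ρ S ⊓ Eig ρ (Xs θ s) χ) =
        q ^ sizeL L * Module.finrank ℂ ↥(Z ρ (addL L S) ⊓ Eig ρ (Xs θ s) χ) := by
  intro L
  induction L with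
  | nil => intro S _; simp [sizeL, addL]; rfl
  | cons p L ih =>
    obtain ⟨u, r⟩ := p
    intro S h
    simp only [blockB, Bool.and_eq_true, Nat.blt_eq, Nat.beq_eq] at h
    obtain ⟨⟨⟨⟨⟨⟨hiu, hir⟩, hr⟩, hu⟩, hk⟩, hz⟩, hrest⟩ := h
    rw [← rootOf_val hu] at hiu hk hz
    rw [← rootOf_val hr] at hir hk hz
    haveI : Fintype (Xs θ (rootOf u)) := Fintype.ofFinite _
    have h1 := trace_block (ρ := ρ) (A := Xs θ (rootOf u)) (inv_ZE H.invol hiu (List.mem_singleton_self _) χ)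
      fun a ha ha1 => by
        obtain ⟨hz', hrel⟩ := kB_spec hk
        obtain ⟨w, hw, hw1⟩ := hn
        have hzs : (⟨_, hz'⟩ : R) = s := Fin.ext hz
        obtain ⟨g, hg, e⟩ := surj H.invol H.moved hrel ha ha1 (w := w) (by rw [hzs]; exact hw)
        refine ⟨g, (χ w)⁻¹, fun e' => hw1 (inv_eq_one.1 e'),
          inv_ZE H.invol hir (List.mem_singleton_self _) χ g hg, fun x hx => ?_⟩
        have e2 := congrArg (fun k => ρ k x) e
        simp only [act_mul, mem_Eig.1 hx.2 w hw, map_smul] at e2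
        rw [e2, smul_smul]
        by_cases h0 : χ w = 0
        · have : x = 0 := by
            have h3 := mem_Eig.1 hx.2 w hw
            rw [h0, zero_smul] at h3
            exact act_inj w (h3.trans (map_zero _).symm)
          simp [this]
        · rw [inv_mul_cancel₀ h0, one_smul]
    rw [card_Xs H, rootOf_val hu] at h1
    have e : Z ρ S ⊓ Eig ρ (Xs θ s) χ ⊓ Fx ρ (Xs θ (rootOf u)) = Z ρ (u :: S) ⊓ Eig ρ (Xs θ s) χ := by
      rw [Z_cons, inf_right_comm]
    rw [h1, e, ih (u :: S) hrest, sizeL, addL, pow_add, mul_assoc]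

end count

/-! ### Monomial elements -/

/-- conjugation by `n` carries the orbit of `r` to the orbit of `s` -/
def Moves (n : Gp θ) (r s : R) : Prop :=
  (∀ a ∈ Xs θ r, n * a * n⁻¹ ∈ Xs θ s) ∧ ∀ b ∈ Xs θ s, n⁻¹ * b * n ∈ Xs θ r

theorem Moves.trans {m n : Gp θ} {r s t : R} (h : Moves n r s) (h' : Moves m s t) : Moves (m * n) r t := by
  refine ⟨fun a ha => ?_, fun b hb => ?_⟩
  · have := h'.1 _ (h.1 a ha)
    rwa [show m * n * a * (m * n)⁻¹ = m * (n * a * n⁻¹) * m⁻¹ by group]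
  · have := h.2 _ (h'.2 b hb)
    rwa [show (m * n)⁻¹ * b * (m * n) = n⁻¹ * (m⁻¹ * b * m) * n by group]

theorem moves_of_perm (h2 : ∀ t, θ (θ t) = t) (n : Gp θ) {π : Equiv.Perm R}
    (hn : TE6.C.G.NPerm (n : GL chevE6.Idx K) π) (hp : ∀ r, π (pr r) = pr (π r)) (r : R) :
    Moves n r (π r) := by
  have key : ∀ (n : Gp θ) (π : Equiv.Perm R), TE6.C.G.NPerm (n : GL chevE6.Idx K) π →
      (∀ r, π (pr r) = pr (π r)) → ∀ r, ∀ a ∈ Xs θ r, n * a * n⁻¹ ∈ Xs θ (π r) := by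
    intro n π hn hp r a ⟨t, ht, e⟩
    have hX : ∀ (r : R) (t : K), ∃ c : K, toG θ n * Xr r t * (toG θ n)⁻¹ = Xr (π r) (c * t) := fun r t => by
      obtain ⟨c, hc⟩ := hn r
      refine ⟨c, Subtype.ext ?_⟩
      rw [Subgroup.coe_mul, Subgroup.coe_mul, Subgroup.coe_inv, X_coe, X_coe]
      exact hc t
    by_cases h : pr r = r
    · obtain ⟨c, hc⟩ := hX r t
      refine mem_of_single (by rw [← hp, h]) (t := c * t) ?_
      rw [map_mul, map_mul, map_inv, e, el_fix θ h, hc]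
    · obtain ⟨c, hc⟩ := hX r t
      obtain ⟨d, hd⟩ := hX (pr r) (sg θ r * θ t)
      rw [hp] at hd
      refine mem_of_pair h2 (A := c * t) (B := d * (sg θ r * θ t)) ?_
      rw [map_mul, map_mul, map_inv, e, el, if_neg h, ← hc, ← hd]
      group
  refine ⟨key n π hn hp r, fun b hb => ?_⟩
  have h := key n⁻¹ π⁻¹ (Good.NPerm.inv TE6.C.G hn) (fun s => by
    obtain ⟨r, rfl⟩ := π.surjective s
    rw [← hp, Equiv.Perm.inv_def, Equiv.symm_apply_apply, Equiv.symm_apply_apply]) (π r) b hb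
  rwa [inv_inv, Equiv.Perm.inv_def, Equiv.symm_apply_apply] at h

variable [Fintype K] {q : ℕ}

theorem allB_cons {o : ℕ} {W : List ℕ} (h : allList (o :: W) (fun o => Nat.blt o 4) = true) :
    o < 4 ∧ allList W (fun o => Nat.blt o 4) = true := by
  have h1 := allList_spec h o List.mem_cons_self
  change (cond (Nat.blt o 4) (allList W fun o => Nat.blt o 4) false) = true at h
  rw [h1, cond_true] at h
  rw [Nat.blt_eq] at h1
  exact ⟨h1, h⟩

theorem exists_mono (H : Hyp θ q) : ∀ W : List ℕ, allList W (fun o => Nat.blt o 4) = true →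
    ∃ n : Gp θ, ∀ r s : R, actW W r.val = s.val → Moves n r s := by
  intro W
  induction W with
  | nil =>
    refine fun _ => ⟨1, fun r s e => ?_⟩
    obtain rfl : r = s := Fin.ext e
    exact ⟨fun a ha => by simpa using ha, fun b hb => by simpa using hb⟩
  | cons o W ih =>
    intro h
    replace h := allB_cons h
    obtain ⟨n, hn⟩ := ih h.2
    have P := (TE6.twGp θ H.pow H.invol).toPre
    have ho : o < orbGraphE6.no := h.1
    let m : Gp θ := ⟨P.nk ⟨o, ho⟩, P.le (P.nk_mem _)⟩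
    have hcomm := (mem_Wp.1 ((TE6.orbits θ).wO_mem ⟨o, ho⟩)).2
    refine ⟨m * n, fun r s e => ?_⟩
    have hlt : ∀ (W : List ℕ), allList W (fun o => Nat.blt o 4) = true → ∀ r : R, actW W r.val < chevE6.nroots := by
      intro W
      induction W with
      | nil => exact fun _ r => r.isLt
      | cons o W ih =>
        intro h r
        replace h := allB_cons h
        have := ((TE6.orbits θ).wO (⟨o, h.1⟩ : Fin orbGraphE6.no) ⟨_, ih h.2 r⟩).isLt
        rwa [TE6.wO_val] at this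
    set x : R := ⟨actW W r.val, hlt W h.2 r⟩
    have h1 := hn r x rfl
    have h2' := moves_of_perm H.invol m (P.nk_perm _) (fun r => by
      have h := congrArg (fun f : Equiv.Perm R => f r) hcomm
      simp only [Equiv.Perm.mul_apply, twist_p] at h
      first | exact h | exact h.symm) x
    have hs : (TE6.orbits θ).wO ⟨o, ho⟩ x = s := Fin.ext (by rw [TE6.wO_val]; exact e)
    rw [hs] at h2'
    exact h1.trans h2'

variable {V : Type*} [AddCommGroup V] [Module ℂ V] {ρ : Representation ℂ (Gp θ) V}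

theorem map_Z (h2 : ∀ t, θ (θ t) = t) {W S0 S : List ℕ} (h : mapB W S0 S = true) {n : Gp θ}
    (hn : ∀ r s : R, actW W r.val = s.val → Moves n r s) {x : V} (hx : x ∈ Z ρ S0) : ρ n x ∈ Z ρ S := by
  simp only [mapB, Bool.and_eq_true] at h
  refine mem_Z.2 fun v hv => ?_
  have hb := allList_spec h.2 v hv
  simp only [Bool.and_eq_true, Nat.blt_eq, Nat.beq_eq] at hb
  obtain ⟨⟨⟨hv', hu⟩, hm⟩, he⟩ := hb
  refine map_Fx (hn (⟨_, hu⟩ : R) (rootOf v) (he.trans (rootOf_val hv').symm)).2 ?_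
  exact mem_Fx_of_memB h2 (z := (⟨_, hu⟩ : R)) hm hx

theorem Moves.nt {n : Gp θ} {r s : R} (h : Moves n r s) {χ : Gp θ → ℂ} (hχ : Nt (Xs θ r) χ) :
    Nt (Xs θ s) (tw n χ) := by
  obtain ⟨a, ha, hne⟩ := hχ
  refine ⟨_, h.1 a ha, ?_⟩
  show χ (n⁻¹ * (n * a * n⁻¹) * n) ≠ 1
  rwa [show n⁻¹ * (n * a * n⁻¹) * n = a by group]

theorem Moves.ne {n : Gp θ} {r s : R} (h : Moves n r s) {χ χ' : Gp θ → ℂ}
    (hne : ∃ a ∈ Xs θ r, χ a ≠ χ' a) : ∃ a ∈ Xs θ s, tw n χ a ≠ tw n χ' a := by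
  obtain ⟨a, ha, hne⟩ := hne
  refine ⟨_, h.1 a ha, ?_⟩
  show χ (n⁻¹ * (n * a * n⁻¹) * n) ≠ χ' (n⁻¹ * (n * a * n⁻¹) * n)
  rwa [show n⁻¹ * (n * a * n⁻¹) * n = a by group]

end CfsgLib.MinDeg.TwE6
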