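import Cfsg.Agent.Lib.MinDeg.TwE6Ops

/-!
# Representations of small degree of ²E₆(q): two vectors fixed by the unipotent group
-/

set_option autoImplicit false
set_option maxRecDepth 100000
set_option linter.unusedSectionVars false

namespace CfsgLib.MinDeg.TwE6

open Cfsg.Lie CfsgLib.Lie.Chev CfsgLib.Lie.Laced CfsgLib.MinDeg.RootSpace CfsgLib.MinDeg.LacedRoot
open CfsgLib.MinDeg.SubgroupEigen
open scoped MatrixGroups Classical

theorem fixed_roots : pr ra = ra ∧ pr rb = rb ∧ pr rc = rc ∧ pr ma = ma ∧ pr mb = mb ∧ pr mc = mc :=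
  ⟨Fin.ext (by decide +kernel), Fin.ext (by decide +kernel), Fin.ext (by decide +kernel),
    Fin.ext (by decide +kernel), Fin.ext (by decide +kernel), Fin.ext (by decide +kernel)⟩

theorem negr_rb : TE6.C.G.negr rb = mb := Fin.ext (negr_eq (by decide +kernel))

theorem sPa_pr (x : R) : TE6.C.G.sP ia (pr x) = pr (TE6.C.G.sP ia x) := Fin.ext (by
  rw [← pN_val, TE6.C.G.sP_apply, TE6.C.G.sP_apply, w_ia, w_ia]
  exact pr_ia x)

theorem sPb_pr (x : R) : TE6.C.G.sP ib (pr x) = pr (TE6.C.G.sP ib x) := Fin.ext (by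
  rw [← pN_val, TE6.C.G.sP_apply, TE6.C.G.sP_apply, w_ib, w_ib]
  exact pr_ib x)

variable {K : Type*} [Field K] [Fintype K] {θ : K ≃+* K} {q : ℕ}

noncomputable local instance instFintypeXs' (r : R) : Fintype (Xs θ r) := Fintype.ofFinite _

theorem ma_moves (h2 : ∀ t, θ (θ t) = t) {n : Gp θ} {t : K} (ht : t ≠ 0) (e : toG θ n = nR TE6.C ma t)
    (r s : R) (h : actW [0, 0, 0] r.val = s.val) : Moves n r s := by
  have hm : ma = TE6.C.G.w ia (TE6.C.G.simp' ia) := Fin.ext (by rw [w_ia, simp_ia]; decide +kernel)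
  have hp : TE6.C.G.NPerm (n : GL chevE6.Idx K) (TE6.C.G.sP ia * TE6.C.G.sP ia * TE6.C.G.sP ia) := by
    show TE6.C.G.NPerm ((toG θ n : ↥(chevE6.group K)) : GL chevE6.Idx K) _
    rw [e, hm]
    exact LacedRoot.nE_w_perm ia (fun t ht => LacedRoot.nE_simp_perm ia ht) ht
  have hs : (TE6.C.G.sP ia * TE6.C.G.sP ia * TE6.C.G.sP ia) r = s := Fin.ext (by
    simp only [Equiv.Perm.mul_apply, TE6.C.G.sP_apply, w_ia]
    exact h)
  rw [← hs]
  exact moves_of_perm h2 n hp (fun x => by simp only [Equiv.Perm.mul_apply, sPa_pr]) r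

theorem mc_moves (h2 : ∀ t, θ (θ t) = t) {n : Gp θ} {t : K} (ht : t ≠ 0) (e : toG θ n = nR TE6.C mc t)
    (r s : R) (h : actW [1, 0, 0, 0, 1] r.val = s.val) : Moves n r s := by
  have hm : mc = TE6.C.G.w ib (TE6.C.G.w ia (TE6.C.G.simp' ia)) :=
    Fin.ext (by rw [w_ib, w_ia, simp_ia]; decide +kernel)
  have hp : TE6.C.G.NPerm (n : GL chevE6.Idx K)
      (TE6.C.G.sP ib * (TE6.C.G.sP ia * TE6.C.G.sP ia * TE6.C.G.sP ia) * TE6.C.G.sP ib) := by
    show TE6.C.G.NPerm ((toG θ n : ↥(chevE6.group K)) : GL chevE6.Idx K) _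
    rw [e, hm]
    exact LacedRoot.nE_w_perm ib (fun t ht => LacedRoot.nE_w_perm ia
      (fun t ht => LacedRoot.nE_simp_perm ia ht) ht) ht
  have hs : (TE6.C.G.sP ib * (TE6.C.G.sP ia * TE6.C.G.sP ia * TE6.C.G.sP ia) * TE6.C.G.sP ib) r = s :=
    Fin.ext (by
      simp only [Equiv.Perm.mul_apply, TE6.C.G.sP_apply, w_ia, w_ib]
      exact h)
  rw [← hs]
  exact moves_of_perm h2 n hp (fun x => by simp only [Equiv.Perm.mul_apply, sPa_pr, sPb_pr]) r

variable {V : Type*} [AddCommGroup V] [Module ℂ V] [FiniteDimensional ℂ V] {ρ : Representation ℂ (Gp θ) V}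

theorem av_fix (H : Hyp θ q) {r : R} (hr : pr r = r) {x : V} (hx : x ∈ Fx ρ (Xs θ r)) :
    av ρ r x = (q : ℂ) • x := by
  rw [av, avg_of_fixed hx, card_Xs H, (fixB_iff r).2 hr, cond_true, pow_one]

theorem av_mem {r : R} {W : Submodule ℂ V} (hW : Inv ρ (Xs θ r) W) {x : V} (hx : x ∈ W) : av ρ r x ∈ W := by
  rw [av, avg_apply]
  exact Submodule.sum_mem _ fun g _ => hW g g.2 x hx

theorem exists_xq (h2 : ∀ t, θ (θ t) = t) {r : R} (hr : pr r = r) {g : Gp θ} (hg : g ∈ Xs θ r) (h1 : g ≠ 1) :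
    ∃ t : Fq θ, t.1 ≠ 0 ∧ g = xq h2 r t := by
  obtain ⟨t, ht⟩ := (xq_bij h2 hr).2 ⟨g, hg⟩
  have e : xq h2 r t = g := congrArg Subtype.val ht
  exact ⟨t, fun e0 => h1 (e ▸ xq_zero h2 r t e0), e.symm⟩

/-- one fixed simple root acting on a line of fixed vectors -/
theorem node_facts (H : Hyp θ q) {r r' : R} (hr : pr r = r) (hr' : pr r' = r') (hneg : TE6.C.G.negr r = r')
    {n : Gp θ} (hn : Moves n r r') {t t' : Mu θ → Gp θ}
    (htr : ∀ μ, Moves (t μ) r r) (ht'r : ∀ μ, Moves (t' μ) r r)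
    (htn : ∀ μ ν : Mu θ, ν.1 = μ.1⁻¹ → t μ * n = n * t ν) (ht'n : ∀ μ, t' μ * n = n * (t μ * t' μ))
    (hsq : n * n * t (negOne θ) = 1)
    (hnR : ∀ (s : Fq θ) (hs : s.1 ≠ 0), nR TE6.C r s.1 = toG θ (t ⟨Units.mk0 s.1 hs, s.2⟩ * n))
    {u : V} (hu0 : u ≠ 0) (hu : u ∈ Fx ρ (Xs θ r)) {γ γ' : Mu θ → ℂ} (hγ : ∀ μ, ρ (t μ) u = γ μ • u)
    (hγ' : ∀ μ, ρ (t' μ) u = γ' μ • u) {e : ℂ} (he : av ρ r (ρ n u) = e • u) :
    e ≠ 0 ∧ (∀ μ, ρ (t μ) u = u) ∧ ρ n (ρ n u) = u ∧ av ρ r' u = e • ρ n u ∧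
      (e ≠ -1 → u ∈ Fx ρ (Xs θ r')) := by
  have h2 := H.invol
  have hq : (q : ℂ) ≠ 0 := Nat.cast_ne_zero.2 (by have := H.one_lt; omega)
  set z := ρ n u with hz
  let o : Fq θ := ⟨0, map_zero θ⟩
  let inv' : Fq θ → Fq θ := fun t => ⟨t.1⁻¹, by rw [map_inv₀, t.2]⟩
  have hne : ∀ {s : Fq θ}, s ∈ Finset.univ.erase o → s.1 ≠ 0 := fun h e0 =>
    Finset.ne_of_mem_erase h (Subtype.ext e0)
  -- one term
  have hterm : ∀ s : Fq θ, s.1 ≠ 0 → ∃ ν : Mu θ,
      ρ (xq h2 r' s) u = γ ν • ρ (xq h2 r (inv' s)) z := by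
    intro s hs
    obtain ⟨m, s', hs', hm, hx⟩ := xq_opp h2 hr hr' hneg s
    obtain rfl : s' = inv' s := Subtype.ext hs'
    have hn0 : -(inv' s).1 ≠ 0 := neg_ne_zero.2 (inv_ne_zero hs)
    have hfix : θ (-(inv' s).1) = -(inv' s).1 := by rw [map_neg, (inv' s).2]
    have em : m = t ⟨Units.mk0 _ hn0, hfix⟩ * n :=
      toG_inj θ (hm.trans (hnR ⟨-(inv' s).1, hfix⟩ hn0))
    let ν : Mu θ := ⟨(Units.mk0 _ hn0)⁻¹, by
      rw [Units.val_inv_eq_inv_val, map_inv₀, Units.val_mk0, hfix]⟩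
    refine ⟨ν, ?_⟩
    rw [hx, act_mul, act_mul, mem_Fx.1 hu _ (xq_mem h2 r (inv' s)), em,
      htn _ ν rfl, act_mul, hγ, map_smul, map_smul]
  have hsplit : av ρ r' u = u + ∑ s ∈ Finset.univ.erase o, ρ (xq h2 r' s) u := by
    rw [av_eq_sum h2 hr', ← Finset.add_sum_erase _ _ (Finset.mem_univ o), xq_zero h2 r' o rfl, act_one]
  have he0 : e ≠ 0 := by
    intro e0
    rw [e0, zero_smul] at he
    have h0 : av ρ r (av ρ r' u) = (q : ℂ) • u := by
      rw [hsplit, map_add, av_fix H hr hu, map_sum, Finset.sum_eq_zero, add_zero]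
      intro s hs
      obtain ⟨ν, hν⟩ := hterm s (hne hs)
      rw [hν, map_smul, av, avg_absorb (xq_mem h2 r (inv' s)), show avg ρ (Xs θ r) z = 0 from he, smul_zero]
    have hni : av ρ r' u = 0 := by
      have e1 : ρ n (av ρ r (ρ n⁻¹ u)) = av ρ r' u := by rw [av_move hn, act_self_inv]
      have e2 : n⁻¹ = n * t (negOne θ) := by
        rw [inv_eq_iff_mul_eq_one, ← mul_assoc, hsq]
      rw [← e1, e2, act_mul, hγ, map_smul, map_smul, he, smul_zero, map_zero]
    rw [hni, map_zero] at h0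
    exact hu0 ((smul_eq_zero.1 h0.symm).resolve_left hq)
  have hγ1 : ∀ μ, γ μ = 1 := by
    intro μ
    have h' : γ' μ ≠ 0 := fun e0 => hu0 (act_inj (ρ := ρ) (t' μ) (by rw [hγ', e0, zero_smul, map_zero]))
    have h1 : ρ (t' μ) (av ρ r z) = (γ μ * γ' μ * e) • u := by
      rw [av_move (ht'r μ), hz, ← act_mul (t' μ), ht'n, act_mul, act_mul, hγ', map_smul, hγ, smul_smul,
        map_smul, map_smul, ← hz, he, smul_smul, mul_comm (γ' μ) (γ μ)]
    rw [he, map_smul, hγ', smul_smul] at h1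
    have h3 := smul_left_injective ℂ hu0 h1
    have h4 : (γ μ - 1) * (γ' μ * e) = 0 := by linear_combination (-1 : ℂ) * h3
    exact sub_eq_zero.1 ((mul_eq_zero.1 h4).resolve_right (mul_ne_zero h' he0))
  have ht1 : ∀ μ, ρ (t μ) u = u := fun μ => by rw [hγ, hγ1, one_smul]
  have hnn : ρ n z = u := by
    rw [hz, ← act_mul]
    conv_lhs => rw [← ht1 (negOne θ)]
    rw [← act_mul, hsq, act_one]
  have hav : av ρ r' u = e • z := by
    conv_lhs => rw [← hnn]
    rw [← av_move hn, he, map_smul, ← hz]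
  refine ⟨he0, ht1, hnn, hav, fun hne1 => ?_⟩
  have h1 : av ρ r' u = u + (e • u - z) := by
    rw [hsplit]
    congr 1
    have h3 : ρ (xq h2 r o) z + ∑ s ∈ Finset.univ.erase o, ρ (xq h2 r s) z = e • u := by
      rw [Finset.add_sum_erase _ (fun s => ρ (xq h2 r s) z) (Finset.mem_univ o), ← av_eq_sum h2 hr, he]
    rw [xq_zero h2 r o rfl, act_one] at h3
    rw [← h3, add_sub_cancel_left]
    refine Finset.sum_nbij' inv' inv' ?_ ?_ (fun s _ => Subtype.ext (inv_inv _))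
      (fun s _ => Subtype.ext (inv_inv _)) fun s hs => ?_
    · exact fun s hs => Finset.mem_erase.2 ⟨fun e0 => hne hs (inv_eq_zero.1 (congrArg Subtype.val e0)),
        Finset.mem_univ _⟩
    · exact fun s hs => Finset.mem_erase.2 ⟨fun e0 => hne hs (inv_eq_zero.1 (congrArg Subtype.val e0)),
        Finset.mem_univ _⟩
    · obtain ⟨ν, hν⟩ := hterm s (hne hs)
      rw [hν, hγ1, one_smul]
  rw [hav] at h1
  have h4 : (1 + e) • (z - u) = 0 := by
    have : e • z - (u + (e • u - z)) = 0 := sub_eq_zero.2 h1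
    rw [← this]
    module
  have hzu : z = u := sub_eq_zero.1 ((smul_eq_zero.1 h4).resolve_left fun e0 => hne1 (by linear_combination e0))
  refine mem_Fx.2 fun g hg => ?_
  conv_lhs => rw [← hzu, hz, ← act_mul, show g * n = n * (n⁻¹ * g * n) by group, act_mul,
    mem_Fx.1 hu _ (hn.2 g hg), ← hz, hzu]

namespace Small

variable (H : Small ρ q)
include H

/-- the vector after two reflections -/
theorem core {y : V} (hy : y ∈ Z ρ posA) (h0 : av ρ ra y = 0) :
    ρ (na θ) (ρ (nb θ) y) ∈ Z ρ (posM ++ [25, 24]) ∧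
      av ρ rc (ρ (na θ) (ρ (nb θ) y)) ∈ Fx ρ (Xs θ ra) ∧
      av ρ mc (av ρ ma (av ρ rc (ρ (na θ) (ρ (nb θ) y)))) =
        ((q : ℂ) * (q : ℂ)) • ρ (na θ) (ρ (nb θ) y) := by
  have h2 := H.hyp.invol
  obtain ⟨-, fb, fc, fma, -, fmc⟩ := fixed_roots
  have hr : ρ (na θ) (ρ (nb θ) y) ∈ Z ρ (posM ++ [25, 24]) :=
    map_Z h2 (W := [0]) (S0 := posM ++ [32, 46]) (by decide +kernel) (na_moves h2)
      (map_Z h2 (W := [1]) (by decide +kernel) (nb_moves h2) hy)
  have hb : av ρ rb (ρ (na θ) (ρ (nb θ) y)) = 0 := by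
    rw [← av_move (na_moves h2 rc rb (by decide +kernel)), ← av_move (nb_moves h2 ra rc (by decide +kernel)),
      h0, map_zero, map_zero]
  set r := ρ (na θ) (ρ (nb θ) y)
  refine ⟨hr, ?_, ?_⟩
  · have hS : av ρ rc r ∈ Z ρ posAB := by
      refine Z_le_of_memB h2 (S := rc.val :: posM) (by decide +kernel) ?_
      rw [Z_cons, rootOf_self]
      exact ⟨av_mem (inv_Z h2 (Ev := []) (by decide +kernel)) (Z_mono (fun i hi => List.mem_append_left _ hi) hr),
        avg_mem_Fx r⟩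
    refine mem_of_components (ρ := ρ) (A := Xs θ rb) (W := Z ρ posAB) (fun a ha b hb => Xs_comm θ ha hb)
      (inv_Z h2 (Ev := []) (by decide +kernel)) hS ?_ fun χ hχ => ?_
    · show av ρ rb (av ρ rc r) = 0
      rw [av_swap (relN_of rb rc (by decide +kernel)), hb, map_zero]
    · exact fun x hx => mem_Fx_of_memB h2 (S := posB) (z := ra) (by decide +kernel) (H.pureB hχ hx)
  · have hrA : r ∈ Fx ρ (Xs θ ma) := mem_Fx_of_memB h2 (by decide +kernel) hr
    have hrC : r ∈ Fx ρ (Xs θ mc) := mem_Fx_of_memB h2 (by decide +kernel) hr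
    rw [show av ρ rc r = ∑ g : Xs θ rc, ρ (g : Gp θ) r from avg_apply r, map_sum, map_sum,
      Finset.sum_eq_single (1 : Xs θ rc)]
    · rw [Subgroup.coe_one, act_one, av_fix H.hyp fma hrA, map_smul, av_fix H.hyp fmc hrC, smul_smul]
    · intro g _ hg
      obtain ⟨t, ht, eg⟩ := exists_xq h2 fc g.2 fun e => hg (Subtype.ext e)
      obtain ⟨n, s, hs, hn, hx⟩ := xq_opp h2 fmc fc negr_mc t
      have hmv := mc_moves h2 (neg_ne_zero.2 (by rw [hs]; exact inv_ne_zero ht)) hn rb ma (by decide +kernel)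
      rw [eg, hx, act_mul, act_mul, mem_Fx.1 hrC _ (xq_mem h2 mc s),
        ← av_act_comm (relN_of mc ma (by decide +kernel)) (xq_mem h2 mc s)]
      show avg ρ (Xs θ mc) _ = 0
      rw [avg_absorb (xq_mem h2 mc s), ← av_move hmv, hb, map_zero, map_zero]
    · exact fun h => absurd (Finset.mem_univ _) h

/-- a pure vector is not cuspidal -/
theorem cusp {χ : Gp θ → ℂ} (hn : Nt (Xs θ ra) χ) {y : V} (hy : y ∈ Z ρ posA) (hyE : y ∈ Eig ρ (Xs θ ra) χ)
    (h0 : av ρ ma y = 0) : y = 0 := by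
  have h2 := H.hyp.invol
  obtain ⟨fa, -, -, fma, -, -⟩ := fixed_roots
  obtain ⟨hr, hS, hPS⟩ := H.core hy (avg_of_nt hyE hn)
  have hrE := map_Eig (ρ := ρ) (na_moves h2 rc rb (by decide +kernel)).2
    (map_Eig (ρ := ρ) (nb_moves h2 ra rc (by decide +kernel)).2 hyE)
  set χ' := tw (na θ) (tw (nb θ) χ)
  set r := ρ (na θ) (ρ (nb θ) y) with hr'
  have hrA : r ∈ Fx ρ (Xs θ ma) := mem_Fx_of_memB h2 (by decide +kernel) hr
  let one : Fq θ := ⟨1, map_one θ⟩
  obtain ⟨n, s, hs, hn', hx⟩ := xq_opp h2 fma fa negr_ma one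
  have hmv : ∀ r r' : R, actW [0, 0, 0] r.val = r'.val → Moves n r r' :=
    ma_moves h2 (neg_ne_zero.2 (by rw [hs]; exact inv_ne_zero one_ne_zero)) hn'
  have hP : av ρ mc (av ρ ma (ρ n r)) = 0 := by
    rw [hr', ← av_move (hmv ra ma (by decide +kernel)), ← av_move (hmv mb mc (by decide +kernel)),
      ← av_move (na_moves h2 ma ra (by decide +kernel)), ← av_move (na_moves h2 mc mb (by decide +kernel)),
      ← av_move (nb_moves h2 mc ma (by decide +kernel)), ← av_move (nb_moves h2 ma mc (by decide +kernel)),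
      av_swap (relN_of ma mc (by decide +kernel)), h0]
    simp
  have hz : av ρ mc (av ρ ma (ρ (xq h2 ra one) (av ρ rc r))) = 0 := by
    rw [show av ρ rc r = ∑ g : Xs θ rc, ρ (g : Gp θ) r from avg_apply r, map_sum, map_sum, map_sum]
    refine Finset.sum_eq_zero fun g _ => ?_
    obtain ⟨k, hk, ek⟩ := rel_spec h2 (S := [(rb : R).val]) (r := rc) (u := ma) (by decide +kernel) g.2
      (xq_mem h2 ma s)
    rw [Xs_single] at hk
    have e1 : ρ (xq h2 ma s) (ρ (g : Gp θ) r) = χ' k • ρ (g : Gp θ) r := by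
      rw [← act_mul, ek, act_mul, act_mul, mem_Eig.1 hrE k hk, map_smul, mem_Fx.1 hrA _ (xq_mem h2 ma s),
        map_smul]
    rw [hx, act_mul, act_mul, e1, map_smul, map_smul]
    show avg ρ (Xs θ mc) (avg ρ (Xs θ ma) (χ' k • ρ (xq h2 ma s) (ρ n (ρ (g : Gp θ) r)))) = 0
    rw [map_smul, map_smul, avg_absorb (xq_mem h2 ma s), ← act_mul n,
      show n * (g : Gp θ) = n * g * n⁻¹ * n by group, act_mul]
    show χ' k • av ρ mc (av ρ ma (ρ (n * g * n⁻¹) (ρ n r))) = 0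
    rw [av_av_act h2 (relN_of rb ma (by decide +kernel)) (by decide +kernel)
      ((hmv rc rb (by decide +kernel)).1 g g.2), hP, map_zero, smul_zero]
  rw [mem_Fx.1 hS _ (xq_mem h2 ra one), hPS] at hz
  have hq : (q : ℂ) ≠ 0 := Nat.cast_ne_zero.2 (by have := H.hyp.one_lt; omega)
  have hr0 := (smul_eq_zero.1 hz).resolve_left (mul_ne_zero hq hq)
  exact act_inj (ρ := ρ) (nb θ) (act_inj (ρ := ρ) (na θ) (by rw [← hr', hr0, map_zero, map_zero]))

/-- the fixed vectors of the unipotent group span at least a plane -/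
theorem two_le_U0 : 2 ≤ Module.finrank ℂ ↥(Z ρ posR) := by
  by_contra hlt
  have h1 : Module.finrank ℂ ↥(Z ρ posR) ≤ 1 := by omega
  have h2 := H.hyp.invol
  obtain ⟨fa, fb, fc, fma, fmb, fmc⟩ := fixed_roots
  obtain ⟨χ, y, hn, -, hy0, hyZ, hyE⟩ := H.exists_pureA
  set u := ρ (na θ) (av ρ ma y) with hu_def
  have hu0 : u ≠ 0 := fun e => hy0 (H.cusp hn (Z_mono (fun i hi => List.mem_append_left _ hi) hyZ) hyE
    (act_inj (na θ) (e.trans (map_zero _).symm)))
  have huE : u ∈ Z ρ (posR ++ [15, 29]) := by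
    refine map_Z h2 (W := [0]) (S0 := ma.val :: (posA ++ [15, 29])) (by decide +kernel) (na_moves h2) ?_
    rw [Z_cons, rootOf_self]
    exact ⟨av_mem (inv_Z h2 (Ev := []) (by decide +kernel)) hyZ, avg_mem_Fx y⟩
  have hu : u ∈ Z ρ posR := Z_mono (fun i hi => List.mem_append_left _ hi) huE
  have hscal : ∀ g : Gp θ, (∀ r : R, Moves g r r) → ∃ m : ℂ, ρ g u = m • u := fun g hg =>
    exists_scalar h1 (fun x hx => mem_Z.2 fun i hi => map_Fx (hg _).2 (mem_Z.1 hx i hi)) hu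
  choose γa hγa using fun μ : Mu θ => hscal (ta θ μ) (tor_moves h2 _ _ μ)
  choose γb hγb using fun μ : Mu θ => hscal (tb θ μ) (tor_moves h2 _ _ μ)
  -- the two operators
  have hTa : ∀ x ∈ Z ρ posR, av ρ ra (ρ (na θ) x) ∈ Z ρ posR := fun x hx => by
    refine Z_le_of_memB h2 (S := ra.val :: posA) (by decide +kernel) ?_
    rw [Z_cons, rootOf_self]
    exact ⟨av_mem (inv_Z h2 (Ev := []) (by decide +kernel)) (map_Z h2 (by decide +kernel) (na_moves h2) hx),
      avg_mem_Fx _⟩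
  have hTb : ∀ x ∈ Z ρ posR, av ρ rb (ρ (nb θ) x) ∈ Z ρ posR := fun x hx => by
    refine Z_le_of_memB h2 (S := rb.val :: posB) (by decide +kernel) ?_
    rw [Z_cons, rootOf_self]
    exact ⟨av_mem (inv_Z h2 (Ev := []) (by decide +kernel)) (map_Z h2 (by decide +kernel) (nb_moves h2) hx),
      avg_mem_Fx _⟩
  obtain ⟨ea, hea⟩ : ∃ m : ℂ, av ρ ra (ρ (na θ) u) = m • u := by
    have he := Submodule.eq_of_le_of_finrank_le ((Submodule.span_singleton_le_iff_mem u _).2 hu)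
      (by rw [finrank_span_singleton hu0]; exact h1)
    obtain ⟨m, hm⟩ := Submodule.mem_span_singleton.1 (he.symm ▸ hTa u hu)
    exact ⟨m, hm.symm⟩
  obtain ⟨eb, heb⟩ : ∃ m : ℂ, av ρ rb (ρ (nb θ) u) = m • u := by
    have he := Submodule.eq_of_le_of_finrank_le ((Submodule.span_singleton_le_iff_mem u _).2 hu)
      (by rw [finrank_span_singleton hu0]; exact h1)
    obtain ⟨m, hm⟩ := Submodule.mem_span_singleton.1 (he.symm ▸ hTb u hu)
    exact ⟨m, hm.symm⟩
  obtain ⟨ha0, hta, hnaa, hava, hfa⟩ := node_facts H.hyp fa fma negr_ra (na_moves h2 ra ma (by decide +kernel))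
    (t := ta θ) (t' := tb θ) (fun μ => tor_moves h2 _ _ μ ra) (fun μ => tor_moves h2 _ _ μ ra) ta_na tb_na na_sq
    (fun s hs => nR_ia hs) hu0 (mem_Fx_of_memB h2 (by decide +kernel) hu) hγa hγb hea
  obtain ⟨hb0, htb, hnbb, havb, hfb⟩ := node_facts H.hyp fb fmb negr_rb (nb_moves h2 rb mb (by decide +kernel))
    (t := tb θ) (t' := ta θ) (fun μ => tor_moves h2 _ _ μ rb) (fun μ => tor_moves h2 _ _ μ rb) tb_nb
    (fun μ => by
      rw [ta_nb]
      congr 1
      refine toG_inj θ (Subtype.ext ?_)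
      show TE6.C.G.hd _ _ * TE6.C.G.hd _ _ = TE6.C.G.hd _ _ * TE6.C.G.hd _ _
      rw [TE6.C.G.hd_eq_torθ, TE6.C.G.hd_eq_torθ, ← map_mul, ← map_mul, mul_comm])
    nb_sq (fun s hs => nR_ib hs) hu0 (mem_Fx_of_memB h2 (by decide +kernel) hu) hγb hγa heb
  -- the torus fixes the translates
  have hinvμ : ∀ μ : Mu θ, ∃ ν : Mu θ, ν.1 = μ.1⁻¹ := fun μ =>
    ⟨⟨μ.1⁻¹, by rw [Units.val_inv_eq_inv_val, map_inv₀, μ.2]⟩, rfl⟩
  have hza : ∀ μ, ρ (tb θ μ) (ρ (na θ) u) = ρ (na θ) u := fun μ => by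
    rw [← act_mul, tb_na, act_mul, act_mul, htb, hta]
  have hwb : ∀ μ, ρ (tb θ μ) (ρ (nb θ) u) = ρ (nb θ) u := fun μ => by
    obtain ⟨ν, hν⟩ := hinvμ μ
    rw [← act_mul, tb_nb μ ν hν, act_mul, htb]
  have hwa : ∀ μ, ρ (ta θ μ) (ρ (nb θ) u) = ρ (nb θ) u := fun μ => by
    rw [← act_mul, ta_nb, act_mul, act_mul, htb, hta]
  have hnw : ∀ μ, ρ (tb θ μ) (ρ (na θ) (ρ (nb θ) u)) = ρ (na θ) (ρ (nb θ) u) := fun μ => by
    rw [← act_mul, tb_na, act_mul, act_mul, hwb, hwa]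
  have hbraid : ρ (na θ) (ρ (nb θ) (ρ (na θ) u)) = ρ (nb θ) (ρ (na θ) (ρ (nb θ) u)) := by
    rcases braid (θ := θ) with e | e
    · rw [← act_mul, ← act_mul, e, act_mul, act_mul]
    · rw [← act_mul, ← act_mul, e, act_mul, act_mul, act_mul, hnw]
  -- equal eigenvalues
  have hab : ea = eb := by
    have h3 : av ρ ra (av ρ rc (av ρ rb (ρ (na θ) (ρ (nb θ) (ρ (na θ) u))))) = (ea * eb * ea) • u := by
      rw [← av_move (na_moves h2 rc rb (by decide +kernel)), ← av_move (nb_moves h2 ra rc (by decide +kernel)),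
        hea]
      simp only [map_smul]
      rw [← av_move (na_moves h2 rb rc (by decide +kernel)), heb]
      simp only [map_smul]
      rw [hea, smul_smul, smul_smul]
    have h4 : av ρ rb (av ρ rc (av ρ ra (ρ (nb θ) (ρ (na θ) (ρ (nb θ) u))))) = (eb * ea * eb) • u := by
      rw [← av_move (nb_moves h2 rc ra (by decide +kernel)), ← av_move (na_moves h2 rb rc (by decide +kernel)),
        heb]
      simp only [map_smul]
      rw [← av_move (nb_moves h2 ra rc (by decide +kernel)), hea]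
      simp only [map_smul]
      rw [heb, smul_smul, smul_smul]
    rw [hbraid, ← av_three h2 (relN_of ra rc (by decide +kernel)) (relN_of rb rc (by decide +kernel))
      (by decide +kernel), h4] at h3
    have h5 := smul_left_injective ℂ hu0 h3
    have h6 : (ea - eb) * (ea * eb) = 0 := by linear_combination (-1 : ℂ) * h5
    exact sub_eq_zero.1 ((mul_eq_zero.1 h6).resolve_right (mul_ne_zero ha0 hb0))
  by_cases hm : ea = -1
  swap
  · refine hu0 (no_fixed H.irr H.two_le (gen_top H.hyp) fun g ⟨r, hr, hg⟩ => ?_)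
    refine mem_Fx.1 (?_ : u ∈ Fx ρ (Xs θ r)) g hg
    have hfa' := hfa hm
    have hfb' := hfb (hab ▸ hm)
    have hall : u ∈ Z ρ (ma.val :: mb.val :: (posR ++ [15, 29])) := by
      rw [Z_cons, Z_cons, rootOf_self, rootOf_self]
      exact ⟨⟨huE, hfb'⟩, hfa'⟩
    have hgen : allList (genR.map Fin.val) (fun v => memB v (ma.val :: mb.val :: (posR ++ [15, 29]))) = true := by
      decide +kernel
    exact mem_Fx_of_memB h2 (allList_spec hgen _ (List.mem_map_of_mem hr)) hall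
  subst hm
  subst hab
  rw [neg_one_smul] at hea heb hava havb
  -- the vector of zero sum
  set z := ρ (na θ) u with hz
  set w := ρ (nb θ) u with hw
  have hy1 : (q : ℂ) • z + u ∈ Z ρ posA :=
    Submodule.add_mem _ (Submodule.smul_mem _ _ (map_Z h2 (by decide +kernel) (na_moves h2) hu))
      (Z_le_of_memB h2 (by decide +kernel) hu)
  have hy1a : av ρ ra ((q : ℂ) • z + u) = 0 := by
    rw [map_add, map_smul, hea, av_fix H.hyp fa (mem_Fx_of_memB h2 (by decide +kernel) hu)]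
    module
  obtain ⟨-, hS, hPS⟩ := H.core hy1 hy1a
  have hCu : av ρ mc (av ρ mb u) = ρ (nb θ) z := by
    rw [havb, map_neg, ← av_move (nb_moves h2 ma mc (by decide +kernel)), hava, map_neg, neg_neg]
  have hCz : av ρ mc (av ρ mb z) = ρ (na θ) (ρ (nb θ) z) := by
    rw [hz, ← av_move (na_moves h2 mc mb (by decide +kernel)), ← av_move (na_moves h2 mb mc (by decide +kernel)),
      av_swap (relN_of mb mc (by decide +kernel)), hCu]
  have hPu : av ρ mc (av ρ ma u) = ρ (na θ) w := by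
    rw [hava, map_neg, hz, ← av_move (na_moves h2 mb mc (by decide +kernel)), havb, map_neg, neg_neg]
  have hPw : av ρ mc (av ρ ma w) = ρ (nb θ) (ρ (na θ) w) := by
    rw [hw, ← av_move (nb_moves h2 mc ma (by decide +kernel)), ← av_move (nb_moves h2 ma mc (by decide +kernel)),
      av_swap (relN_of ma mc (by decide +kernel)), hPu]
  have hbb : ρ (nb θ) (ρ (nb θ) z) = z := by
    rw [← act_mul]
    conv_lhs => rw [← hza (negOne θ)]
    rw [← act_mul, nb_sq, act_one]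
  have hbb' : ρ (nb θ) (ρ (nb θ) (ρ (na θ) w)) = ρ (na θ) w := by
    rw [← act_mul]
    conv_lhs => rw [← hnw (negOne θ)]
    rw [← act_mul, nb_sq, act_one]
  have haa : ρ (na θ) (ρ (na θ) w) = w := by
    rw [← act_mul]
    conv_lhs => rw [← hwa (negOne θ)]
    rw [← act_mul, na_sq, act_one]
  set r := ρ (na θ) (ρ (nb θ) ((q : ℂ) • z + u)) with hr
  have hqS : (q : ℂ) • av ρ rc r = (q : ℂ) • w + u := by
    rw [← av_fix H.hyp fa hS, hr, ← av_move (na_moves h2 rb rc (by decide +kernel)),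
      ← av_move (nb_moves h2 mb rb (by decide +kernel)), ← av_move (na_moves h2 ma ra (by decide +kernel)),
      ← av_move (nb_moves h2 mc ma (by decide +kernel))]
    simp only [map_add, map_smul, hCu, hCz, hbb, hnaa, hbraid, hbb', haa]
  have hfin : (q : ℂ) • (av ρ mc (av ρ ma (av ρ rc r))) = r := by
    rw [← map_smul, ← map_smul, hqS]
    simp only [map_add, map_smul, hPu, hPw, hr, hbraid]
    rfl
  rw [hPS, smul_smul] at hfin
  have hq3 : (q : ℂ) * ((q : ℂ) * (q : ℂ)) ≠ 1 := by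
    intro e
    have h : q * (q * q) = 1 := by exact_mod_cast e
    have := H.hyp.one_lt
    nlinarith
  have hr0 : r = 0 := by
    have e : ((q : ℂ) * ((q : ℂ) * (q : ℂ)) - 1) • r = 0 := by rw [sub_smul, one_smul, hfin, sub_self]
    exact (smul_eq_zero.1 e).resolve_left (sub_ne_zero.2 hq3)
  have hy10 : (q : ℂ) • z + u = 0 :=
    act_inj (ρ := ρ) (nb θ) (act_inj (ρ := ρ) (na θ) (by rw [← hr, hr0, map_zero, map_zero]))
  have h7 := congrArg (ρ (na θ)) hy10
  rw [map_add, map_smul, hnaa, map_zero] at h7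
  have h8 : ((q : ℂ) * (q : ℂ) - 1) • u = 0 := by
    have : (q : ℂ) • ((q : ℂ) • u + z) - ((q : ℂ) • z + u) = 0 := by rw [h7, hy10, smul_zero, sub_zero]
    rw [← this]
    module
  refine hu0 ((smul_eq_zero.1 h8).resolve_left (sub_ne_zero.2 fun e => ?_))
  have h : q * q = 1 := by exact_mod_cast e
  have := H.hyp.one_lt
  nlinarith

end Small

end CfsgLib.MinDeg.TwE6
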